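import Cfsg.Agent.Lib.LevCover.Peel

/-!
Degree three.
-/

set_option autoImplicit false

namespace Cfsg.Agent.Lib.LevCover

open Matrix Polynomial
open Cfsg.Agent.Lib.Sourour (blk blk_mul blk_mulVec blk_one blk_00 blk_0s blk_s0 blk_ss eq_blk det_blk_upper
  cons_tail_eq)

variable {F : Type*} [Field F]

theorem cyc_two {M : Matrix (Fin 2) (Fin 2) F} {v : Fin 2 → F} (hv : v ≠ 0) (h : ∀ c : F, M *ᵥ v ≠ c • v) :
    Cyc M v := by
  refine cyc_of_eq_zero fun p hp h0 => ?_
  have he : p = C (p.coeff 1) * Polynomial.X + C (p.coeff 0) := eq_X_add_C_of_natDegree_le_one (by omega)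
  rw [he, map_add, map_mul, aeval_C, aeval_C, aeval_X, Algebra.algebraMap_eq_smul_one,
    Algebra.algebraMap_eq_smul_one, smul_mul_assoc, one_mul, add_mulVec, smul_mulVec, smul_mulVec, one_mulVec] at h0
  by_cases h1 : p.coeff 1 = 0
  · rw [h1, zero_smul, zero_add, smul_eq_zero] at h0
    rw [he, h1, h0.resolve_right hv]; simp
  · exfalso
    refine h (-(p.coeff 0 / p.coeff 1)) ?_
    have h2 := congrArg ((p.coeff 1)⁻¹ • ·) h0
    simp only [smul_add, smul_smul, inv_mul_cancel₀ h1, one_smul, smul_zero] at h2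
    rw [eq_neg_of_add_eq_zero_left h2, neg_smul, div_eq_inv_mul]

theorem similar_two {A B : GL (Fin 2) F} (hA : ∀ c : F, A.1 ≠ c • 1) (hB : ∀ c : F, B.1 ≠ c • 1)
    (ht : B.1.trace = A.1.trace) (hd : B.1.det = A.1.det) : ∃ S : GL (Fin 2) F, B = S * A * S⁻¹ := by
  obtain ⟨v, hv, hv'⟩ := exists_not_eig hA
  obtain ⟨w, hw, hw'⟩ := exists_not_eig hB
  obtain ⟨S, hS, -⟩ := exists_similar (cyc_two hw hw') (cyc_two hv hv')
    (by rw [Matrix.charpoly_fin_two, Matrix.charpoly_fin_two, ht, hd])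
  exact ⟨S, hS⟩

/-- Two conjugates for a target without eigenvalue. -/
theorem pair_two [Fintype F] {A' M : GL (Fin 2) F} (hA : ∀ c : F, A'.1 ≠ c • 1) (hM : NoEig M.1)
    (hdet : GeneralLinearGroup.det M = GeneralLinearGroup.det A' ^ 2) : NF A' 2 M := by
  classical
  set t := A'.1.trace with ht
  set d := A'.1.det with hd
  set s := M.1.trace with hs
  have hd0 : d ≠ 0 := GeneralLinearGroup.det_ne_zero A'
  have hMd : M.1.det = d * d := by
    have := congrArg Units.val hdet
    rw [Units.val_pow_eq_pow_val, det_val, det_val, ← hd, sq] at this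
    exact this
  -- a root free quadratic
  have hroot : ∀ x : F, x * x - s * x + d * d ≠ 0 := by
    intro x hx
    have h0 : (M.1 - x • 1).det = 0 := by
      rw [det_fin_two] at hMd ⊢
      rw [hs, trace_fin_two] at hx
      simp
      linear_combination hx + hMd
    obtain ⟨u, hu, hu'⟩ := Matrix.exists_mulVec_eq_zero_iff.2 h0
    rw [sub_mulVec, smul_mulVec, one_mulVec, sub_eq_zero] at hu'
    exact hu (hM x u hu')
  have hΔ : s * s - 4 * (d * d) ≠ 0 := by
    intro hΔ
    by_cases h2 : (2 : F) = 0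
    · refine hroot d ?_
      have hss : s * s = 0 := by linear_combination hΔ + 2 * d * d * h2
      rw [mul_self_eq_zero.1 hss]
      linear_combination d * d * h2
    · exact hroot (s / 2) (by field_simp; linear_combination -hΔ)
  -- the conic
  set p0 := (t * 2 * (d * d) - s * (t * d)) / (4 * (d * d) - s * s) with hp0
  set r0 := (2 * (t * d) - s * t) / (4 * (d * d) - s * s) with hr0
  have hΔ' : 4 * (d * d) - s * s ≠ 0 := fun e => hΔ (by linear_combination -e)
  have e1 : 2 * p0 + s * r0 = t := by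
    rw [hp0, hr0, mul_div_assoc', mul_div_assoc', ← add_div, div_eq_iff hΔ']; ring
  have e2 : s * p0 + 2 * (d * d) * r0 = t * d := by
    rw [hp0, hr0, mul_div_assoc', mul_div_assoc', ← add_div, div_eq_iff hΔ']; ring
  set c := p0 * p0 + s * p0 * r0 + d * d * (r0 * r0) - d with hc
  obtain ⟨u, v, huv⟩ : ∃ u v : F, u * u + s * u * v + d * d * (v * v) = c := by
    by_cases h2 : (2 : F) = 0
    · have hchar : ringChar F = 2 := CharP.ringChar_of_prime_eq_zero Nat.prime_two (by exact_mod_cast h2)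
      obtain ⟨u, hu⟩ := FiniteField.isSquare_of_char_two hchar c
      exact ⟨u, 0, by rw [hu]; ring⟩
    · have hk : Fintype.card F % 2 = 1 := (Nat.mod_two_eq_zero_or_one _).resolve_left fun e => h2 (by
        have hchar := FiniteField.even_card_iff_char_two.2 e
        haveI : CharP F 2 := hchar ▸ ringChar.charP F
        exact CharTwo.two_eq_zero)
      set e := -(s * s - 4 * (d * d)) / 4 with he
      have h4 : (4 : F) ≠ 0 := by
        rw [show (4 : F) = 2 * 2 by norm_num]; exact mul_ne_zero h2 h2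
      have he0 : e ≠ 0 := div_ne_zero (neg_ne_zero.2 hΔ) h4
      obtain ⟨x, y, hxy⟩ := FiniteField.exists_root_sum_quadratic (f := Polynomial.X ^ 2)
        (g := C e * Polynomial.X ^ 2 - C c) (degree_X_pow 2) (by
          rw [degree_sub_eq_left_of_degree_lt, degree_C_mul_X_pow 2 he0]
          · rfl
          · rw [degree_C_mul_X_pow 2 he0]; exact lt_of_le_of_lt degree_C_le (by norm_num)) hk
      simp at hxy
      refine ⟨x - s * y / 2, y, ?_⟩
      rw [he] at hxy
      field_simp at hxy ⊢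
      linear_combination hxy
  set p := p0 + u with hp
  set r := r0 + v with hr
  have hconic : p * p + s * p * r + d * d * (r * r) - t * p - t * d * r + d = 0 := by
    rw [hp, hr]
    linear_combination huv + (p0 + u) * e1 + (r0 + v) * e2
  -- in companion form
  obtain ⟨w0, hw0, hw0'⟩ := exists_not_eig (M := M.1) fun c e => by
    have h1 := congrFun (hM c (Pi.single 0 1) (by rw [e, smul_mulVec, one_mulVec])) 0
    simp at h1
  obtain ⟨C0, hC0⟩ := exists_GL (S := !![0, -(d * d); 1, s]) (by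
    rw [det_fin_two]; simp [hd0])
  have hCne : ∀ c : F, C0.1 *ᵥ Pi.single 0 1 ≠ c • Pi.single 0 1 := fun c e => by
    have := congrFun e 1
    simp [hC0, mulVec_single_one] at this
  obtain ⟨S, hS, -⟩ := exists_similar (X := M) (Y := C0) (cyc_two hw0 hw0') (cyc_two (by simp) hCne) (by
    rw [Matrix.charpoly_fin_two, Matrix.charpoly_fin_two, hMd, ← hs, hC0, det_fin_two_of, trace_fin_two_of]
    simp)
  obtain ⟨B1, hB1⟩ := exists_GL (S := !![p, p * s + d * d * r - t * d; r, t - p]) (by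
    rw [det_fin_two_of]
    rw [show p * (t - p) - (p * s + d * d * r - t * d) * r = d by linear_combination -hconic]
    exact hd0)
  have hB1d : B1.1.det = d := by rw [hB1, det_fin_two_of]; linear_combination -hconic
  have hB1t : B1.1.trace = t := by rw [hB1, trace_fin_two_of]; ring
  set B2 := B1⁻¹ * C0 with hB2
  have hB2d : B2.1.det = d := by
    have h1 : B1.1 * B2.1 = C0.1 := by rw [← Units.val_mul, hB2, mul_inv_cancel_left]
    have := congrArg Matrix.det h1
    rw [det_mul, hB1d, hC0, det_fin_two_of] at this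
    exact mul_left_cancel₀ hd0 (by linear_combination this)
  have hB2t : B2.1.trace = t := by
    have hinv : (B1⁻¹).1 = d⁻¹ • !![t - p, -(p * s + d * d * r - t * d); -r, p] := by
      rw [Matrix.coe_units_inv]
      refine Matrix.inv_eq_right_inv ?_
      rw [Matrix.mul_smul, hB1, Matrix.one_fin_two]
      ext i j
      fin_cases i <;> fin_cases j <;> simp [Matrix.mul_apply, Fin.sum_univ_two] <;>
        first
          | (field_simp; linear_combination -hconic)
          | exact Or.inr (by ring)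
          | ring
    rw [hB2, Units.val_mul, hinv, hC0, trace_fin_two]
    simp [Matrix.mul_apply, Fin.sum_univ_two]
    field_simp
    ring
  have hCM : ∀ (a : F) (w : Fin 2 → F), C0.1 *ᵥ w = a • w → w = 0 := fun a w hw => by
    have h1 : M.1 *ᵥ (S.1 *ᵥ w) = a • (S.1 *ᵥ w) := by
      rw [hS, mulVec_mulVec, ← Units.val_mul, inv_mul_cancel_right, Units.val_mul, ← mulVec_mulVec, hw, mulVec_smul]
    have h2 := congrArg ((S⁻¹).1 *ᵥ ·) (hM a _ h1)
    simp only [mulVec_zero, mulVec_mulVec, Units.inv_mul, one_mulVec] at h2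
    exact h2
  have hsc : ∀ (Y Z : GL (Fin 2) F), Y.1.det = d → Y.1.trace = t → Z.1.det = d → Z.1.trace = t →
      C0.1 = Y.1 * Z.1 ∨ C0.1 = Z.1 * Y.1 → ∀ c : F, Y.1 ≠ c • 1 := by
    intro Y Z hYd hYt hZd hZt hYZ c e
    rw [e, det_smul, det_one, Fintype.card_fin, mul_one] at hYd
    rw [e, trace_smul, trace_one, Fintype.card_fin, smul_eq_mul] at hYt
    have h0 : (Z.1 - c • 1).det = 0 := by
      rw [det_fin_two] at hZd ⊢
      rw [trace_fin_two] at hZt
      simp
      push_cast at hYt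
      linear_combination hZd - c * hZt - hYd + c * hYt
    obtain ⟨w, hw, hw'⟩ := Matrix.exists_mulVec_eq_zero_iff.2 h0
    rw [sub_mulVec, smul_mulVec, one_mulVec, sub_eq_zero] at hw'
    refine hw (hCM (c * c) w ?_)
    rcases hYZ with h | h <;> rw [h, e, ← mulVec_mulVec]
    · rw [hw', mulVec_smul, smul_mulVec, one_mulVec, smul_smul]
    · rw [smul_mulVec, one_mulVec, mulVec_smul, hw', smul_smul]
  have hprod : C0.1 = B1.1 * B2.1 := by rw [← Units.val_mul, hB2, mul_inv_cancel_left]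
  obtain ⟨S1, hS1⟩ := similar_two hA (hsc B1 B2 hB1d hB1t hB2d hB2t (Or.inl hprod)) hB1t hB1d
  obtain ⟨S2, hS2⟩ := similar_two hA (hsc B2 B1 hB2d hB2t hB1d hB1t (Or.inr hprod)) hB2t hB2d
  refine ⟨[(S * S1) * A' * (S * S1)⁻¹, (S * S2) * A' * (S * S2)⁻¹], rfl, fun B hB => ?_, ?_, fun a w hw => ?_⟩
  · simp only [List.mem_cons, List.not_mem_nil, or_false] at hB
    rcases hB with rfl | rfl <;> exact ⟨_, rfl⟩
  · have h1 : C0 = B1 * B2 := Units.ext hprod
    rw [hS, h1, hS1, hS2]
    simp only [List.prod_cons, List.prod_nil, mul_one]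
    group
  · by_contra hno
    push Not at hno
    have h1 := hno _ List.mem_cons_self
    have h2 := hno _ (List.mem_cons_of_mem _ List.mem_cons_self)
    have h3 : M.1 *ᵥ w = (a * a) • w := by
      have : M = (S * S1) * A' * (S * S1)⁻¹ * ((S * S2) * A' * (S * S2)⁻¹) := by
        rw [hS, show C0 = B1 * B2 from Units.ext hprod, hS1, hS2]; group
      rw [this, Units.val_mul, ← mulVec_mulVec, h2, mulVec_smul, h1, smul_smul]
    exact hw (hM _ w h3)

/-- A first factor in degree three with a prescribed trace. -/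
theorem three_tune {A g : GL (Fin 3) F} (hA : ∃ w, Cyc A.1 w) (hg : ∀ c : F, g.1 ≠ c • 1) {Λ : F} (hΛ : Λ ≠ 0)
    (σ : F) :
    ∃ (B P : GL (Fin 3) F) (r : Fin 2 → F) (M : GL (Fin 2) F), Fac ⊥ A B ∧
      (P⁻¹ * (B⁻¹ * g) * P).1 = blk Λ r 0 M.1 ∧ M.1.trace = σ ∧ M.1 1 0 ≠ 0 ∧
      ∀ c : F, (P⁻¹ * B * P).1 *ᵥ Pi.single 0 1 ≠ c • Pi.single 0 1 := by
  classical
  obtain ⟨w, hw⟩ := hA
  set f := A.1.charpoly with hf
  have hfd : f.natDegree = 3 := by rw [hf, Matrix.charpoly_natDegree_eq_dim, Fintype.card_fin]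
  have hcd : (comp 3 f).det = A.1.det := by
    rw [Matrix.det_eq_sign_charpoly_coeff, comp_charpoly A.1.charpoly_monic hfd,
      ← Matrix.det_eq_sign_charpoly_coeff]
  set c0 := -f.coeff 0 with hc0
  set c1 := -f.coeff 1 with hc1
  set c2 := -f.coeff 2 with hc2
  have hc00 : c0 ≠ 0 := fun h => GeneralLinearGroup.det_ne_zero A (by
    rw [Matrix.det_eq_sign_charpoly_coeff, ← hf, show f.coeff 0 = 0 by rwa [hc0, neg_eq_zero] at h, mul_zero])
  have hf0 : f.coeff 0 ≠ 0 := by simpa [hc0] using hc00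
  obtain ⟨C, hC⟩ := exists_GL (S := comp 3 f) (hcd ▸ GeneralLinearGroup.det_ne_zero A)
  obtain ⟨Q, hQ, -⟩ := exists_similar (X := A) (Y := C) hw (w := Pi.single (0 : Fin 3) 1)
    (by rw [hC]; exact comp_cyc f (by omega)) (by rw [hC, comp_charpoly A.1.charpoly_monic hfd])
  obtain ⟨v, hv0, hgv⟩ := exists_not_eig hg
  have hvw : ∀ c : F, Λ⁻¹ • (g.1 *ᵥ v) ≠ c • v := fun c e => hgv (Λ * c) (by
    rw [← smul_smul, ← e, smul_smul, mul_inv_cancel₀ hΛ, one_smul])
  obtain ⟨P, hP⟩ := extend_cols (show 2 ≤ 3 by omega) ![v, Λ⁻¹ • (g.1 *ᵥ v)] (pair_indep hv0 hvw)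
  have hP0 : P.1 *ᵥ Pi.single 0 1 = v := hP 0
  have hP1 : P.1 *ᵥ Pi.single 1 1 = Λ⁻¹ • (g.1 *ᵥ v) := hP 1
  set G := P⁻¹ * g * P with hG
  have hG0 : G.1 *ᵥ Pi.single 0 1 = Λ • Pi.single 1 1 := by
    rw [hG, Units.val_mul, Units.val_mul, ← mulVec_mulVec, ← mulVec_mulVec, hP0,
      show g.1 *ᵥ v = Λ • (P.1 *ᵥ Pi.single 1 1) by rw [hP1, smul_smul, mul_inv_cancel₀ hΛ, one_smul],
      mulVec_smul, mulVec_mulVec, Units.inv_mul, one_mulVec]
  have hG00 : ∀ i, G.1 i 0 = if i = 1 then Λ else 0 := fun i => by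
    have := congrFun hG0 i
    rw [mulVec_single_one, Matrix.col_apply] at this
    rw [this]; simp [Pi.single_apply]
  set p0 := G.1 0 1 with hp0
  set p1 := G.1 1 1 with hp1
  set p2 := G.1 2 1 with hp2
  set r0 := G.1 0 2 with hr0
  set r1 := G.1 1 2 with hr1
  set r2 := G.1 2 2 with hr2
  set t : F := (GeneralLinearGroup.det Q : F) / (GeneralLinearGroup.det P : F) with ht
  have ht0 : t ≠ 0 := div_ne_zero (Units.ne_zero _) (Units.ne_zero _)
  have hp : p2 = 0 → p0 ≠ 0 := by
    intro h2 h0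
    apply GeneralLinearGroup.det_ne_zero G
    rw [det_fin_three, hG00 0, hG00 1, hG00 2, ← hp0, ← hp1, ← hp2, h2, h0]
    simp
  obtain ⟨α, hα⟩ : ∃ α : F, p0 - α * p2 / t ≠ 0 := by
    by_cases h2 : p2 = 0
    · exact ⟨0, by simpa using hp h2⟩
    · refine ⟨(p0 - 1) * t / p2, ?_⟩
      field_simp
      ring_nf
      exact one_ne_zero
  set sl := p0 - α * p2 / t with hsl
  set β : F := ((σ - p2 / t) * c0 + c2 * sl - t * r0 + α * r2) / sl with hβ
  obtain ⟨R, hR⟩ := exists_GL (S := !![1, 0, α; 0, 1, β; 0, 0, t]) (by rw [det_fin_three]; simp [ht0])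
  have hRd : (GeneralLinearGroup.det R : F) = t := by rw [det_val, hR, det_fin_three]; simp
  set B0 := R * C * R⁻¹ with hB0
  have hB00 : B0.1 *ᵥ Pi.single 0 1 = Pi.single 1 1 := by
    have h1 : R.1 *ᵥ Pi.single 0 1 = Pi.single 0 1 := by
      rw [hR]; funext i; fin_cases i <;> simp [mulVec_single_one]
    have h2 : R.1 *ᵥ Pi.single 1 1 = Pi.single 1 1 := by
      rw [hR]; funext i; fin_cases i <;> simp [mulVec_single_one]
    have h3 : C.1 *ᵥ Pi.single 0 1 = Pi.single 1 1 := by rw [hC]; exact comp_single f rfl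
    conv_lhs => rw [← h1, hB0, Units.val_mul, Units.val_mul, mulVec_mulVec, Matrix.mul_assoc, Units.inv_mul,
      Matrix.mul_one, ← mulVec_mulVec, h3, h2]
  have hCi : (C⁻¹).1 = !![-c1 / c0, 1, 0; -c2 / c0, 0, 1; 1 / c0, 0, 0] := by
    rw [Matrix.coe_units_inv]
    refine Matrix.inv_eq_right_inv ?_
    rw [hC]
    ext i j
    fin_cases i <;> fin_cases j <;>
      simp [comp, Matrix.mul_apply, Fin.sum_univ_three, hc0, hc1, hc2, Matrix.one_apply] <;>
      field_simp <;> ring
  have hRi : (R⁻¹).1 = !![1, 0, -α / t; 0, 1, -β / t; 0, 0, 1 / t] := by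
    rw [Matrix.coe_units_inv]
    refine Matrix.inv_eq_right_inv ?_
    rw [hR]
    ext i j
    fin_cases i <;> fin_cases j <;> simp [Matrix.mul_apply, Fin.sum_univ_three, Matrix.one_apply] <;>
      field_simp <;> ring
  set H := (B0⁻¹ * G).1 with hH
  have hGe : G.1 = !![0, p0, r0; Λ, p1, r1; 0, p2, r2] := by
    ext i j
    fin_cases i <;> fin_cases j <;> simp [hG00, hp0, hp1, hp2, hr0, hr1, hr2]
  have hHe : H = R.1 * ((C⁻¹).1 * ((R⁻¹).1 * G.1)) := by
    rw [hH, hB0, ← Units.val_mul, ← Units.val_mul, ← Units.val_mul]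
    congr 1
    group
  have hH0 : ∀ i, H i 0 = if i = 0 then Λ else 0 := by
    intro i
    rw [hHe, hR, hCi, hRi, hGe]
    fin_cases i <;> simp [Matrix.mul_apply, Fin.sum_univ_three]
  have hblk : H = blk Λ (fun j => H 0 j.succ) 0 (Matrix.of fun i j => H i.succ j.succ) := by
    conv_lhs => rw [eq_blk H]
    congr 1
    · simp [hH0]
    · funext i; simp [hH0, Fin.succ_ne_zero]
  obtain ⟨M, hM⟩ := exists_GL (S := Matrix.of fun i j : Fin 2 => H i.succ j.succ) (fun e => by
    have h1 := congrArg Matrix.det hblk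
    rw [det_blk_upper, e, mul_zero] at h1
    exact GeneralLinearGroup.det_ne_zero (B0⁻¹ * G) h1)
  refine ⟨P * B0 * P⁻¹, P, fun j => H 0 j.succ, M, ⟨P * R * Q⁻¹, ?_, ?_⟩, ?_, ?_, ?_, ?_⟩
  · rw [Subgroup.mem_bot]
    refine Units.ext ?_
    rw [map_mul, map_mul, map_inv, Units.val_mul, Units.val_mul, hRd, Units.val_inv_eq_inv_val, Units.val_one, ht]
    field_simp
    exact div_self (mul_ne_zero (Units.ne_zero _) (Units.ne_zero _))
  · rw [hB0, hQ]; group
  · rw [hM, ← hblk, hH]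
    congr 1
    rw [hG]; group
  · rw [hM, trace_fin_two]
    show H 1 1 + H 2 2 = σ
    rw [hHe, hR, hCi, hRi, hGe]
    simp [Matrix.mul_apply, Fin.sum_univ_three]
    have hb : β * sl = (σ - p2 / t) * c0 + c2 * sl - t * r0 + α * r2 := by rw [hβ, div_mul_cancel₀ _ hα]
    rw [hsl] at hb
    field_simp at hb ⊢
    linear_combination hb
  · rw [hM]
    show H 2 1 ≠ 0
    rw [hHe, hR, hCi, hRi, hGe]
    simp [Matrix.mul_apply, Fin.sum_univ_three]
    rw [hsl] at hα
    refine ⟨ht0, hc00, fun e => hα ?_⟩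
    field_simp at e ⊢
    linear_combination e
  · intro c e
    rw [show P⁻¹ * (P * B0 * P⁻¹) * P = B0 by group, hB00] at e
    simpa using congrFun e 1

end Cfsg.Agent.Lib.LevCover
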