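import Mathlib

/-!
Products of conjugates in the general linear group, the determinants of the conjugators taken in a
fixed subgroup `K` of the scalars: `K = ⊥` gives conjugacy under `SL`, `K = ⊤` under `GL`.
-/

set_option autoImplicit false

namespace Cfsg.Agent.Lib.LevCover

open Matrix

variable {F : Type*} [Field F] {ι : Type*} [Fintype ι] [DecidableEq ι]

/-- `B` is a conjugate of `A` by an element with determinant in `K`. -/
def Fac (K : Subgroup Fˣ) (A B : GL ι F) : Prop :=
  ∃ S : GL ι F, GeneralLinearGroup.det S ∈ K ∧ B = S * A * S⁻¹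

/-- `g` is a product of `j` such conjugates. -/
inductive One (K : Subgroup Fˣ) (A : GL ι F) : ℕ → GL ι F → Prop
  | nil : One K A 0 1
  | cons {j : ℕ} {B g : GL ι F} : Fac K A B → One K A j g → One K A (j + 1) (B * g)

/-- Every conjugate of `X` is such a product. -/
def Cls (K : Subgroup Fˣ) (A : GL ι F) (j : ℕ) (X : GL ι F) : Prop :=
  ∀ S : GL ι F, One K A j (S * X * S⁻¹)

/-- The centralizer of `X` reaches every determinant modulo `K`. -/
def Full (K : Subgroup Fˣ) (X : GL ι F) : Prop :=
  ∀ s : Fˣ, ∃ Z : GL ι F, Z * X = X * Z ∧ GeneralLinearGroup.det Z * s⁻¹ ∈ K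

variable {K : Subgroup Fˣ} {A : GL ι F}

theorem Fac.conj {B S : GL ι F} (h : Fac K A B) (hS : GeneralLinearGroup.det S ∈ K) :
    Fac K A (S * B * S⁻¹) := by
  obtain ⟨T, hT, rfl⟩ := h
  exact ⟨S * T, by rw [map_mul]; exact K.mul_mem hS hT, by group⟩

theorem Fac.self (K : Subgroup Fˣ) (A : GL ι F) : Fac K A A :=
  ⟨1, by simp, by group⟩

theorem One.conj {j : ℕ} {g S : GL ι F} (h : One K A j g) (hS : GeneralLinearGroup.det S ∈ K) :
    One K A j (S * g * S⁻¹) := by
  induction h with
  | nil => simpa using One.nil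
  | @cons j B g hB _ ih =>
    have h := One.cons (hB.conj hS) ih
    rwa [show S * B * S⁻¹ * (S * g * S⁻¹) = S * (B * g) * S⁻¹ by group] at h

theorem one_one_iff {g : GL ι F} : One K A 1 g ↔ Fac K A g := by
  constructor
  · intro h
    cases h with
    | cons hB hg =>
      cases hg
      simpa using hB
  · intro h
    simpa using One.cons h One.nil

theorem One.mul {i j : ℕ} {x y : GL ι F} (hx : One K A i x) (hy : One K A j y) : One K A (i + j) (x * y) := by
  induction hx with
  | nil => simpa using hy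
  | @cons i B g hB _ ih =>
    rw [mul_assoc, show i + 1 + j = i + j + 1 by omega]
    exact One.cons hB ih

theorem One.det {j : ℕ} {g : GL ι F} (h : One K A j g) :
    GeneralLinearGroup.det g = GeneralLinearGroup.det A ^ j := by
  induction h with
  | nil => simp
  | @cons j B g hB _ ih =>
    obtain ⟨S, -, rfl⟩ := hB
    rw [map_mul, ih, map_mul, map_mul, map_inv, mul_comm (GeneralLinearGroup.det S),
      mul_inv_cancel_right, pow_succ']

theorem One.mono {K' : Subgroup Fˣ} (hle : K ≤ K') {j : ℕ} {g : GL ι F} (h : One K A j g) : One K' A j g := by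
  induction h with
  | nil => exact One.nil
  | cons hB _ ih =>
    obtain ⟨S, hS, hB'⟩ := hB
    exact One.cons ⟨S, hle hS, hB'⟩ ih

theorem full_top (X : GL ι F) : Full (⊤ : Subgroup Fˣ) X :=
  fun _ => ⟨1, by group, Subgroup.mem_top _⟩

/-- One member gives the whole class when the centralizer is large. -/
theorem One.cls {j : ℕ} {X : GL ι F} (h : One K A j X) (hF : Full K X) : Cls K A j X := by
  intro S
  obtain ⟨Z, hZ, hd⟩ := hF ((GeneralLinearGroup.det S)⁻¹)
  rw [inv_inv] at hd
  have h1 := h.conj (S := S * Z) (by rw [map_mul, mul_comm]; exact hd)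
  rwa [show S * Z * X * (S * Z)⁻¹ = S * X * S⁻¹ by
    rw [_root_.mul_inv_rev, mul_assoc S Z X, hZ]; group] at h1

theorem Full.conj {X : GL ι F} (hF : Full K X) (S : GL ι F) : Full K (S * X * S⁻¹) := by
  intro s
  obtain ⟨Z, hZ, hd⟩ := hF s
  refine ⟨S * Z * S⁻¹, ?_, ?_⟩
  · rw [show S * Z * S⁻¹ * (S * X * S⁻¹) = S * (Z * X) * S⁻¹ by group, hZ]; group
  · rwa [map_mul, map_mul, map_inv, mul_comm (GeneralLinearGroup.det S), mul_inv_cancel_right]

theorem Cls.conj {j : ℕ} {X : GL ι F} (h : Cls K A j X) (S : GL ι F) : Cls K A j (S * X * S⁻¹) := by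
  intro T
  rw [show T * (S * X * S⁻¹) * T⁻¹ = T * S * X * (T * S)⁻¹ by group]
  exact h _

theorem Cls.self {j : ℕ} {X : GL ι F} (h : Cls K A j X) : One K A j X := by simpa using h 1

theorem Cls.mul {i j : ℕ} {X Y g : GL ι F} (hX : Cls K A i X) (hY : Cls K A j Y) (S T : GL ι F)
    (hg : g = S * X * S⁻¹ * (T * Y * T⁻¹)) : Cls K A (i + j) g := by
  intro R
  subst hg
  rw [show R * (S * X * S⁻¹ * (T * Y * T⁻¹)) * R⁻¹ =
    R * S * X * (R * S)⁻¹ * (R * T * Y * (R * T)⁻¹) by group]
  exact One.mul (hX _) (hY _)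

/-- A factor prescribed up to a determinant, when the class of the factor is closed. -/
theorem Cls.of_full_base (hF : Full K A) {B : GL ι F} {S : GL ι F} (hB : B = S * A * S⁻¹) : Cls K A 1 B := by
  subst hB
  exact ((one_one_iff.2 (Fac.self K A)).cls hF).conj S

/-- Similar matrices in unit form. -/
theorem exists_GL {S : Matrix ι ι F} (h : S.det ≠ 0) : ∃ g : GL ι F, g.1 = S :=
  ⟨((Matrix.isUnit_iff_isUnit_det S).2 (isUnit_iff_ne_zero.2 h)).unit, rfl⟩

theorem det_val (g : GL ι F) : (GeneralLinearGroup.det g : F) = g.1.det :=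
  GeneralLinearGroup.val_det_apply g

theorem eq_conj_of_mul {g h S : GL ι F} (e : g.1 * S.1 = S.1 * h.1) : g = S * h * S⁻¹ := by
  rw [eq_mul_inv_iff_mul_eq]
  exact Units.ext e

end Cfsg.Agent.Lib.LevCover
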