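import Cfsg.Agent.Lib.LevCover.Cyclic

/-!
A companion block times a conjugate of itself: upper triangular with lines as eigenspaces and a prescribed
diagonal `x₀, …, x₀, x, y`.
-/

set_option autoImplicit false

namespace Cfsg.Agent.Lib.LevCover

open Matrix Polynomial

variable {F : Type*} [Field F]

/-- All eigenspaces are lines. -/
def KerLine {ι : Type*} [Fintype ι] (M : Matrix ι ι F) : Prop :=
  ∀ (μ : F) (u w : ι → F), u ≠ 0 → M *ᵥ u = μ • u → M *ᵥ w = μ • w → ∃ c : F, w = c • u

/-- No eigencovector of `X` for `μ` is one of `R`. -/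
def LeftSafe {ι : Type*} [Fintype ι] (R X : Matrix ι ι F) (μ : F) : Prop :=
  ∀ (ψ : ι → F) (l : F), ψ ≠ 0 → ψ ᵥ* X = μ • ψ → ψ ᵥ* R ≠ l • ψ

/-- No eigenvector of `X` for `μ` is one of `C`. -/
def RightSafe {ι : Type*} [Fintype ι] (C X : Matrix ι ι F) (μ : F) : Prop :=
  ∀ (w : ι → F) (c : F), w ≠ 0 → X *ᵥ w = μ • w → C *ᵥ w ≠ c • w

/-- Enough elements to avoid three values. -/
def Four (F : Type*) [Field F] : Prop := ∀ a b c : F, ∃ t : F, t ≠ a ∧ t ≠ b ∧ t ≠ c

theorem exists_alpha (h4 : Four F) (l : ℕ → F) (hl : ∀ i, l i ≠ 0) :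
    ∃ α : ℕ → F, α 0 = 0 ∧ ∀ i, α (i + 1) * l i - l (i + 1) * α i ≠ 0 := by
  choose g hg using fun v : F => h4 v v v
  refine ⟨fun n => Nat.rec 0 (fun i a => g (l (i + 1) * a / l i)) n, rfl, fun i => ?_⟩
  intro h
  refine (hg (l (i + 1) * Nat.rec 0 (fun i a => g (l (i + 1) * a / l i)) i / l i)).1 ?_
  rw [eq_div_iff (hl i)]
  linear_combination h

theorem avoid_aux (h4 : Four F) {p q r s : F} (hq : q ≠ 0) (hs : s ≠ 0) :
    ∃ t : F, p + q * t ≠ 0 ∧ r + s * t ≠ 0 := by
  obtain ⟨t, h1, h2, -⟩ := h4 (-p / q) (-r / s) 0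
  refine ⟨t, fun h => h1 ?_, fun h => h2 ?_⟩
  · rw [eq_div_iff hq]; linear_combination h
  · rw [eq_div_iff hs]; linear_combination h

theorem avoid_quad (h4 : Four F) {p q A B E : F} (hq : q ≠ 0) (hE : E ≠ 0) :
    ∃ t : F, p + q * t ≠ 0 ∧ A + B * t + E * t ^ 2 ≠ 0 := by
  by_cases hr : ∃ r1, A + B * r1 + E * r1 ^ 2 = 0
  · obtain ⟨r1, hr1⟩ := hr
    obtain ⟨t, h1, h2, h3⟩ := h4 (-p / q) r1 (-B / E - r1)
    refine ⟨t, fun h => h1 ?_, fun h => ?_⟩
    · rw [eq_div_iff hq]; linear_combination h
    · have hz : (t - r1) * (E * (t + r1) + B) = 0 := by linear_combination h - hr1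
      rcases mul_eq_zero.1 hz with h' | h'
      · exact h2 (sub_eq_zero.1 h')
      · refine h3 ?_
        rw [eq_sub_iff_add_eq, eq_div_iff hE]
        linear_combination h'
  · push Not at hr
    obtain ⟨t, h1, -, -⟩ := h4 (-p / q) 0 0
    exact ⟨t, fun h => h1 (by rw [eq_div_iff hq]; linear_combination h), hr t⟩

variable {k : ℕ}

/-- The reversed chain. -/
noncomputable def chain (m : ℕ) (lead : ℕ → F) : Matrix (Fin m) (Fin m) F :=
  Matrix.of fun i j => if i = Fin.rev j then lead j.val else 0

/-- The unipotent correction: `eᵢ ↦ eᵢ + αᵢ₋₁ eᵢ₋₁` for `i ≥ 2`. -/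
def shear (m : ℕ) (α : ℕ → F) : Matrix (Fin m) (Fin m) F :=
  Matrix.of fun i j => if i = j then 1 else if i.val + 1 = j.val ∧ 1 ≤ i.val then α i.val else 0

theorem chain_single {m : ℕ} (lead : ℕ → F) (j : Fin m) :
    chain m lead *ᵥ Pi.single j 1 = lead j.val • Pi.single (Fin.rev j) 1 := by
  funext i
  simp [chain, mulVec_single_one, Pi.single_apply]

theorem det_chain (m : ℕ) : ∃ κ : F, κ ≠ 0 ∧ (κ = 1 ∨ κ = -1) ∧
    ∀ lead : ℕ → F, (chain m lead).det = κ * ∏ j : Fin m, lead j.val := by
  refine ⟨((Equiv.Perm.sign (Fin.revPerm : Equiv.Perm (Fin m)) : ℤ) : F), ?_, ?_, fun lead => ?_⟩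
  · rcases Int.units_eq_one_or (Equiv.Perm.sign (Fin.revPerm : Equiv.Perm (Fin m))) with h | h <;> simp [h]
  · rcases Int.units_eq_one_or (Equiv.Perm.sign (Fin.revPerm : Equiv.Perm (Fin m))) with h | h <;> simp [h]
  have e : chain m lead = (Matrix.diagonal fun j : Fin m => lead j.val).submatrix Fin.revPerm id := by
    ext i j
    simp only [chain, Matrix.of_apply, submatrix_apply, id, Fin.revPerm_apply, Matrix.diagonal_apply]
    by_cases h : i = Fin.rev j
    · simp [h, Fin.rev_rev]
    · have : Fin.rev i ≠ j := fun h' => h (by rw [← h', Fin.rev_rev])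
      simp [h, this]
  rw [e, Matrix.det_permute, det_diagonal]

theorem shear_det {m : ℕ} (α : ℕ → F) : (shear m α).det = 1 := by
  rw [Matrix.det_of_isUpperTriangular]
  · simp [shear]
  · intro i j h
    have h' : j.val < i.val := h
    have hne : i ≠ j := fun e => by rw [e] at h'; omega
    simp [shear, hne, show ¬(i.val + 1 = j.val) by omega]

theorem shear_apply {m : ℕ} (α : ℕ → F) (u : Fin m → F) (i : Fin m) :
    (shear m α *ᵥ u) i = u i + if h : 1 ≤ i.val ∧ i.val + 1 < m then α i.val * u ⟨i.val + 1, h.2⟩ else 0 := by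
  rw [Matrix.mulVec]
  simp only [dotProduct]
  by_cases h : 1 ≤ i.val ∧ i.val + 1 < m
  · rw [dif_pos h, Finset.sum_eq_add i ⟨i.val + 1, h.2⟩ (by simp [Fin.ext_iff])]
    · simp [shear, Fin.ext_iff, h.1]
    · intro l _ hl
      have h1 : l.val ≠ i.val + 1 := fun e => hl.2 (Fin.ext e)
      simp [shear, Ne.symm hl.1, Ne.symm h1]
    · simp
    · simp
  · rw [dif_neg h, add_zero, Finset.sum_eq_single i]
    · simp [shear]
    · intro l _ hl
      have hll := l.isLt
      simp [shear, Ne.symm hl]
      intro h1 h2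
      omega
    · simp

/-- The block lemma. -/
theorem block_big (h4 : Four F) (k : ℕ) {f : F[X]} (hf0 : f.coeff 0 ≠ 0) {x0 : F} (hx0 : x0 ≠ 0) :
    ∃ D : F, D ≠ 0 ∧ (∃ κ : F, (κ = 1 ∨ κ = -1) ∧ D = κ * ∏ j : Fin (k + 2), x0 ^ j.val) ∧ ∀ x : F, x ≠ 0 → ∃ (T : GL (Fin (k + 3)) F) (X : Matrix (Fin (k + 3)) (Fin (k + 3)) F),
      (GeneralLinearGroup.det T : F) * x = D ∧
      X = T.1 * comp (k + 3) f * (T⁻¹).1 * comp (k + 3) f ∧
      (∀ i j : Fin (k + 3), j < i → X i j = 0) ∧
      (∀ i : Fin (k + 3), i.val < k + 1 → X i i = x0) ∧ X ⟨k + 1, by omega⟩ ⟨k + 1, by omega⟩ = x ∧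
      KerLine X ∧ (∀ μ, (μ = x ∨ μ ≠ x0) → LeftSafe (T.1 * comp (k + 3) f * (T⁻¹).1) X μ) ∧
      RightSafe (comp (k + 3) f) X x0 := by
  obtain ⟨κ, hκ, hκ', hdet⟩ := det_chain (F := F) (k + 3)
  refine ⟨κ * ∏ j : Fin (k + 2), x0 ^ j.val, mul_ne_zero hκ (Finset.prod_ne_zero_iff.2 fun j _ =>
    pow_ne_zero _ hx0), ⟨κ, hκ', rfl⟩, fun x hx => ?_⟩
  set l : ℕ → F := fun i => if i = k + 1 then x else x0 with hl
  have hl0 : ∀ i, l i ≠ 0 := fun i => by by_cases h : i = k + 1 <;> simp [hl, h, hx, hx0]
  have hlk : l k = x0 := by simp [hl]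
  have hlk1 : l (k + 1) = x := by simp [hl]
  obtain ⟨α₀, hα00, hα₀⟩ := exists_alpha h4 l hl0
  -- the lead coefficients of the chain
  set lead : ℕ → F := fun j => match j with
    | 0 => x⁻¹
    | j + 1 => x0 ^ j with hlead
  have hlead0 : ∀ j, lead j ≠ 0 := fun j => by cases j <;> simp [hlead, hx, hx0]
  have hstep : ∀ j, j + 2 ≤ k + 3 → lead (j + 1) = lead j * l (k + 1 - j) := by
    intro j hj
    cases j with
    | zero => simp [hlead, hlk1, hx]
    | succ j => simp [hlead, hl, pow_succ, show k - j ≠ k + 1 by omega]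
  set C := comp (k + 3) f with hC
  set c : Fin (k + 3) → F := fun i => -f.coeff i.val with hc
  set γ : F := (lead (k + 2))⁻¹ with hγ
  have hγ0 : γ ≠ 0 := inv_ne_zero (hlead0 (k + 2))
  set y : F := c 0 * (γ * (c 0 * lead 0)) with hy
  have hc0 : c 0 ≠ 0 := by simp [hc, hf0]
  have hy0 : y ≠ 0 := mul_ne_zero hc0 (mul_ne_zero hγ0 (mul_ne_zero hc0 (hlead0 0)))
  set cl : Fin (k + 3) := ⟨k + 2, by omega⟩ with hcl
  set cm : Fin (k + 3) := ⟨k + 1, by omega⟩ with hcm
  set ck : Fin (k + 3) := ⟨k, by omega⟩ with hck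
  set K1 : F := c 0 * (γ * (c ⟨1, by omega⟩ * lead 1)) + x * c cl with hK1
  set ak : F := if 1 ≤ k then α₀ k else 0 with hak
  set P : F := c 0 * (γ * (c ⟨2, by omega⟩ * lead 2)) + x0 * c cm - ak * K1 with hP
  set Q : F := x0 * c cl + ak * y with hQ
  -- the free parameter
  obtain ⟨a, ha1, ha2, ha3⟩ : ∃ a : F, (x = x0 → -(x * ak) + x0 * a ≠ 0) ∧ (y = x → K1 + -y * a ≠ 0) ∧
      (y = x0 → x ≠ x0 → (x0 - x) * (P + Q * a) + (x0 * a - x * ak) * (K1 + -y * a) ≠ 0) := by
    by_cases hxx : x = x0
    · obtain ⟨t, h1, h2⟩ := avoid_aux h4 (p := -(x * ak)) (r := K1) (hq := hx0) (hs := neg_ne_zero.2 hy0)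
      exact ⟨t, fun _ => h1, fun _ => h2, fun _ h => absurd hxx h⟩
    · by_cases hyx : y = x
      · obtain ⟨t, -, h2⟩ := avoid_aux h4 (p := (1 : F)) (r := K1) (q := 1) one_ne_zero (neg_ne_zero.2 hy0)
        exact ⟨t, fun h => absurd h hxx, fun _ => h2, fun h h' => absurd (h.symm.trans hyx).symm h'⟩
      · obtain ⟨t, -, h2⟩ := avoid_quad h4 (p := (1 : F)) (q := 1) (A := (x0 - x) * P - x * ak * K1)
          (B := (x0 - x) * Q + x0 * K1 + x * ak * y) (E := -(x0 * y)) one_ne_zero
          (neg_ne_zero.2 (mul_ne_zero hx0 hy0))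
        refine ⟨t, fun h => absurd h hxx, fun h => absurd h hyx, fun _ _ h => h2 ?_⟩
        linear_combination h
  set α : ℕ → F := fun i => if i = k + 1 then a else α₀ i with hα
  have hαk : α k = α₀ k := by simp [hα]
  obtain ⟨S, hS⟩ : ∃ S : GL (Fin (k + 3)) F, S.1 = chain (k + 3) lead :=
    ⟨GeneralLinearGroup.mkOfDetNeZero (chain (k + 3) lead) (by
      rw [hdet]; exact mul_ne_zero hκ (Finset.prod_ne_zero_iff.2 fun (j : Fin (k + 3)) _ => hlead0 j.val)), rfl⟩
  obtain ⟨Qs, hQs⟩ : ∃ Qs : GL (Fin (k + 3)) F, Qs.1 = shear (k + 3) α :=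
    ⟨GeneralLinearGroup.mkOfDetNeZero (shear (k + 3) α) (by rw [shear_det]; exact one_ne_zero), rfl⟩
  set R0 := S.1 * C * (S⁻¹).1 with hR0
  -- the columns of `R0`
  have hSS : ∀ j : Fin (k + 3), (S⁻¹).1 *ᵥ Pi.single (Fin.rev j) 1 = (lead j.val)⁻¹ • Pi.single j 1 := by
    intro j
    have h1 : (S⁻¹).1 *ᵥ (S.1 *ᵥ Pi.single j 1) = Pi.single j 1 := by
      rw [mulVec_mulVec, Units.inv_mul, one_mulVec]
    rw [hS, chain_single, mulVec_smul] at h1
    have h2 := congrArg ((lead j.val)⁻¹ • ·) h1
    simpa only [smul_smul, inv_mul_cancel₀ (hlead0 _), one_smul] using h2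
  have hR0s : ∀ (i : Fin (k + 3)) (h : i.val + 1 < k + 3),
      R0 *ᵥ Pi.single ⟨i.val + 1, h⟩ 1 = l i.val • Pi.single i 1 := by
    intro i h
    have e1 : (⟨i.val + 1, h⟩ : Fin (k + 3)) = Fin.rev ⟨k + 1 - i.val, by omega⟩ := by
      ext; simp [Fin.val_rev]; omega
    rw [hR0, ← mulVec_mulVec, e1, hSS, mulVec_smul, ← mulVec_mulVec,
      comp_single f (j := ⟨k + 2 - i.val, by omega⟩) (by simp; omega), hS, chain_single, smul_smul]
    have e2 : Fin.rev (⟨k + 2 - i.val, by omega⟩ : Fin (k + 3)) = i := by ext; simp [Fin.val_rev]; omega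
    rw [e2]
    congr 1
    rw [inv_mul_eq_iff_eq_mul₀ (hlead0 _)]
    have h3 := hstep (k + 1 - i.val) (by omega)
    rw [show k + 1 - i.val + 1 = k + 2 - i.val by omega, show k + 1 - (k + 1 - i.val) = i.val by omega] at h3
    exact h3
  have hR00 : R0 *ᵥ Pi.single 0 1 = fun i => γ * (c (Fin.rev i) * lead (Fin.rev i).val) := by
    have e1 : (0 : Fin (k + 3)) = Fin.rev ⟨k + 2, by omega⟩ := by ext; simp [Fin.val_rev]
    rw [hR0, ← mulVec_mulVec, e1, hSS, mulVec_smul, ← mulVec_mulVec, comp_single_last f (by simp), hS]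
    funext i
    simp only [Pi.smul_apply, smul_eq_mul, Matrix.mulVec, dotProduct, chain, Matrix.of_apply, hγ]
    congr 1
    rw [Finset.sum_eq_single (Fin.rev i)]
    · simp [hc, mul_comm]
    · intro b _ hb
      have : i ≠ Fin.rev b := fun h => hb (by rw [h, Fin.rev_rev])
      simp [this]
    · simp
  have hR0apply : ∀ (z : Fin (k + 3) → F) (i : Fin (k + 3)),
      (R0 *ᵥ z) i = z 0 * (γ * (c (Fin.rev i) * lead (Fin.rev i).val)) +
        if h : i.val + 1 < k + 3 then l i.val * z ⟨i.val + 1, h⟩ else 0 := by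
    intro z i
    have hsum : R0 *ᵥ z = ∑ j, z j • (R0 *ᵥ Pi.single j 1) := by
      funext r
      simp [Matrix.mulVec, dotProduct, mulVec_single_one, Finset.sum_apply, mul_comm]
    rw [hsum, Finset.sum_apply, Fin.sum_univ_succ, hR00]
    simp only [Pi.smul_apply, smul_eq_mul]
    congr 1
    by_cases h : i.val + 1 < k + 3
    · rw [dif_pos h, Finset.sum_eq_single (⟨i.val, by omega⟩ : Fin (k + 2))]
      · have := hR0s i h
        simp only [Fin.succ_mk]
        rw [this]
        simp [mul_comm]
      · intro j _ hj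
        have h2 := hR0s j.castSucc (by simp)
        rw [show (⟨j.castSucc.val + 1, by simp⟩ : Fin (k + 3)) = j.succ from rfl] at h2
        rw [h2]
        have : j.castSucc ≠ i := fun e => hj (Fin.ext (by simp [← e]))
        simp [Pi.single_eq_of_ne' this]
      · simp
    · rw [dif_neg h]
      refine Finset.sum_eq_zero fun j _ => ?_
      have h2 := hR0s j.castSucc (by simp)
      rw [show (⟨j.castSucc.val + 1, by simp⟩ : Fin (k + 3)) = j.succ from rfl] at h2
      rw [h2]
      have : j.castSucc ≠ i := fun e => h (by rw [← e]; simp)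
      simp [Pi.single_eq_of_ne' this]
  set T : GL (Fin (k + 3)) F := Qs⁻¹ * S with hT
  set R := T.1 * C * (T⁻¹).1 with hR
  set X := R * C with hX
  have hQR : ∀ z, Qs.1 *ᵥ (R *ᵥ z) = R0 *ᵥ (Qs.1 *ᵥ z) := by
    intro z
    rw [mulVec_mulVec, mulVec_mulVec, hR, hR0, hT, _root_.mul_inv_rev, inv_inv, Units.val_mul, Units.val_mul,
      ← mul_assoc Qs.1, ← mul_assoc Qs.1, ← mul_assoc Qs.1, Units.mul_inv, one_mul, ← mul_assoc]
  -- the columns of `X`, seen through the shear
  have hQX : ∀ (j : Fin (k + 3)) (i : Fin (k + 3)), (Qs.1 *ᵥ (X *ᵥ Pi.single j 1)) i =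
      (R0 *ᵥ (Qs.1 *ᵥ (C *ᵥ Pi.single j 1))) i := by
    intro j i
    rw [hX, ← mulVec_mulVec, hQR]
  have hXj : ∀ i j : Fin (k + 3), (X *ᵥ Pi.single j 1) i = X i j := fun i j => by simp [mulVec_single_one]
  have hsplit : ∀ (i j : Fin (k + 3)), (Qs.1 *ᵥ (X *ᵥ Pi.single j 1)) i =
      X i j + if h : 1 ≤ i.val ∧ i.val + 1 < k + 3 then α i.val * X ⟨i.val + 1, h.2⟩ j else 0 := by
    intro i j
    rw [hQs, shear_apply, hXj]
    by_cases h : 1 ≤ i.val ∧ i.val + 1 < k + 3
    · rw [dif_pos h, dif_pos h, hXj]
    · rw [dif_neg h, dif_neg h]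
  have hlow : ∀ (i j : Fin (k + 3)), j.val + 1 < k + 3 → j.val < i.val + 2 →
      (R0 *ᵥ (Qs.1 *ᵥ (C *ᵥ Pi.single j 1))) i =
        (if i = j then l j.val else 0) + if i.val + 1 = j.val then α j.val * l i.val else 0 := by
    intro i j hj hij
    rw [hC, comp_single f (j := ⟨j.val + 1, hj⟩) rfl, hR0apply, hQs, shear_apply]
    have hz : (if h : 1 ≤ (0 : Fin (k + 3)).val ∧ (0 : Fin (k + 3)).val + 1 < k + 3 then
        α (0 : Fin (k + 3)).val * (Pi.single (⟨j.val + 1, hj⟩ : Fin (k + 3)) (1 : F) : Fin (k + 3) → F) ⟨_, h.2⟩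
        else 0) = 0 := dif_neg (by simp)
    rw [hz]
    have hsj : (Pi.single (⟨j.val + 1, hj⟩ : Fin (k + 3)) (1 : F) : Fin (k + 3) → F) 0 = 0 :=
      Pi.single_eq_of_ne (Fin.ne_of_val_ne (by simp only [Fin.val_zero]; omega)) 1
    rw [hsj, add_zero, zero_mul, zero_add]
    have hii := i.isLt
    by_cases h1 : i.val + 1 < k + 3
    · rw [dif_pos h1, shear_apply, Pi.single_apply]
      simp only [Fin.ext_iff]
      rcases (show i.val = j.val ∨ i.val + 1 = j.val ∨ j.val < i.val by omega) with he | he | he
      · have : ¬(i.val + 1 + 1 = j.val + 1) := by omega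
        simp [Fin.ext_iff, he]
      · have h' : 1 ≤ i.val + 1 ∧ i.val + 1 + 1 < k + 3 := by omega
        rw [dif_pos h', Pi.single_apply]
        simp [Fin.ext_iff, show ¬(i.val + 1 = j.val + 1) by omega, show i.val ≠ j.val by omega, he, mul_comm]
      · rw [if_neg (by omega), if_neg (show ¬(i.val = j.val) by omega),
          if_neg (show ¬(i.val + 1 = j.val) by omega)]
        by_cases h' : 1 ≤ i.val + 1 ∧ i.val + 1 + 1 < k + 3
        · rw [dif_pos h', Pi.single_apply, if_neg (by simp [Fin.ext_iff]; omega)]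
          ring
        · rw [dif_neg h']
          ring
    · rw [dif_neg h1, if_neg (fun e => by rw [e] at h1; omega), if_neg (by omega), add_zero]
  have hz : ∀ i j : Fin (k + 3), j < i → X i j = 0 := by
    suffices h : ∀ (d : ℕ) (i j : Fin (k + 3)), k + 2 - i.val ≤ d → j < i → X i j = 0 from
      fun i j h' => h _ i j le_rfl h'
    intro d
    induction d with
    | zero =>
      intro i j hd hji
      have hi : i.val = k + 2 := by have := i.isLt; omega
      have hj : j.val < i.val := hji
      have e := hsplit i j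
      rw [hQX, hlow i j (by omega) (by omega), dif_neg (by omega), if_neg (by intro h; rw [h] at hj; omega),
        if_neg (by omega)] at e
      simpa using e.symm
    | succ d ih =>
      intro i j hd hji
      have hj : j.val < i.val := hji
      have hil := i.isLt
      have e := hsplit i j
      rw [hQX, hlow i j (by omega) (by omega), if_neg (by intro h; rw [h] at hj; omega),
        if_neg (by omega)] at e
      by_cases h : 1 ≤ i.val ∧ i.val + 1 < k + 3
      · rw [dif_pos h, ih ⟨i.val + 1, h.2⟩ j (by simp; omega) (Fin.lt_def.2 (by simp; omega)), mul_zero] at e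
        simpa using e.symm
      · rw [dif_neg h] at e
        simpa using e.symm
  have hdiag : ∀ i : Fin (k + 3), i.val + 1 < k + 3 → X i i = l i.val := by
    intro i hi
    have e := hsplit i i
    rw [hQX, hlow i i hi (by omega), if_pos rfl, if_neg (by omega)] at e
    by_cases h : 1 ≤ i.val ∧ i.val + 1 < k + 3
    · rw [dif_pos h, hz ⟨i.val + 1, h.2⟩ i (Fin.lt_def.2 (by simp))] at e
      simpa using e.symm
    · rw [dif_neg h] at e
      simpa using e.symm
  have hnext : ∀ i j : Fin (k + 3), i.val + 1 = j.val → j.val + 1 < k + 3 →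
      X i j = α j.val * l i.val - (if 1 ≤ i.val then α i.val else 0) * l j.val := by
    intro i j hij hj
    have e := hsplit i j
    rw [hQX, hlow i j hj (by omega), if_neg (fun h => by rw [h] at hij; omega), if_pos hij] at e
    by_cases h : 1 ≤ i.val
    · rw [dif_pos ⟨h, by omega⟩, show (⟨i.val + 1, by omega⟩ : Fin (k + 3)) = j from Fin.ext hij,
        hdiag j hj] at e
      rw [if_pos h]
      linear_combination -e
    · rw [dif_neg (by omega)] at e
      rw [if_neg h]
      linear_combination -e
  -- the last column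
  have hlast : ∀ i : Fin (k + 3), (R0 *ᵥ (Qs.1 *ᵥ (C *ᵥ Pi.single cl 1))) i =
      c 0 * (γ * (c (Fin.rev i) * lead (Fin.rev i).val)) +
        if h : i.val + 1 < k + 3 then l i.val * (c ⟨i.val + 1, h⟩ +
          if h' : 1 ≤ i.val + 1 ∧ i.val + 1 + 1 < k + 3 then α (i.val + 1) * c ⟨i.val + 1 + 1, h'.2⟩ else 0)
        else 0 := by
    intro i
    rw [hC, comp_single_last f (show cl.val + 1 = k + 3 from rfl), hR0apply, hQs]
    congr 1
    · congr 1
      rw [shear_apply, dif_neg (by simp), add_zero]
    · by_cases h : i.val + 1 < k + 3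
      · rw [dif_pos h, dif_pos h, shear_apply]
      · rw [dif_neg h, dif_neg h]
  have hl2 : X cl cl = y := by
    have e := hsplit cl cl
    rw [hQX, hlast, dif_neg (show ¬cl.val + 1 < k + 3 by simp [hcl]),
      dif_neg (show ¬(1 ≤ cl.val ∧ cl.val + 1 < k + 3) by simp [hcl]), add_zero, add_zero,
      show Fin.rev cl = 0 by ext; simp [hcl, Fin.val_rev]] at e
    simpa [hy] using e.symm
  have hl1 : X cm cl = K1 + -y * a := by
    have e := hsplit cm cl
    rw [hQX, hlast, dif_pos (show cm.val + 1 < k + 3 by simp [hcm]),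
      dif_neg (show ¬(1 ≤ cm.val + 1 ∧ cm.val + 1 + 1 < k + 3) by simp [hcm]),
      dif_pos (show 1 ≤ cm.val ∧ cm.val + 1 < k + 3 by simp [hcm]),
      show (⟨cm.val + 1, by simp [hcm]⟩ : Fin (k + 3)) = cl from rfl, hl2,
      show Fin.rev cm = ⟨1, by omega⟩ by ext; simp [hcm, Fin.val_rev]] at e
    simp only [hcm, hlk1, hα, if_pos, add_zero] at e
    rw [hK1]
    linear_combination -e
  have hlk0 : X ck cl = P + Q * a := by
    have e := hsplit ck cl
    rw [hQX, hlast, dif_pos (show ck.val + 1 < k + 3 by simp [hck]),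
      dif_pos (show 1 ≤ ck.val + 1 ∧ ck.val + 1 + 1 < k + 3 by simp [hck]),
      show (⟨ck.val + 1, by simp [hck]⟩ : Fin (k + 3)) = cm from rfl,
      show (⟨ck.val + 1 + 1, by simp [hck]⟩ : Fin (k + 3)) = cl from rfl,
      show Fin.rev ck = ⟨2, by omega⟩ by ext; simp [hck, Fin.val_rev]] at e
    simp only [hck, hlk, hα, if_pos] at e
    by_cases h : 1 ≤ k
    · rw [dif_pos ⟨h, by omega⟩, if_neg (by omega),
        show (⟨k + 1, by omega⟩ : Fin (k + 3)) = cm from rfl, hl1] at e
      rw [hP, hQ, hak, if_pos h]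
      linear_combination -e
    · rw [dif_neg (fun h' => h h'.1)] at e
      rw [hP, hQ, hak, if_neg h]
      linear_combination -e
  have hσ : X ck cm = x0 * a - x * ak := by
    rw [hnext ck cm rfl (by simp [hcm])]
    simp only [hck, hcm, hlk, hlk1, hα, if_pos, hak]
    by_cases h : 1 ≤ k
    · simp [h, show k ≠ k + 1 by omega]; ring
    · simp [h]; ring
  -- junctions between equal diagonal entries
  have hjun : ∀ i j : Fin (k + 3), i.val + 1 = j.val → j.val + 1 < k + 3 → l i.val = l j.val → X i j ≠ 0 := by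
    intro i j hij hj he
    by_cases hjk : j.val = k + 1
    · have e1 : i = ck := Fin.ext (by simp [hck]; omega)
      have e2 : j = cm := Fin.ext (by simp [hcm]; omega)
      subst e1; subst e2
      rw [hσ]
      simp only [hck, hcm, hlk, hlk1] at he
      intro h
      exact ha1 he.symm (by linear_combination h)
    · rw [hnext i j hij hj]
      have hi1 : α j.val = α₀ j.val := by simp [hα, hjk]
      have hi2 : (if 1 ≤ i.val then α i.val else 0) = α₀ i.val := by
        by_cases h : 1 ≤ i.val
        · simp [hα, h, show i.val ≠ k + 1 by omega]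
        · rw [if_neg h, show i.val = 0 by omega, hα00]
      rw [hi1, hi2, ← hij, mul_comm (α₀ i.val)]
      exact hα₀ _
  have hli : ∀ i, i < k + 1 → l i = x0 := fun i h => by simp [hl, show i ≠ k + 1 by omega]
  -- eigenvectors supported before the last place
  have hpre : ∀ (μ : F) (u : Fin (k + 3) → F), X *ᵥ u = μ • u → u cl = 0 →
      (μ = x0 → ∀ i : Fin (k + 3), 1 ≤ i.val → u i = 0) ∧ (μ ≠ x0 → u cm = 0 → u = 0) := by
    intro μ u hu hul
    have hrow : ∀ i : Fin (k + 3), ∑ j, X i j * u j = μ * u i := fun i => congrFun hu i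
    have key : ∀ (d : ℕ) (i : Fin (k + 3)), 1 ≤ i.val → k + 2 - i.val ≤ d →
        (μ = x0 → u i = 0) ∧ (μ ≠ x0 → u cm = 0 → u i = 0) := by
      intro d
      induction d with
      | zero =>
        intro i _ hd
        have : i = cl := Fin.ext (by simp [hcl]; have := i.isLt; omega)
        subst this
        exact ⟨fun _ => hul, fun _ _ => hul⟩
      | succ d ih =>
        intro i hi1 hd
        have hil := i.isLt
        by_cases hi : i.val = k + 2
        · have : i = cl := Fin.ext hi
          subst this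
          exact ⟨fun _ => hul, fun _ _ => hul⟩
        refine ⟨fun hμ => ?_, fun hμ hm => ?_⟩
        · by_cases him : i.val = k + 1
          · by_cases hxx : x = x0
            · -- the row above
              have e := hrow ck
              rw [Finset.sum_eq_add ck cm (by simp [hck, hcm, Fin.ext_iff]), hdiag ck (by simp [hck])] at e
              · rw [show i = cm from Fin.ext him]
                simp only [hck, hlk, hμ] at e
                have h2 : X ck cm * u cm = 0 := by linear_combination e
                exact (mul_eq_zero.1 h2).resolve_left (hjun ck cm rfl (by simp [hcm])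
                  (by simp [hck, hcm, hlk, hlk1, hxx]))
              · intro j _ hj
                rcases lt_or_gt_of_ne (hj.1) with h | h
                · rw [hz ck j h, zero_mul]
                · have hj1 : j.val ≠ k + 1 := fun e => hj.2 (Fin.ext e)
                  have h' : k < j.val := h
                  rw [show j = cl from Fin.ext (by simp [hcl]; have := j.isLt; omega), hul, mul_zero]
              · simp
              · simp
            · rw [show i = cm from Fin.ext him]
              have e := hrow cm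
              rw [Finset.sum_eq_single cm, hdiag cm (by simp [hcm])] at e
              · simp only [hcm, hlk1, hμ] at e
                have h2 : (x - x0) * u cm = 0 := by linear_combination e
                exact (mul_eq_zero.1 h2).resolve_left (sub_ne_zero.2 hxx)
              · intro j _ hj
                rcases lt_or_gt_of_ne hj with h | h
                · rw [hz cm j h, zero_mul]
                · have h' : k + 1 < j.val := h
                  rw [show j = cl from Fin.ext (by simp [hcl]; have := j.isLt; omega), hul, mul_zero]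
              · simp
          · have e := hrow ⟨i.val - 1, by omega⟩
            set p : Fin (k + 3) := ⟨i.val - 1, by omega⟩ with hp
            rw [Finset.sum_eq_add p i (by simp [hp, Fin.ext_iff]; omega), hdiag p (by simp [hp]; omega)] at e
            · rw [hli p.val (by simp [hp]; omega), hμ] at e
              have h2 : X p i * u i = 0 := by linear_combination e
              exact (mul_eq_zero.1 h2).resolve_left (hjun p i (by simp [hp]; omega) (by omega)
                (by rw [hli p.val (by simp [hp]; omega), hli i.val (by omega)]))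
            · intro j _ hj
              rcases lt_or_gt_of_ne (hj.1) with h | h
              · rw [hz p j h, zero_mul]
              · have h' : i.val - 1 < j.val := h
                have hj1 : j.val ≠ i.val := fun e => hj.2 (Fin.ext e)
                rw [(ih j (by omega) (by omega)).1 hμ, mul_zero]
            · simp
            · simp
        · by_cases him : i.val = k + 1
          · rw [show i = cm from Fin.ext him, hm]
          · have e := hrow i
            rw [Finset.sum_eq_single i, hdiag i (by omega), hli i.val (by omega)] at e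
            · have h2 : (x0 - μ) * u i = 0 := by linear_combination e
              exact (mul_eq_zero.1 h2).resolve_left (sub_ne_zero.2 (Ne.symm hμ))
            · intro j _ hj
              rcases lt_or_gt_of_ne hj with h | h
              · rw [hz i j h, zero_mul]
              · have h' : i.val < j.val := h
                rw [(ih j (by omega) (by omega)).2 hμ hm, mul_zero]
            · simp
    refine ⟨fun hμ i hi => (key _ i hi le_rfl).1 hμ, fun hμ hm => funext fun i => ?_⟩
    by_cases hi : 1 ≤ i.val
    · exact (key _ i hi le_rfl).2 hμ hm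
    · have hi0 : i.val = 0 := by omega
      have e := hrow i
      rw [Finset.sum_eq_single i, hdiag i (by omega), hli i.val (by omega)] at e
      · have h2 : (x0 - μ) * u i = 0 := by linear_combination e
        exact (mul_eq_zero.1 h2).resolve_left (sub_ne_zero.2 (Ne.symm hμ))
      · intro j _ hj
        have hj' : 1 ≤ j.val := by
          have : j.val ≠ i.val := fun e => hj (Fin.ext e)
          omega
        rw [(key _ j hj' le_rfl).2 hμ hm, mul_zero]
      · simp
  -- eigenvectors reach the last place only for simple eigenvalues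
  have htop : ∀ (μ : F) (u : Fin (k + 3) → F), X *ᵥ u = μ • u → u cl ≠ 0 → μ ≠ x0 ∧ μ ≠ x := by
    intro μ u hu hul
    have hrow : ∀ i : Fin (k + 3), ∑ j, X i j * u j = μ * u i := fun i => congrFun hu i
    have e2 := hrow cl
    rw [Finset.sum_eq_single cl, hl2] at e2
    · have hμy : μ = y := (mul_right_cancel₀ hul e2).symm
      subst hμy
      have e1 := hrow cm
      rw [Finset.sum_eq_add cm cl (by simp [hcm, hcl, Fin.ext_iff]), hdiag cm (by simp [hcm]), hl1] at e1
      · simp only [hcm, hlk1] at e1
        have hyx : y ≠ x := by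
          intro h
          refine ha2 h (Or.resolve_right (mul_eq_zero.1 (?_ : _ * u cl = 0)) hul)
          linear_combination e1 + u ⟨k + 1, by omega⟩ * h
        refine ⟨fun h => ?_, hyx⟩
        have hxx : x ≠ x0 := fun h' => hyx (h.trans h'.symm)
        have e0 := hrow ck
        rw [← Finset.sum_subset (Finset.subset_univ {ck, cm, cl})] at e0
        · rw [Finset.sum_insert (by simp [hck, hcm, hcl, Fin.ext_iff]), Finset.sum_pair
            (by simp [hcm, hcl, Fin.ext_iff]), hdiag ck (by simp [hck]), hσ, hlk0] at e0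
          simp only [hck, hlk, hcm] at e0
          refine ha3 h hxx (Or.resolve_right (mul_eq_zero.1 (?_ : _ * u cl = 0)) hul)
          linear_combination (x0 - x) * e0 + (x0 * a - x * ak) * e1 +
            ((x0 - x) * u ⟨k, by omega⟩ + (x0 * a - x * ak) * u ⟨k + 1, by omega⟩) * h
        · intro j _ hj
          simp only [Finset.mem_insert, Finset.mem_singleton, not_or] at hj
          have h0 : j.val ≠ k := fun e => hj.1 (Fin.ext e)
          have h1 : j.val ≠ k + 1 := fun e => hj.2.1 (Fin.ext e)
          have h2 : j.val ≠ k + 2 := fun e => hj.2.2 (Fin.ext e)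
          have := j.isLt
          rw [hz ck j (Fin.lt_def.2 (by simp [hck]; omega)), zero_mul]
      · intro j _ hj
        rw [hz cm j (Fin.lt_def.2 ?_), zero_mul]
        have h1 : j.val ≠ k + 1 := fun e => hj.1 (Fin.ext e)
        have h2 : j.val ≠ k + 2 := fun e => hj.2 (Fin.ext e)
        have := j.isLt
        simp [hcm]
        omega
      · simp
      · simp
    · intro j _ hj
      rw [hz cl j (Fin.lt_def.2 ?_), zero_mul]
      have : j.val ≠ k + 2 := fun e => hj (Fin.ext e)
      have := j.isLt
      simp [hcl]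
      omega
    · simp
  have hker : KerLine X := by
    intro μ u w hu hXu hXw
    by_cases hul : u cl = 0
    · obtain ⟨p1, p2⟩ := hpre μ u hXu hul
      have hwl : w cl = 0 := by
        by_contra hne
        obtain ⟨h1, h2⟩ := htop μ w hXw hne
        have e1 : ∑ j, X cm j * u j = μ * u cm := congrFun hXu cm
        refine hu (p2 h1 ?_)
        rw [Finset.sum_eq_single cm, hdiag cm (by simp [hcm])] at e1
        · simp only [hcm, hlk1] at e1
          have h3 : (x - μ) * u ⟨k + 1, by omega⟩ = 0 := by linear_combination e1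
          exact (mul_eq_zero.1 h3).resolve_left (sub_ne_zero.2 (Ne.symm h2))
        · intro j _ hj
          rcases lt_or_gt_of_ne hj with h | h
          · rw [hz cm j h, zero_mul]
          · have h' : k + 1 < j.val := h
            rw [show j = cl from Fin.ext (by simp [hcl]; have := j.isLt; omega), hul, mul_zero]
        · simp
      obtain ⟨q1, -⟩ := hpre μ w hXw hwl
      by_cases hμ : μ = x0
      · have hu0 : u 0 ≠ 0 := fun h => hu (funext fun i => by
          rcases Nat.eq_zero_or_pos i.val with hi | hi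
          · rw [show i = 0 from Fin.ext hi, h]; rfl
          · exact p1 hμ i hi)
        refine ⟨w 0 / u 0, funext fun i => ?_⟩
        rcases Nat.eq_zero_or_pos i.val with hi | hi
        · rw [show i = 0 from Fin.ext hi, Pi.smul_apply, smul_eq_mul, div_mul_cancel₀ _ hu0]
        · rw [q1 hμ i hi, Pi.smul_apply, p1 hμ i hi, smul_zero]
      · have hum : u cm ≠ 0 := fun h => hu (p2 hμ h)
        refine ⟨w cm / u cm, sub_eq_zero.1 ((hpre μ (w - (w cm / u cm) • u)
          (by rw [mulVec_sub, mulVec_smul, hXu, hXw, smul_sub, smul_comm]) (by simp [hwl, hul])).2 hμ ?_)⟩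
        simp [div_mul_cancel₀ _ hum]
    · obtain ⟨h1, h2⟩ := htop μ u hXu hul
      refine ⟨w cl / u cl, sub_eq_zero.1 ?_⟩
      set z := w - (w cl / u cl) • u with hzdef
      have hz0 : z cl = 0 := by simp [hzdef, div_mul_cancel₀ _ hul]
      have hXz : X *ᵥ z = μ • z := by rw [hzdef, mulVec_sub, mulVec_smul, hXu, hXw, smul_sub, smul_comm]
      refine (hpre μ z hXz hz0).2 h1 ?_
      have e1 : ∑ j, X cm j * z j = μ * z cm := congrFun hXz cm
      rw [Finset.sum_eq_single cm, hdiag cm (by simp [hcm])] at e1
      · simp only [hcm, hlk1] at e1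
        have h3 : (x - μ) * z ⟨k + 1, by omega⟩ = 0 := by linear_combination e1
        exact (mul_eq_zero.1 h3).resolve_left (sub_ne_zero.2 (Ne.symm h2))
      · intro j _ hj
        rcases lt_or_gt_of_ne hj with h | h
        · rw [hz cm j h, zero_mul]
        · have h' : k + 1 < j.val := h
          rw [show j = cl from Fin.ext (by simp [hcl]; have := j.isLt; omega), hz0, mul_zero]
      · simp
  refine ⟨T, X, ?_, rfl, hz, fun i hi => by rw [hdiag i (by omega), hli i.val hi],
    by rw [hdiag cm (by simp [hcm])]; simp [hcm, hlk1], hker, ?_, ?_⟩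
  · rw [hT, map_mul, map_inv, Units.val_mul]
    have h1 : ((GeneralLinearGroup.det Qs : Fˣ)⁻¹ : Fˣ) = (1 : Fˣ) := by
      rw [inv_eq_one]; exact Units.ext (by rw [GeneralLinearGroup.val_det_apply, hQs, shear_det, Units.val_one])
    rw [h1, Units.val_one, one_mul, GeneralLinearGroup.val_det_apply, hS, hdet, Fin.prod_univ_succ]
    simp only [hlead, Fin.val_zero, Fin.val_succ]
    field_simp
  · intro μ hμ ψ lam hψ hψX hψR
    have hcol : ∀ j : Fin (k + 3), ∑ i, ψ i * X i j = μ * ψ j := fun j => congrFun hψX j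
    -- support in the last two places
    have hsup : ∀ (d : ℕ) (j : Fin (k + 3)), j.val ≤ d → j.val ≤ k → ψ j = 0 := by
      intro d
      induction d with
      | zero =>
        intro j hj hjk
        by_cases hμ0 : μ = x0
        · -- the column of the next place
          have hxx : x = x0 := by
            rcases hμ with h | h
            · rw [← h, hμ0]
            · exact absurd hμ0 h
          have hb : j.val + 1 < k + 3 := by omega
          set s : Fin (k + 3) := ⟨j.val + 1, hb⟩ with hs
          have e := hcol s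
          rw [Finset.sum_eq_add j s (by simp [hs, Fin.ext_iff]), hdiag s (by simp [hs]; omega)] at e
          · have hls : l s.val = x0 := by
              by_cases h : s.val = k + 1
              · rw [h, hlk1, hxx]
              · exact hli _ (by simp [hs] at h ⊢; omega)
            rw [hls, hμ0] at e
            have h2 : ψ j * X j s = 0 := by linear_combination e
            exact (mul_eq_zero.1 h2).resolve_right (hjun j s (by simp [hs]) (by simp [hs]; omega)
              (by rw [hls, hli j.val (by omega)]))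
          · intro i _ hi
            have h1 : i.val ≠ j.val := fun e => hi.1 (Fin.ext e)
            have h2 : i.val ≠ j.val + 1 := fun e => hi.2 (Fin.ext e)
            rw [hz i s (Fin.lt_def.2 (by simp [hs]; omega)), mul_zero]
          · simp
          · simp
        · have e := hcol j
          rw [Finset.sum_eq_single j, hdiag j (by omega), hli j.val (by omega)] at e
          · have h2 : (x0 - μ) * ψ j = 0 := by linear_combination e
            exact (mul_eq_zero.1 h2).resolve_left (sub_ne_zero.2 (Ne.symm hμ0))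
          · intro i _ hi
            have h1 : i.val ≠ j.val := fun e => hi (Fin.ext e)
            rw [hz i j (Fin.lt_def.2 (by omega)), mul_zero]
          · simp
      | succ d ih =>
        intro j hj hjk
        by_cases hμ0 : μ = x0
        · have hxx : x = x0 := by
            rcases hμ with h | h
            · rw [← h, hμ0]
            · exact absurd hμ0 h
          have hb : j.val + 1 < k + 3 := by omega
          set s : Fin (k + 3) := ⟨j.val + 1, hb⟩ with hs
          have e := hcol s
          rw [Finset.sum_eq_add j s (by simp [hs, Fin.ext_iff]), hdiag s (by simp [hs]; omega)] at e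
          · have hls : l s.val = x0 := by
              by_cases h : s.val = k + 1
              · rw [h, hlk1, hxx]
              · exact hli _ (by simp [hs] at h ⊢; omega)
            rw [hls, hμ0] at e
            have h2 : ψ j * X j s = 0 := by linear_combination e
            exact (mul_eq_zero.1 h2).resolve_right (hjun j s (by simp [hs]) (by simp [hs]; omega)
              (by rw [hls, hli j.val (by omega)]))
          · intro i _ hi
            have h1 : i.val ≠ j.val := fun e => hi.1 (Fin.ext e)
            have h2 : i.val ≠ j.val + 1 := fun e => hi.2 (Fin.ext e)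
            by_cases h3 : i.val < j.val
            · rw [ih i (by omega) (by omega), zero_mul]
            · rw [hz i s (Fin.lt_def.2 (by simp [hs]; omega)), mul_zero]
          · simp
          · simp
        · have e := hcol j
          rw [Finset.sum_eq_single j, hdiag j (by omega), hli j.val (by omega)] at e
          · have h2 : (x0 - μ) * ψ j = 0 := by linear_combination e
            exact (mul_eq_zero.1 h2).resolve_left (sub_ne_zero.2 (Ne.symm hμ0))
          · intro i _ hi
            have h1 : i.val ≠ j.val := fun e => hi (Fin.ext e)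
            rcases lt_or_gt_of_ne h1 with h | h
            · rw [ih i (by omega) (by omega), zero_mul]
            · rw [hz i j (Fin.lt_def.2 h), mul_zero]
          · simp
    have hsup' : ∀ j : Fin (k + 3), j.val ≤ k → ψ j = 0 := fun j hj => hsup j.val j le_rfl hj
    -- `ψ R` on the middle columns
    have hR' : ∀ (j : Fin (k + 3)) (h : j.val + 1 < k + 3), (ψ ᵥ* R) ⟨j.val + 1, h⟩ = ∑ i, ψ i * X i j := by
      intro j h
      have e : ∀ i, X i j = R i ⟨j.val + 1, h⟩ := fun i => by
        rw [← hXj, hX, ← mulVec_mulVec, hC, comp_single f (j := ⟨j.val + 1, h⟩) rfl]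
        simp [mulVec_single_one]
      simp only [e, Matrix.vecMul, dotProduct]
    have hlam : lam ≠ 0 := by
      rintro rfl
      rw [zero_smul] at hψR
      refine hψ ?_
      have h2 := congrArg (· ᵥ* T.1) hψR
      simp only [hR, vecMul_vecMul, zero_vecMul, mul_assoc, Units.inv_mul, mul_one] at h2
      rw [← vecMul_vecMul] at h2
      set φ := ψ ᵥ* T.1 with hφ
      have hcolC : ∀ j, (φ ᵥ* C) j = φ ⬝ᵥ (C *ᵥ Pi.single j 1) := fun j => by
        simp [Matrix.vecMul, dotProduct, mulVec_single_one]
      have hφ1 : ∀ j : Fin (k + 3), 1 ≤ j.val → φ j = 0 := fun j hj => by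
        have h3 := congrFun h2 ⟨j.val - 1, by omega⟩
        rw [hcolC, hC, comp_single f (j := j) (by simp; omega)] at h3
        simpa using h3
      have hφ0 : φ 0 = 0 := by
        have h3 := congrFun h2 cl
        rw [hcolC, hC, comp_single_last f (show cl.val + 1 = k + 3 from rfl), dotProduct,
          Finset.sum_eq_single (0 : Fin (k + 3))] at h3
        · simpa [hf0] using h3
        · intro j _ hj
          rw [hφ1 j (Nat.one_le_iff_ne_zero.2 fun e => hj (Fin.ext e)), zero_mul]
        · simp
      have hφz : φ = 0 := funext fun j => by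
        rcases Nat.eq_zero_or_pos j.val with hj | hj
        · rw [show j = 0 from Fin.ext hj]; exact hφ0
        · exact hφ1 j hj
      have h4 := congrArg (· ᵥ* (T⁻¹).1) hφz
      simpa [hφ, vecMul_vecMul] using h4
    have e1 : (ψ ᵥ* R) ⟨ck.val + 1, by simp [hck]⟩ = lam * ψ cm := congrFun hψR cm
    rw [hR' ck (by simp [hck]), Finset.sum_eq_zero] at e1
    · have hm0 : ψ cm = 0 := (mul_eq_zero.1 e1.symm).resolve_left hlam
      have e2 : (ψ ᵥ* R) ⟨cm.val + 1, by simp [hcm]⟩ = lam * ψ cl := congrFun hψR cl
      rw [hR' cm (by simp [hcm]), Finset.sum_eq_zero] at e2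
      · have hl0' : ψ cl = 0 := (mul_eq_zero.1 e2.symm).resolve_left hlam
        refine hψ (funext fun j => ?_)
        have := j.isLt
        rcases (show j.val ≤ k ∨ j.val = k + 1 ∨ j.val = k + 2 by omega) with h | h | h
        · exact hsup' j h
        · rw [show j = cm from Fin.ext h]; exact hm0
        · rw [show j = cl from Fin.ext h]; exact hl0'
      · intro i _
        have := i.isLt
        rcases (show i.val ≤ k ∨ i.val = k + 1 ∨ i.val = k + 2 by omega) with h | h | h
        · rw [hsup' i h, zero_mul]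
        · rw [show i = cm from Fin.ext h, hm0, zero_mul]
        · rw [hz i cm (Fin.lt_def.2 (by simp [hcm]; omega)), mul_zero]
    · intro i _
      by_cases h : i.val ≤ k
      · rw [hsup' i h, zero_mul]
      · rw [hz i ck (Fin.lt_def.2 (by simp [hck]; omega)), mul_zero]
  · intro w c' hw hXw hCw
    obtain ⟨h, -⟩ := hpre x0 w hXw (by
      by_contra hne
      exact (htop x0 w hXw hne).1 rfl)
    have hw1 : ∀ i : Fin (k + 3), 1 ≤ i.val → w i = 0 := h rfl
    have hw0 : w = w 0 • Pi.single 0 1 := by
      funext i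
      rcases Nat.eq_zero_or_pos i.val with hi | hi
      · rw [show i = 0 from Fin.ext hi]; simp
      · rw [hw1 i hi]
        simp [Pi.single_eq_of_ne (show i ≠ 0 from fun e => by rw [e] at hi; simp at hi)]
    rw [hw0, mulVec_smul, hC, comp_single f (i := 0) (j := ⟨1, by omega⟩) rfl] at hCw
    have := congrFun hCw ⟨1, by omega⟩
    simp [Pi.single_apply, Fin.ext_iff] at this
    exact hw (by rw [hw0, this, zero_smul])

end Cfsg.Agent.Lib.LevCover
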