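import Mathlib

/-!
Cyclic vectors, companion matrices, and a criterion for cyclic triangular matrices.
-/

set_option autoImplicit false

namespace Cfsg.Agent.Lib.LevCover

open Matrix Polynomial

variable {F : Type*} [Field F] {n : ℕ}

theorem mext {A B : Matrix (Fin n) (Fin n) F} (h : ∀ u, A *ᵥ u = B *ᵥ u) : A = B := by
  ext i j
  have := congrFun (h (Pi.single j 1)) i
  simpa [mulVec_single_one] using this

/-- The iterates of `v`, as columns. -/
noncomputable def kry (X : Matrix (Fin n) (Fin n) F) (v : Fin n → F) : Matrix (Fin n) (Fin n) F :=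
  Matrix.of fun i j => ((X ^ j.val) *ᵥ v) i

/-- `v` generates the space under `X`. -/
def Cyc (X : Matrix (Fin n) (Fin n) F) (v : Fin n → F) : Prop := (kry X v).det ≠ 0

theorem kry_single (X : Matrix (Fin n) (Fin n) F) (v : Fin n → F) (j : Fin n) :
    kry X v *ᵥ Pi.single j 1 = (X ^ j.val) *ᵥ v := by
  funext i
  simp [kry, mulVec_single_one]

/-- The companion matrix. -/
noncomputable def comp (n : ℕ) (f : F[X]) : Matrix (Fin n) (Fin n) F :=
  Matrix.of fun i j => if j.val + 1 < n then (if i.val = j.val + 1 then 1 else 0) else -f.coeff i.val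

theorem comp_single (f : F[X]) {i j : Fin n} (h : i.val + 1 = j.val) :
    comp n f *ᵥ Pi.single i 1 = Pi.single j 1 := by
  have := j.isLt
  ext k
  simp [comp, mulVec_single_one, show i.val + 1 < n by omega, Pi.single_apply, Fin.ext_iff, h]

theorem comp_single_last (f : F[X]) {i : Fin n} (h : i.val + 1 = n) :
    comp n f *ᵥ Pi.single i 1 = fun k : Fin n => -f.coeff k.val := by
  ext k
  simp [comp, mulVec_single_one, h]

theorem aeval_mulVec (X : Matrix (Fin n) (Fin n) F) (v : Fin n → F) (p : F[X]) {N : ℕ} (h : p.natDegree < N) :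
    aeval X p *ᵥ v = ∑ i ∈ Finset.range N, p.coeff i • ((X ^ i) *ᵥ v) := by
  rw [aeval_eq_sum_range' h, Matrix.sum_mulVec]
  simp only [smul_mulVec]

theorem kry_mulVec (X : Matrix (Fin n) (Fin n) F) (v : Fin n → F) (p : F[X]) (h : p.natDegree < n) :
    kry X v *ᵥ (fun k : Fin n => p.coeff k.val) = aeval X p *ᵥ v := by
  rw [aeval_mulVec X v p h, Finset.sum_range]
  funext i
  simp [kry, Matrix.mulVec, dotProduct, Finset.sum_apply, mul_comm]

/-- A generator is killed by no polynomial of small degree. -/
theorem Cyc.eq_zero {X : Matrix (Fin n) (Fin n) F} {v : Fin n → F} (hv : Cyc X v) {p : F[X]}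
    (h : p.natDegree < n) (h0 : aeval X p *ᵥ v = 0) : p = 0 := by
  rw [← kry_mulVec X v p h] at h0
  have h1 : (fun k : Fin n => p.coeff k.val) = 0 := by
    by_contra hne
    exact hv ((Matrix.exists_mulVec_eq_zero_iff).1 ⟨_, hne, h0⟩)
  ext k
  rw [coeff_zero]
  by_cases hk : k < n
  · exact congrFun h1 ⟨k, hk⟩
  · exact coeff_eq_zero_of_natDegree_lt (by omega)

/-- A monic polynomial of full degree killing a generator is the characteristic polynomial. -/
theorem Cyc.charpoly_eq {X : Matrix (Fin n) (Fin n) F} {v : Fin n → F} (hv : Cyc X v) {f : F[X]}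
    (hm : f.Monic) (hd : f.natDegree = n) (h0 : aeval X f *ᵥ v = 0) : X.charpoly = f := by
  rcases Nat.eq_zero_or_pos n with rfl | hn
  · rw [Matrix.charpoly_isEmpty, hm.natDegree_eq_zero.1 hd]
  have hc : X.charpoly.natDegree = n := by rw [Matrix.charpoly_natDegree_eq_dim, Fintype.card_fin]
  refine sub_eq_zero.1 (hv.eq_zero ?_ ?_)
  · by_cases he : X.charpoly - f = 0
    · rw [he, natDegree_zero]; exact hn
    · rw [natDegree_lt_iff_degree_lt he]
      have := degree_sub_lt (p := X.charpoly) (q := f) (by
        rw [degree_eq_natDegree X.charpoly_monic.ne_zero, degree_eq_natDegree hm.ne_zero, hc, hd])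
        X.charpoly_monic.ne_zero (by rw [X.charpoly_monic.leadingCoeff, hm.leadingCoeff])
      rwa [degree_eq_natDegree X.charpoly_monic.ne_zero, hc] at this
  · rw [map_sub, sub_mulVec, h0, Matrix.aeval_self_charpoly, zero_mulVec, sub_zero]

theorem Cyc.mul_kry {X : Matrix (Fin n) (Fin n) F} {v : Fin n → F} :
    X * kry X v = kry X v * comp n X.charpoly := by
  refine Matrix.ext_of_mulVec_single fun j => ?_
  rw [← mulVec_mulVec, ← mulVec_mulVec, kry_single, mulVec_mulVec, ← pow_succ']
  by_cases hj : j.val + 1 < n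
  · rw [comp_single X.charpoly (j := ⟨j.val + 1, hj⟩) rfl, kry_single]
  · have hjn : j.val + 1 = n := by have := j.isLt; omega
    rw [comp_single_last X.charpoly hjn]
    have hc : X.charpoly.natDegree = n := by rw [Matrix.charpoly_natDegree_eq_dim, Fintype.card_fin]
    have h0 := congrArg (· *ᵥ v) (Matrix.aeval_self_charpoly X)
    simp only [zero_mulVec] at h0
    rw [aeval_mulVec X v _ (N := n + 1) (by omega), Finset.sum_range_succ] at h0
    have hlead : X.charpoly.coeff n = 1 := by
      have := X.charpoly_monic.coeff_natDegree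
      rwa [hc] at this
    rw [hlead, one_smul, Finset.sum_range] at h0
    rw [hjn, eq_neg_of_add_eq_zero_right h0]
    funext i
    simp [kry, Matrix.mulVec, dotProduct, Finset.sum_apply, mul_comm]

theorem comp_pow_single (f : F[X]) (hn : 0 < n) (j : Fin n) :
    (comp n f ^ j.val) *ᵥ Pi.single (⟨0, hn⟩ : Fin n) 1 = Pi.single j 1 := by
  obtain ⟨k, hk⟩ := j
  induction k with
  | zero => rw [pow_zero, one_mulVec]
  | succ k ih =>
    rw [pow_succ', ← mulVec_mulVec, ih (by omega)]
    exact comp_single f rfl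

theorem comp_cyc (f : F[X]) (hn : 0 < n) : Cyc (comp n f) (Pi.single (⟨0, hn⟩ : Fin n) 1) := by
  have : kry (comp n f) (Pi.single (⟨0, hn⟩ : Fin n) 1) = 1 :=
    Matrix.ext_of_mulVec_single fun j => by rw [kry_single, comp_pow_single f hn j, one_mulVec]
  rw [Cyc, this, det_one]
  exact one_ne_zero

theorem comp_charpoly {f : F[X]} (hm : f.Monic) (hd : f.natDegree = n) : (comp n f).charpoly = f := by
  rcases Nat.eq_zero_or_pos n with rfl | hn
  · rw [Matrix.charpoly_isEmpty, hm.natDegree_eq_zero.1 hd]
  refine (comp_cyc f hn).charpoly_eq hm hd ?_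
  rw [aeval_mulVec _ _ f (N := n + 1) (by omega), Finset.sum_range_succ, Finset.sum_range]
  have hlast : (comp n f ^ n) *ᵥ Pi.single (⟨0, hn⟩ : Fin n) 1 = fun k : Fin n => -f.coeff k.val := by
    obtain ⟨m, rfl⟩ : ∃ m, n = m + 1 := ⟨n - 1, by omega⟩
    rw [pow_succ', ← mulVec_mulVec, comp_pow_single f hn ⟨m, by omega⟩, comp_single_last f (i := ⟨m, _⟩) rfl]
  have hlead : f.coeff n = 1 := by rw [← hd]; exact hm.coeff_natDegree
  rw [hlead, one_smul, hlast]
  funext i
  simp only [comp_pow_single f hn]
  simp [Finset.sum_apply, Pi.single_apply]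

/-- Cyclic matrices with one characteristic polynomial are similar. -/
theorem exists_similar {X Y : GL (Fin n) F} {v w : Fin n → F} (hv : Cyc X.1 v) (hw : Cyc Y.1 w)
    (h : X.1.charpoly = Y.1.charpoly) :
    ∃ S : GL (Fin n) F, X = S * Y * S⁻¹ ∧
      (GeneralLinearGroup.det S : F) * (kry Y.1 w).det = (kry X.1 v).det := by
  let P : GL (Fin n) F := GeneralLinearGroup.mkOfDetNeZero _ hv
  let Q : GL (Fin n) F := GeneralLinearGroup.mkOfDetNeZero _ hw
  have hP : P.1 = kry X.1 v := rfl
  have hQ : Q.1 = kry Y.1 w := rfl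
  refine ⟨P * Q⁻¹, ?_, ?_⟩
  · rw [eq_mul_inv_iff_mul_eq, ← mul_assoc]
    have h1 : Y * Q = Q * (Q⁻¹ * Y * Q) := by group
    have h2 : (Q⁻¹ * Y * Q).1 = comp n Y.1.charpoly := by
      apply (Units.mul_right_inj Q).1
      rw [← Units.val_mul, ← h1, Units.val_mul, hQ, Cyc.mul_kry]
    have h3 : X * P = P * (Q⁻¹ * Y * Q) := by
      refine Units.ext ?_
      rw [Units.val_mul, Units.val_mul, h2, hP, Cyc.mul_kry, h]
    rw [h3]
    group
  · rw [← hP, ← hQ, ← GeneralLinearGroup.val_det_apply, ← GeneralLinearGroup.val_det_apply, map_mul, map_inv,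
      Units.val_mul, mul_assoc, ← Units.val_mul, inv_mul_cancel, Units.val_one, mul_one]

/-- An upper triangular matrix with all eigenspaces lines has a generator. -/
theorem exists_cyc_of_ker : ∀ (n : ℕ) (U : Matrix (Fin n) (Fin n) F),
    (∀ i j : Fin n, j < i → U i j = 0) →
    (∀ (μ : F) (u w : Fin n → F), u ≠ 0 → U *ᵥ u = μ • u → U *ᵥ w = μ • w → ∃ c : F, w = c • u) →
    ∃ v, Cyc U v := by
  intro n
  induction n with
  | zero =>
    intro U _ _
    exact ⟨0, by rw [Cyc, det_fin_zero]; exact one_ne_zero⟩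
  | succ n ih =>
    intro U hz hker
    set b := U 0 0 with hb
    set U' : Matrix (Fin n) (Fin n) F := Matrix.of fun i j => U i.succ j.succ with hU'
    set r : Fin n → F := fun j => U 0 j.succ with hr
    have hmul : ∀ (t : F) (u : Fin n → F),
        U *ᵥ Fin.cons t u = Fin.cons (b * t + r ⬝ᵥ u) (U' *ᵥ u) := by
      intro t u
      funext i
      induction i using Fin.cases with
      | zero => simp [Matrix.mulVec, dotProduct, Fin.sum_univ_succ, hb, hr]
      | succ i => simp [Matrix.mulVec, dotProduct, Fin.sum_univ_succ, hU', hz _ _ (Fin.succ_pos i)]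
    have hcons : ∀ (c t : F) (u : Fin n → F),
        c • (Fin.cons t u : Fin (n + 1) → F) = Fin.cons (c * t) (c • u) := by
      intro c t u
      funext i
      induction i using Fin.cases <;> simp
    have he0 : U *ᵥ Fin.cons 1 0 = b • Fin.cons 1 0 := by
      rw [hmul, hcons]; simp
    have hne0 : (Fin.cons 1 0 : Fin (n + 1) → F) ≠ 0 := fun h => by simpa using congrFun h 0
    have hker' : ∀ (μ : F) (u w : Fin n → F), u ≠ 0 → U' *ᵥ u = μ • u → U' *ᵥ w = μ • w →
        ∃ c : F, w = c • u := by
      intro μ u w hu hUu hUw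
      by_cases hμ : μ = b
      · subst hμ
        have hru : r ⬝ᵥ u ≠ 0 := by
          intro h0
          obtain ⟨c, hc⟩ := hker b (Fin.cons 1 0) (Fin.cons 0 u) hne0 he0
            (by rw [hmul, hcons, hUu, h0]; simp)
          refine hu (funext fun i => ?_)
          simpa using congrFun hc i.succ
        refine ⟨(r ⬝ᵥ w) / (r ⬝ᵥ u), ?_⟩
        set d := (r ⬝ᵥ w) / (r ⬝ᵥ u)
        obtain ⟨c, hc⟩ := hker b (Fin.cons 1 0) (Fin.cons 0 (w - d • u)) hne0 he0
          (by
            rw [hmul, hcons, mulVec_sub, mulVec_smul, hUu, hUw, dotProduct_sub, dotProduct_smul, smul_eq_mul,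
              div_mul_cancel₀ _ hru, sub_self, mul_zero, zero_add, smul_sub, smul_comm b d])
        refine sub_eq_zero.1 (funext fun i => ?_)
        simpa using congrFun hc i.succ
      · have hlift : ∀ (z : Fin n → F), U' *ᵥ z = μ • z →
            U *ᵥ Fin.cons ((μ - b)⁻¹ * (r ⬝ᵥ z)) z = μ • Fin.cons ((μ - b)⁻¹ * (r ⬝ᵥ z)) z := by
          intro z hz
          have h0 : μ - b ≠ 0 := sub_ne_zero.2 hμ
          rw [hmul, hcons, hz]
          congr 1
          field_simp
          ring
        obtain ⟨c, hc⟩ := hker μ _ _ (fun h => hu (funext fun i => by simpa using congrFun h i.succ))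
          (hlift u hUu) (hlift w hUw)
        exact ⟨c, funext fun i => by simpa using congrFun hc i.succ⟩
    obtain ⟨w, hw⟩ := ih U' (fun i j h => hz _ _ (Fin.succ_lt_succ_iff.2 h)) hker'
    rcases Nat.eq_zero_or_pos n with rfl | hn
    · refine ⟨Fin.cons 1 0, ?_⟩
      rw [Cyc, det_fin_one]
      simp [kry]
    set p := U'.charpoly with hp
    have hpd : p.natDegree = n := by rw [hp, Matrix.charpoly_natDegree_eq_dim, Fintype.card_fin]
    have hpow : ∀ (q : F[X]) (t : F) (u : Fin n → F),
        ∃ s : F, aeval U q *ᵥ Fin.cons t u = Fin.cons s (aeval U' q *ᵥ u) := by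
      intro q
      induction q using Polynomial.induction_on with
      | C a => exact fun t u => ⟨a * t, by simp [Algebra.algebraMap_eq_smul_one, smul_mulVec, hcons]⟩
      | add p q hp hq =>
        intro t u
        obtain ⟨s, hs⟩ := hp t u
        obtain ⟨s', hs'⟩ := hq t u
        refine ⟨s + s', ?_⟩
        rw [map_add, map_add, add_mulVec, add_mulVec, hs, hs']
        funext i
        induction i using Fin.cases <;> simp
      | monomial k a ih =>
        intro t u
        rw [pow_succ, ← mul_assoc, map_mul, map_mul _ (_ * _) X, aeval_X, aeval_X, ← mulVec_mulVec, ← mulVec_mulVec, hmul]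
        exact ih _ _
    -- a vector whose image under `p` is not zero
    obtain ⟨t, ht⟩ : ∃ t : F, aeval U p *ᵥ Fin.cons t w ≠ 0 := by
      by_contra hall
      push Not at hall
      have he : aeval U p *ᵥ Fin.cons 1 0 = 0 := by
        have h1 : (Fin.cons 1 0 : Fin (n + 1) → F) = Fin.cons 1 w - Fin.cons 0 w := by
          funext i
          induction i using Fin.cases <;> simp
        rw [h1, mulVec_sub, hall, hall, sub_zero]
      have hpe : ∀ q : F[X], aeval U q *ᵥ Fin.cons 1 0 = q.eval b • Fin.cons 1 0 := by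
        intro q
        induction q using Polynomial.induction_on with
        | C a => simp [Algebra.algebraMap_eq_smul_one, smul_mulVec]
        | add p q hp hq => rw [map_add, add_mulVec, hp, hq, eval_add, add_smul]
        | monomial k a ih =>
          rw [pow_succ, ← mul_assoc, map_mul, aeval_X, ← mulVec_mulVec, he0, mulVec_smul, ih, smul_smul]
          congr 1
          simp
          ring
      rw [hpe, smul_eq_zero, or_iff_left hne0] at he
      obtain ⟨q, hq⟩ := dvd_iff_isRoot.2 (he : p.IsRoot b)
      obtain ⟨s, hs⟩ := hpow q 0 w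
      have hqn : q ≠ 0 := by
        rintro rfl
        rw [mul_zero] at hq
        exact (Matrix.charpoly_monic U').ne_zero hq
      have hqd : q.natDegree < n := by
        rw [hq, natDegree_mul (X_sub_C_ne_zero b) hqn, natDegree_X_sub_C] at hpd
        omega
      have h0 := hall 0
      rw [hq, map_mul, ← mulVec_mulVec, hs, map_sub, aeval_X, aeval_C, sub_mulVec,
        Algebra.algebraMap_eq_smul_one, smul_mulVec, one_mulVec, sub_eq_zero] at h0
      obtain ⟨c, hc⟩ := hker b (Fin.cons 1 0) _ hne0 he0 h0
      exact hqn (hw.eq_zero hqd (funext fun i => by simpa using congrFun hc i.succ))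
    refine ⟨Fin.cons t w, fun hdet => ?_⟩
    obtain ⟨z, hz0, hz1⟩ := Matrix.exists_mulVec_eq_zero_iff.2 hdet
    set q : F[X] := ∑ i : Fin (n + 1), monomial i.val (z i) with hqdef
    have hqc : ∀ k : Fin (n + 1), q.coeff k.val = z k := fun k => by
      rw [hqdef, finsetSum_coeff, Finset.sum_eq_single k]
      · simp
      · intro l _ hl
        rw [coeff_monomial, if_neg (fun h => hl (Fin.ext h))]
      · simp
    have hqd : q.natDegree ≤ n := natDegree_sum_le_of_forall_le _ _ fun i _ =>
      (natDegree_monomial_le _).trans (Nat.le_of_lt_succ i.isLt)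
    have h0 : aeval U q *ᵥ Fin.cons t w = 0 := by
      rw [← kry_mulVec U _ q (by omega), show (fun k : Fin (n + 1) => q.coeff k.val) = z from funext hqc]
      exact hz1
    obtain ⟨s, hs⟩ := hpow q t w
    rw [h0] at hs
    have h1 : aeval U' q *ᵥ w = 0 := funext fun i => by simpa using (congrFun hs i.succ).symm
    -- the top coefficient
    set c := q.coeff n with hc
    have hd2 : (q - C c * p).natDegree < n := by
      by_cases he : q - C c * p = 0
      · rw [he, natDegree_zero]; exact hn
      refine lt_of_le_of_ne ((natDegree_sub_le _ _).trans (max_le hqd ((natDegree_C_mul_le _ _).trans hpd.le))) ?_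
      intro heq
      have hl := leadingCoeff_ne_zero.2 he
      rw [leadingCoeff, heq, coeff_sub, coeff_C_mul, ← hc] at hl
      have : p.coeff n = 1 := by rw [← hpd]; exact U'.charpoly_monic.coeff_natDegree
      rw [this, mul_one, sub_self] at hl
      exact hl rfl
    have hqp : q = C c * p := sub_eq_zero.1 (hw.eq_zero hd2 (by
      rw [map_sub, map_mul, hp, Matrix.aeval_self_charpoly, mul_zero, sub_zero, h1]))
    rw [hqp, map_mul, aeval_C, Algebra.algebraMap_eq_smul_one, smul_mul_assoc, one_mul, smul_mulVec,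
      smul_eq_zero, or_iff_left ht] at h0
    refine hz0 (funext fun k => ?_)
    rw [← hqc, hqp, h0]
    simp

end Cfsg.Agent.Lib.LevCover
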