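import Cfsg.Agent.Lib.LevCover.NF

/-!
Degree four.
-/

set_option autoImplicit false

namespace Cfsg.Agent.Lib.LevCover

open Matrix Polynomial

variable {F : Type*} [Field F]

theorem contig_three (a b : F) : Contig ![a, a, a, b] := by
  intro i j k hij hjk e
  fin_cases i <;> fin_cases j <;> fin_cases k <;> simp at hij hjk e ⊢ <;> simp [e]

theorem contig_pairs (a b : F) : Contig ![a, a, b, b] := by
  intro i j k hij hjk e
  fin_cases i <;> fin_cases j <;> fin_cases k <;> simp at hij hjk e ⊢ <;> simp [e]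

theorem contig_two_one (a b c : F) (hb : b ≠ a) (hc : c ≠ a ∨ c = b) : Contig ![a, a, b, c] := by
  intro i j k hij hjk e
  fin_cases i <;> fin_cases j <;> fin_cases k <;> simp at hij hjk e ⊢ <;>
    first
      | rfl
      | exact absurd e hb
      | exact absurd e.symm hb
      | exact e
      | exact e.symm
      | (rcases hc with h | h
         · first
            | exact absurd e h
            | exact absurd e.symm h
         · simp_all)

theorem similar_list {n : ℕ} {K : Subgroup Fˣ} {A X G : GL (Fin n) F} {j : ℕ} (hX : Cls K A j X)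
    (hXc : ∃ w, Cyc X.1 w) (hGc : ∃ w, Cyc G.1 w) (h : G.1.charpoly = X.1.charpoly) : Cls K A j G := by
  obtain ⟨wX, hwX⟩ := hXc
  obtain ⟨wG, hwG⟩ := hGc
  obtain ⟨S, rfl, -⟩ := exists_similar hwG hwX h
  exact hX.conj S

theorem det_four {X : Matrix (Fin 4) (Fin 4) F} (hz : ∀ i j, j < i → X i j = 0) :
    X.det = X 0 0 * X 1 1 * X 2 2 * X 3 3 := by
  rw [Matrix.det_of_isUpperTriangular (fun i j h => hz i j h), Fin.prod_univ_four]

/-- Cyclic, degree four: one pair for every two parameters. -/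
theorem four_block (h4 : Four F) (A : GL (Fin 4) F) (hAc : ∃ w, Cyc A.1 w) {x0 x : F} (hx0 : x0 ≠ 0) (hx : x ≠ 0) :
    ∃ (P T B X : GL (Fin 4) F), A = P * B * P⁻¹ ∧ B.1 = comp 4 A.1.charpoly ∧ X = T * B * T⁻¹ * B ∧
      (∃ w, Cyc X.1 w) ∧ (∃ κ : F, κ ≠ 0 ∧ (κ = 1 ∨ κ = -1) ∧ (GeneralLinearGroup.det T : F) * x = κ * x0 ^ 3) ∧
      X.1.charpoly = ∏ i : Fin 4, (Polynomial.X -
        C (![x0, x0, x, (GeneralLinearGroup.det A : F) ^ 2 / (x0 * x0 * x)] i)) ∧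
      RightSafe B.1 X.1 x0 := by
  obtain ⟨w, hw⟩ := hAc
  set f := A.1.charpoly with hf
  have hfd : f.natDegree = 4 := by rw [hf, Matrix.charpoly_natDegree_eq_dim, Fintype.card_fin]
  have hcd : (comp 4 f).det = A.1.det := by
    rw [Matrix.det_eq_sign_charpoly_coeff, comp_charpoly A.1.charpoly_monic hfd,
      ← Matrix.det_eq_sign_charpoly_coeff]
  have hf0 : f.coeff 0 ≠ 0 := fun h => GeneralLinearGroup.det_ne_zero A (by
    rw [Matrix.det_eq_sign_charpoly_coeff, ← hf, h, mul_zero])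
  obtain ⟨B, hB⟩ := exists_GL (S := comp 4 f) (hcd ▸ GeneralLinearGroup.det_ne_zero A)
  obtain ⟨P, hP, -⟩ := exists_similar (X := A) (Y := B) hw (w := Pi.single (0 : Fin 4) 1)
    (by rw [hB]; exact comp_cyc f (by omega)) (by rw [hB, comp_charpoly A.1.charpoly_monic hfd])
  obtain ⟨D, hD, ⟨κ0, hκ0, hDeq⟩, hblk⟩ := block_big h4 1 hf0 hx0
  obtain ⟨T, X, hdT, hX, hz, hd0, hd1, hKX, -, hR⟩ := hblk x hx
  obtain ⟨κ, hκ, hκ', hDκ⟩ : ∃ κ : F, κ ≠ 0 ∧ (κ = 1 ∨ κ = -1) ∧ D = κ * x0 ^ 3 := by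
    refine ⟨κ0, by rcases hκ0 with h | h <;> simp [h], hκ0, ?_⟩
    rw [hDeq, Fin.prod_univ_three]
    simp only [Fin.val_zero, Fin.val_one, Fin.val_two]
    ring
  set XG := T * B * T⁻¹ * B with hXG
  have hXv : XG.1 = X := by rw [hXG, hX, Units.val_mul, Units.val_mul, Units.val_mul, hB]
  obtain ⟨wX, hwX⟩ := exists_cyc_of_ker 4 X hz hKX
  refine ⟨P, T, B, XG, hP, hB, rfl, ⟨wX, hXv ▸ hwX⟩, ⟨κ, hκ, hκ', hdT.trans hDκ⟩, ?_, ?_⟩
  · have h00 : X 0 0 = x0 := hd0 0 (by simp)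
    have h11 : X 1 1 = x0 := hd0 1 (by simp)
    have h22 : X 2 2 = x := hd1
    have hdet : X.det = A.1.det ^ 2 := by
      rw [hX, det_mul, det_mul, det_mul, mul_right_comm T.1.det, ← det_mul, Units.mul_inv, det_one, one_mul, hcd, sq]
    rw [det_four hz, h00, h11, h22] at hdet
    rw [hXv, charpoly_upper hz (l := fun i => X i i) fun _ => rfl]
    refine Finset.prod_congr rfl fun i _ => ?_
    fin_cases i
    · simp [h00]
    · simp [h11]
    · simp [h22]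
    · simp only [Fin.reduceFinMk, Matrix.cons_val]
      rw [det_val, ← hdet]
      field_simp
  · rw [hXv, hB]; exact hR

/-- The second value of a two by two block. -/
theorem four_twos (h4 : Four F) (A : GL (Fin 4) F) {t d : F} (hd : d ≠ 0) {P : GL (Fin 4) F}
    {C0 : Matrix (Fin 2) (Fin 2) F}
    (hAP : A.1 * P.1 = P.1 * glue (cmp2 t d) C0 (cmp2 t d)) {x0 : F} (hx0 : OK2 t d x0) :
    ∃ (T B X : GL (Fin 4) F), A = P * B * P⁻¹ ∧ X = T * B * T⁻¹ * B ∧ (∃ w, Cyc X.1 w) ∧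
      X.1.charpoly = ∏ i : Fin 4, (Polynomial.X - C (![x0, x0, d * d / x0, d * d / x0] i)) ∧
      RightSafe B.1 X.1 x0 := by
  obtain ⟨Ta, Xa, hXa, hza, ⟨hXa0, hXa1⟩, hKa, hRa, hLa⟩ := block_two hd hx0
  obtain ⟨T, C, -, hTX, hzT, hKT⟩ := glue_pair h4 C0 hXa hXa (by rw [cmp2, det_fin_two]; simp [hd]) hza hza hKa hKa
    ![x0, d * d / x0, x0] (fun i => by fin_cases i <;> [exact ⟨0, hXa0⟩; exact ⟨1, hXa1⟩])
    (fun s => by
      fin_cases s
      · exact Or.inr hRa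
      · by_cases h' : d * d / x0 = x0
        · simpa [h'] using Or.inr hRa
        · exact Or.inl (hLa _ (Or.inl h'))
      · exact Or.inr hRa)
  set B : GL (Fin 4) F := P⁻¹ * A * P with hB
  have hBv : B.1 = glue (cmp2 t d) C0 (cmp2 t d) := by
    rw [hB, Units.val_mul, Units.val_mul, mul_assoc, hAP, ← mul_assoc, Units.inv_mul, one_mul]
  set XG := T * B * T⁻¹ * B with hXG
  have hXv : XG.1 = glue Xa C Xa := by rw [hXG, ← hTX, Units.val_mul, Units.val_mul, Units.val_mul, hBv]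
  obtain ⟨w, hw⟩ := exists_cyc_of_ker 4 _ hzT hKT
  refine ⟨T, B, XG, by rw [hB]; group, rfl, ⟨w, hXv ▸ hw⟩, ?_, ?_⟩
  · rw [hXv, glue_charpoly, charpoly_upper hza (l := fun i => Xa i i) fun _ => rfl, Fin.prod_univ_two,
      Fin.prod_univ_four, hXa0, hXa1]
    simp only [Matrix.cons_val]
    ring
  · rw [hXv, hBv]
    refine (glue_rightSafe hKT (w1 := Pi.single 0 1) (by simp) ?_ hRa).1
    rw [mulVec_single_one]
    funext i
    fin_cases i
    · simp [hXa0]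
    · simp [hza 1 0 (by decide)]

/-- Two pairs, each excluding one shared value. -/
theorem four_join [Fintype F] (h4 : 4 ≤ Fintype.card F) {A : GL (Fin 4) F} {g : GL (Fin 4) F}
    (hdet : GeneralLinearGroup.det g = GeneralLinearGroup.det A ^ 4)
    (hg : (∀ c : F, g.1 ≠ c • 1) ∨ g.1 = (GeneralLinearGroup.det A : F) • 1) {l : Fin 4 → F} (hl : Contig l)
    (hl0 : ∀ i, l i ≠ 0) {P T B X P' T' B' X' : GL (Fin 4) F}
    (hA : A = P * B * P⁻¹) (hX : X = T * B * T⁻¹ * B) (hXc : ∃ w, Cyc X.1 w)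
    (hXp : X.1.charpoly = ∏ i, (Polynomial.X - C (l i))) {x : F} (hR : RightSafe B.1 X.1 x)
    (hA' : A = P' * B' * P'⁻¹) (hX' : X' = T' * B' * T'⁻¹ * B') (hXc' : ∃ w, Cyc X'.1 w)
    (hXp' : X'.1.charpoly = ∏ i, (Polynomial.X - C ((GeneralLinearGroup.det A : F) * (l i)⁻¹))) {x' : F}
    (hR' : RightSafe B'.1 X'.1 x') :
    One ⊤ A 4 g ∧ ((∀ (a : F) (w : Fin 4 → F), A.1 *ᵥ w = a • w → w ≠ 0 → a * a = x ∨ a * a = x') → NF A 4 g) := by
  obtain ⟨L, U, rfl, hLc, hLp, hUc, hUp⟩ := split_any h4 (by omega) g (Units.ne_zero (GeneralLinearGroup.det A))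
    (by rw [hdet, Units.val_pow_eq_pow_val]) hg hl hl0
  obtain ⟨wL, hwL⟩ := hLc
  obtain ⟨wU, hwU⟩ := hUc
  obtain ⟨wX, hwX⟩ := hXc
  obtain ⟨wX', hwX'⟩ := hXc'
  obtain ⟨S, hS, -⟩ := exists_similar hwL hwX (hLp.trans hXp.symm)
  obtain ⟨S', hS', -⟩ := exists_similar hwU hwX' (hUp.trans hXp'.symm)
  set B1 := (S * T * P⁻¹) * A * (S * T * P⁻¹)⁻¹ with hB1
  set B2 := (S * P⁻¹) * A * (S * P⁻¹)⁻¹ with hB2
  set B3 := (S' * T' * P'⁻¹) * A * (S' * T' * P'⁻¹)⁻¹ with hB3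
  set B4 := (S' * P'⁻¹) * A * (S' * P'⁻¹)⁻¹ with hB4
  have hLB : L = B1 * B2 := by rw [hB1, hB2, hS, hX, hA]; group
  have hUB : U = B3 * B4 := by rw [hB3, hB4, hS', hX', hA']; group
  have hp : [B1, B2, B3, B4].prod = L * U := by
    simp only [List.prod_cons, List.prod_nil, mul_one, hLB, hUB, mul_assoc]
  have hl4 : ∀ C ∈ [B1, B2, B3, B4], ∃ R : GL (Fin 4) F, C = R * A * R⁻¹ := by
    intro C hC
    simp only [List.mem_cons, List.not_mem_nil, or_false] at hC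
    rcases hC with rfl | rfl | rfl | rfl <;> exact ⟨_, rfl⟩
  refine ⟨?_, fun hnf => ⟨_, rfl, hl4, hp, fun a w hw => ?_⟩⟩
  · have := One.of_list (K := (⊤ : Subgroup Fˣ)) [B1, B2, B3, B4] fun C hC => by
      obtain ⟨R, hR⟩ := hl4 C hC
      exact ⟨R, Subgroup.mem_top _, hR⟩
    rwa [hp] at this
  · by_contra hno
    push Not at hno
    -- a pair sharing the value
    have hpair : ∀ (S P T B X : GL (Fin 4) F) (x : F), A = P * B * P⁻¹ → X = T * B * T⁻¹ * B →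
        RightSafe B.1 X.1 x → ((S * T * P⁻¹) * A * (S * T * P⁻¹)⁻¹).1 *ᵥ w = a • w →
        ((S * P⁻¹) * A * (S * P⁻¹)⁻¹).1 *ᵥ w = a • w → a * a ≠ x := by
      intro S P T B X x hA hX hR h1 h2 hax
      rw [show (S * T * P⁻¹) * A * (S * T * P⁻¹)⁻¹ = S * (T * B * T⁻¹) * S⁻¹ by rw [hA]; group] at h1
      rw [show (S * P⁻¹) * A * (S * P⁻¹)⁻¹ = S * B * S⁻¹ by rw [hA]; group] at h2
      have h1' := conj_eig h1
      have h2' := conj_eig h2
      refine hR _ a ?_ ?_ h2'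
      · intro h0
        exact hw (by simpa [mulVec_mulVec] using congrArg (S.1 *ᵥ ·) h0)
      · rw [hX, Units.val_mul, ← mulVec_mulVec, h2', mulVec_smul, h1', smul_smul, hax]
    have hw' := conj_eig (hno B2 (by simp))
    have hne : ((S * P⁻¹)⁻¹).1 *ᵥ w ≠ 0 := fun h0 => hw (by
      have h1 := congrArg ((S * P⁻¹).1 *ᵥ ·) h0
      rwa [mulVec_zero, mulVec_mulVec, Units.mul_inv, one_mulVec] at h1)
    rcases hnf a _ hw' hne with h | h
    · exact hpair S P T B X x hA hX hR (hno B1 (by simp)) (hno B2 (by simp)) h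
    · exact hpair S' P' T' B' X' x' hA' hX' hR' (hno B3 (by simp)) (hno B4 (by simp)) h

end Cfsg.Agent.Lib.LevCover
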