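import Cfsg.Agent.Lib.LevCover.GN

/-!
A matrix with lines as eigenspaces: a conjugate of it times a further one is split cyclic.
-/

set_option autoImplicit false

namespace Cfsg.Agent.Lib.LevCover

open Matrix Polynomial

variable {F : Type*} [Field F] {n : ℕ}

/-- No eigenvector in the field. -/
def NoEig {ι : Type*} [Fintype ι] (M : Matrix ι ι F) : Prop := ∀ (μ : F) (u : ι → F), M *ᵥ u = μ • u → u = 0

theorem NoEig.kerLine {M : Matrix (Fin n) (Fin n) F} (h : NoEig M) : KerLine M :=
  fun μ u _ hu hMu _ => absurd (h μ u hMu) hu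

theorem One.transport {K : Subgroup Fˣ} {A g : GL (Fin n) F} {j : ℕ} (h : One K A j g) (S : GL (Fin n) F) :
    One K (S * A * S⁻¹) j (S * g * S⁻¹) := by
  induction h with
  | nil => simpa using One.nil
  | @cons j B g hB _ ih =>
    obtain ⟨T, hT, rfl⟩ := hB
    have hT' : GeneralLinearGroup.det (S * T * S⁻¹) ∈ K := by
      rwa [map_mul, map_mul, map_inv, mul_comm (GeneralLinearGroup.det S), mul_inv_cancel_right]
    have h := One.cons (⟨S * T * S⁻¹, hT', rfl⟩ : Fac K (S * A * S⁻¹) _) ih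
    rwa [show S * T * S⁻¹ * (S * A * S⁻¹) * (S * T * S⁻¹)⁻¹ * (S * g * S⁻¹) = S * (T * A * T⁻¹ * g) * S⁻¹ by
      group] at h

/-- A vector whose annihilator kills everything. -/
theorem exists_max (A : Matrix (Fin n) (Fin n) F) :
    ∃ v, ∀ p : F[X], aeval A p *ᵥ v = 0 → aeval A p = 0 := by
  set f : Module.End F (Fin n → F) := Matrix.toLinAlgEquiv' A with hf
  obtain ⟨x, hx⟩ := Module.exists_ker_toSpanSingleton_eq_annihilator F[X] (Module.AEval' f)
  obtain ⟨v, rfl⟩ := (Module.AEval'.of f).surjective x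
  have e : ∀ (p : F[X]) (w : Fin n → F), p • Module.AEval'.of f w = Module.AEval'.of f (aeval A p *ᵥ w) := by
    intro p w
    rw [← Module.AEval.of_aeval_smul]
    congr 1
    rw [hf, Polynomial.aeval_algEquiv, AlgHom.comp_apply]
    rfl
  refine ⟨v, fun p hp => mext fun w => ?_⟩
  have hmem : p ∈ LinearMap.ker (LinearMap.toSpanSingleton F[X] _ (Module.AEval'.of f v)) := by
    rw [LinearMap.mem_ker, LinearMap.toSpanSingleton_apply, e, hp, map_zero]
  rw [hx, Module.mem_annihilator] at hmem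
  have h := hmem (Module.AEval'.of f w)
  rw [e, LinearEquiv.map_eq_zero_iff] at h
  rw [h, zero_mulVec]

theorem exists_contig [Fintype F] (l : Fin n → F) : ∃ l' : Fin n → F, Contig l' ∧
    ∏ i, (X - C (l' i)) = ∏ i, (X - C (l i)) := by
  classical
  set e : F → Fin (Fintype.card F) := ⇑(Fintype.equivFin F) with he
  set σ := Tuple.sort (e ∘ l) with hσ
  refine ⟨l ∘ σ, fun i j k hij hjk h => ?_, Equiv.prod_comp σ fun i => X - C (l i)⟩
  have hm := Tuple.monotone_sort (e ∘ l)
  have h1 := hm hij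
  have h2 := hm hjk
  simp only [Function.comp_apply] at h1 h2 h ⊢
  rw [← hσ] at h1 h2
  rw [← h] at h2
  exact (Fintype.equivFin F).injective (le_antisymm h2 h1)

theorem aeval_conj {m : ℕ} (A P M : Matrix (Fin m) (Fin m) F) (h : A * P = P * M) (p : F[X]) :
    aeval A p * P = P * aeval M p := by
  induction p using Polynomial.induction_on with
  | C a => simp [Algebra.algebraMap_eq_smul_one]
  | add p q hp hq => rw [map_add, map_add, add_mul, hp, hq, mul_add]
  | monomial k a ih =>
    rw [pow_succ, ← mul_assoc, map_mul, map_mul _ (_ * _) X, aeval_X, aeval_X, mul_assoc, h, ← mul_assoc, ih,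
      mul_assoc]

theorem aeval_eig {m : ℕ} {M : Matrix (Fin m) (Fin m) F} {a : F} {z : Fin m → F} (h : M *ᵥ z = a • z) (p : F[X]) :
    aeval M p *ᵥ z = p.eval a • z := by
  induction p using Polynomial.induction_on with
  | C c => simp [Algebra.algebraMap_eq_smul_one, smul_mulVec]
  | add p q hp hq => rw [map_add, add_mulVec, hp, hq, eval_add, add_smul]
  | monomial k c ih =>
    rw [pow_succ, ← mul_assoc, map_mul, aeval_X, ← mulVec_mulVec, h, mulVec_smul, ih, smul_smul]
    congr 1
    simp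
    ring

theorem glue_aeval {m k : ℕ} (A1 : Matrix (Fin m) (Fin m) F) (C0 : Matrix (Fin m) (Fin k) F)
    (A2 : Matrix (Fin k) (Fin k) F) (p : F[X]) : ∀ z : Fin k → F,
    ∃ w, aeval (glue A1 C0 A2) p *ᵥ Fin.append 0 z = Fin.append w (aeval A2 p *ᵥ z) := by
  suffices h : ∀ (u : Fin m → F) (z : Fin k → F),
      ∃ w, aeval (glue A1 C0 A2) p *ᵥ Fin.append u z = Fin.append w (aeval A2 p *ᵥ z) from fun z => h 0 z
  induction p using Polynomial.induction_on with
  | C a =>
    intro u z
    refine ⟨a • u, ?_⟩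
    simp only [aeval_C, Algebra.algebraMap_eq_smul_one, smul_mulVec, one_mulVec]
    funext i
    refine Fin.addCases (fun i => ?_) (fun i => ?_) i <;> simp
  | add p q hp hq =>
    intro u z
    obtain ⟨w, hw⟩ := hp u z
    obtain ⟨w', hw'⟩ := hq u z
    refine ⟨w + w', ?_⟩
    rw [map_add, map_add, add_mulVec, add_mulVec, hw, hw']
    funext i
    refine Fin.addCases (fun i => ?_) (fun i => ?_) i <;> simp
  | monomial j a ih =>
    intro u z
    rw [pow_succ, ← mul_assoc, map_mul, map_mul _ (_ * _) X, aeval_X, aeval_X, ← mulVec_mulVec, ← mulVec_mulVec,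
      glue_mulVec]
    exact ih _ _

/-- The decomposition along the cyclic space of a vector with the full annihilator. -/
theorem exists_split (A : Matrix (Fin n) (Fin n) F) (hA : A.det ≠ 0) (hK : KerLine A) :
    ∃ (m k : ℕ) (h : m + k = n) (f : F[X]) (C0 : Matrix (Fin m) (Fin k) F) (A2 : Matrix (Fin k) (Fin k) F)
      (P : Matrix (Fin n) (Fin n) F),
      f.Monic ∧ f.natDegree = m ∧ f.coeff 0 ≠ 0 ∧ P.det ≠ 0 ∧
      A * P = P * Matrix.reindex (finCongr h) (finCongr h) (glue (comp m f) C0 A2) ∧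
      A2.det ≠ 0 ∧ NoEig A2 ∧ aeval A f = 0 ∧ aeval A2 f = 0 ∧ ∀ p : F[X], aeval A p = 0 → f ∣ p := by
  classical
  obtain ⟨v, hv⟩ := exists_max A
  set f := minpoly F A with hfdef
  have hfm : f.Monic := minpoly.monic (Matrix.isIntegral A)
  obtain ⟨m, hm⟩ : ∃ m, f.natDegree = m := ⟨_, rfl⟩
  have hind : ∀ p : F[X], p.natDegree < m → aeval A p *ᵥ v = 0 → p = 0 := fun p hp h0 => by_contra fun hne => by
    have := minpoly.degree_le_of_ne_zero F A hne (hv p h0)
    rw [degree_eq_natDegree hfm.ne_zero, degree_eq_natDegree hne, Nat.cast_le] at this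
    rw [hm] at this
    omega
  let Q : Matrix (Fin n) (Fin m) F := Matrix.of fun i j => ((A ^ j.val) *ᵥ v) i
  have hQz : ∀ z : Fin m → F, Q *ᵥ z = aeval A (∑ j : Fin m, monomial j.val (z j)) *ᵥ v := by
    intro z
    rw [map_sum, Matrix.sum_mulVec]
    funext i
    simp only [Q, Matrix.mulVec, dotProduct, Matrix.of_apply, Finset.sum_apply, aeval_monomial,
      Algebra.algebraMap_eq_smul_one, smul_mul_assoc, one_mul, Matrix.smul_apply, smul_eq_mul, mul_assoc,
      ← Finset.mul_sum]
    exact Finset.sum_congr rfl fun j _ => mul_comm _ _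
  have hQi : ∀ z, Q *ᵥ z = 0 → z = 0 := by
    intro z hz
    rw [hQz] at hz
    by_cases hm0 : m = 0
    · exact funext fun j => absurd j.isLt (by omega)
    have hd : (∑ j : Fin m, monomial j.val (z j)).natDegree < m := by
      refine lt_of_le_of_lt (natDegree_sum_le_of_forall_le _ _ fun j _ =>
        (natDegree_monomial_le _).trans (by have := j.isLt; omega : j.val ≤ m - 1)) (by omega)
    have h0 := hind _ hd hz
    funext j
    have h1 := congrArg (coeff · j.val) h0
    simpa [finsetSum_coeff, coeff_monomial, Fin.val_inj] using h1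
  -- a complement
  obtain ⟨W, hW⟩ := Submodule.exists_isCompl (LinearMap.range Q.mulVecLin)
  obtain ⟨k, hk⟩ : ∃ k, Module.finrank F W = k := ⟨_, rfl⟩
  let b := Module.finBasisOfFinrankEq F W hk
  have hn : m + k = n := by
    have h1 := Submodule.finrank_add_eq_of_isCompl hW
    have h2 : Module.finrank F (LinearMap.range Q.mulVecLin) = m := by
      rw [LinearMap.finrank_range_of_inj, Module.finrank_fin_fun]
      intro x y hxy
      exact sub_eq_zero.1 (hQi _ (by rw [mulVec_sub]; simpa [sub_eq_zero] using hxy))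
    rw [h2, hk, Module.finrank_fin_fun] at h1
    exact h1
  subst hn
  let P : Matrix (Fin (m + k)) (Fin (m + k)) F := Matrix.of fun i => Fin.append (Q i) fun j => (b j : Fin (m + k) → F) i
  have hPu : ∀ (u : Fin m → F) (z : Fin k → F), P *ᵥ Fin.append u z = Q *ᵥ u + ∑ j, z j • (b j : Fin (m + k) → F) := by
    intro u z
    funext i
    simp [P, Matrix.mulVec, dotProduct, Fin.sum_univ_add, Finset.sum_apply, mul_comm]
  have happ : ∀ z : Fin (m + k) → F, ∃ u w, z = Fin.append u w := fun z =>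
    ⟨fun i => z (Fin.castAdd k i), fun i => z (Fin.natAdd m i), (Fin.append_castAdd_natAdd).symm⟩
  have hPinj : ∀ z, P *ᵥ z = 0 → z = 0 := by
    intro z hz
    obtain ⟨u, w, rfl⟩ := happ z
    rw [hPu] at hz
    have hmW : ∑ j, w j • (b j : Fin (m + k) → F) ∈ W := Submodule.sum_mem _ fun j _ => W.smul_mem _ (b j).2
    have hmR : ∑ j, w j • (b j : Fin (m + k) → F) ∈ LinearMap.range Q.mulVecLin :=
      ⟨-u, by rw [Matrix.mulVecLin_apply, mulVec_neg, neg_eq_iff_add_eq_zero, hz]⟩
    have h0 := (Submodule.disjoint_def.1 hW.disjoint) _ hmR hmW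
    rw [h0, add_zero] at hz
    have hu := hQi u hz
    have hw : ∑ j, w j • b j = 0 := Subtype.ext (by simpa using h0)
    have hw' := Fintype.linearIndependent_iff.1 b.linearIndependent w hw
    subst hu
    funext i
    refine Fin.addCases (fun i => ?_) (fun i => ?_) i <;> simp [hw']
  have hPdet : P.det ≠ 0 := fun h => by
    obtain ⟨z, hz, hz'⟩ := Matrix.exists_mulVec_eq_zero_iff.2 h
    exact hz (hPinj z hz')
  obtain ⟨PG, hPG⟩ := exists_GL (S := P) hPdet
  set M := (PG⁻¹).1 * A * P with hM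
  have hAP : A * P = P * M := by
    rw [hM, ← mul_assoc, ← mul_assoc, ← hPG, Units.mul_inv, one_mul]
  have hPtop : ∀ u : Fin m → F, P *ᵥ Fin.append u 0 = Q *ᵥ u := fun u => by rw [hPu]; simp
  have haQ : ∀ j : Fin m, A *ᵥ (Q *ᵥ Pi.single j 1) = Q *ᵥ (comp m f *ᵥ Pi.single j 1) := by
    intro j
    have hQj : ∀ i : Fin m, Q *ᵥ Pi.single i 1 = (A ^ i.val) *ᵥ v := fun i => by
      funext x; simp [Q, mulVec_single_one]
    rw [hQj, mulVec_mulVec, ← pow_succ']
    by_cases hj : j.val + 1 < m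
    · rw [comp_single f (j := ⟨j.val + 1, hj⟩) rfl, hQj]
    · have hjm : j.val + 1 = m := by have := j.isLt; omega
      rw [comp_single_last f hjm, hjm]
      have h0 := congrArg (· *ᵥ v) (minpoly.aeval F A)
      simp only [zero_mulVec] at h0
      rw [← hfdef, aeval_mulVec A v f (N := m + 1) (by omega), Finset.sum_range_succ, Finset.sum_range] at h0
      have hlead : f.coeff m = 1 := hm ▸ hfm.coeff_natDegree
      rw [hlead, one_smul] at h0
      rw [eq_neg_of_add_eq_zero_right h0]
      funext i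
      simp [Q, Matrix.mulVec, dotProduct, Finset.sum_apply, mul_comm]
  have hMcol : ∀ j : Fin m, M *ᵥ Pi.single (Fin.castAdd k j) 1 = Fin.append (comp m f *ᵥ Pi.single j 1) 0 := by
    intro j
    have e1 : (Pi.single (Fin.castAdd k j) 1 : Fin (m + k) → F) = Fin.append (Pi.single j 1) 0 := by
      funext i
      refine Fin.addCases (fun i => ?_) (fun i => ?_) i
      · simp [Pi.single_apply]
      · have := j.isLt
        simp [Pi.single_apply, Fin.ext_iff]
        omega
    refine sub_eq_zero.1 (hPinj _ ?_)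
    rw [mulVec_sub, mulVec_mulVec, ← hAP, ← mulVec_mulVec, e1, hPtop, hPtop, haQ, sub_self]
  set C0 : Matrix (Fin m) (Fin k) F := Matrix.of fun i j => M (Fin.castAdd k i) (Fin.natAdd m j)
  set A2 : Matrix (Fin k) (Fin k) F := Matrix.of fun i j => M (Fin.natAdd m i) (Fin.natAdd m j)
  have hMg : M = glue (comp m f) C0 A2 := by
    ext i j
    refine Fin.addCases (fun j => ?_) (fun j => ?_) j
    · have h := congrFun (hMcol j) i
      rw [mulVec_single_one, Matrix.col_apply] at h
      rw [h]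
      refine Fin.addCases (fun i => ?_) (fun i => ?_) i
      · rw [Fin.append_left, glue_castAdd, mulVec_single_one, Matrix.col_apply]
      · rw [Fin.append_right, glue_natAdd_castAdd, Pi.zero_apply]
    · refine Fin.addCases (fun i => ?_) (fun i => ?_) i
      · rw [glue_castAdd_natAdd]; rfl
      · rw [glue_natAdd]; rfl
  have hf0 : f.coeff 0 ≠ 0 ∧ A2.det ≠ 0 := by
    have hd : M.det ≠ 0 := by
      have h := congrArg Matrix.det hAP
      rw [det_mul, det_mul, mul_comm] at h
      rw [← mul_left_cancel₀ hPdet h]; exact hA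
    rw [hMg, glue_det, mul_ne_zero_iff] at hd
    refine ⟨fun h0 => hd.1 ?_, hd.2⟩
    rw [Matrix.det_eq_sign_charpoly_coeff, comp_charpoly hfm hm, h0, mul_zero]
  refine ⟨m, k, rfl, f, C0, A2, P, hfm, hm, hf0.1, hPdet, ?_, hf0.2, ?_, minpoly.aeval F A, ?_, fun p hp =>
    minpoly.dvd F A hp⟩
  · rw [hAP, hMg]
    simp
  · intro a z hz
    by_contra hz0
    set u := P *ᵥ Fin.append 0 z with hu
    set c := C0 *ᵥ z with hc
    have hAu : A *ᵥ u = a • u + Q *ᵥ c := by
      rw [hu, mulVec_mulVec, hAP, ← mulVec_mulVec, hMg, glue_mulVec, mulVec_zero, zero_add, hz]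
      rw [hPu, hPu, mulVec_zero, zero_add, hc, add_comm (Q *ᵥ _), Finset.smul_sum]
      congr 1
      exact Finset.sum_congr rfl fun j _ => by rw [Pi.smul_apply, smul_eq_mul, mul_smul]
    set q : F[X] := ∑ j : Fin m, monomial j.val (c j) with hq
    have hdvd : ∀ s : F[X], f ∣ s → aeval A s = 0 := fun s ⟨r, hr⟩ => by
      rw [hr, map_mul, minpoly.aeval, zero_mul]
    -- the value is a root
    have hroot : f.IsRoot a := by
      by_contra hnr
      have h2 : aeval A2 f *ᵥ z = 0 := by
        have h3 := congrArg (· *ᵥ u) (minpoly.aeval F A)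
        simp only [zero_mulVec] at h3
        rw [← hfdef] at h3
        obtain ⟨w, hw⟩ := glue_aeval (comp m f) C0 A2 f z
        rw [hu, mulVec_mulVec, aeval_conj A P M hAP, ← mulVec_mulVec, hMg, hw] at h3
        have h4 := hPinj _ h3
        funext i
        simpa using congrFun h4 (Fin.natAdd m i)
      rw [aeval_eig hz] at h2
      exact (smul_eq_zero.1 h2).elim hnr hz0
    obtain ⟨r, hr⟩ := dvd_iff_isRoot.2 hroot
    have hrne : r ≠ 0 := fun h => hfm.ne_zero (by rw [hr, h, mul_zero])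
    have hrd : r.natDegree < m := by
      rw [← hm, hr, natDegree_mul (X_sub_C_ne_zero a) hrne, natDegree_X_sub_C]; omega
    have he : aeval A r *ᵥ v ≠ 0 := fun h => hrne (hind r hrd h)
    have heig : A *ᵥ (aeval A r *ᵥ v) = a • (aeval A r *ᵥ v) := by
      have h3 := congrArg (· *ᵥ v) (hdvd f dvd_rfl)
      simp only [zero_mulVec] at h3
      rw [hr, map_mul, map_sub, aeval_X, aeval_C, Algebra.algebraMap_eq_smul_one, ← mulVec_mulVec, sub_mulVec,
        smul_mulVec, one_mulVec, sub_eq_zero] at h3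
      exact h3
    have hq0 : q.IsRoot a := by
      have h3 : aeval A r *ᵥ ((A - a • 1) *ᵥ u) = 0 := by
        rw [mulVec_mulVec]
        have : aeval A r * (A - a • 1) = aeval A f := by
          rw [hr, mul_comm (X - C a), map_mul, map_sub, aeval_X, aeval_C, Algebra.algebraMap_eq_smul_one]
        rw [this, minpoly.aeval, zero_mulVec]
      rw [sub_mulVec, hAu, smul_mulVec, one_mulVec, add_sub_cancel_left, hQz, ← hq, mulVec_mulVec, ← map_mul] at h3
      obtain ⟨s, hs⟩ := minpoly.dvd F A (hv _ h3)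
      rw [← hfdef, hr, mul_comm (X - C a), mul_assoc] at hs
      exact dvd_iff_isRoot.1 ⟨s, mul_left_cancel₀ hrne hs⟩
    obtain ⟨q', hq'⟩ := dvd_iff_isRoot.2 hq0
    have h4 : A *ᵥ (u - aeval A q' *ᵥ v) = a • (u - aeval A q' *ᵥ v) := by
      have h5 : A *ᵥ (aeval A q' *ᵥ v) = aeval A q *ᵥ v + a • (aeval A q' *ᵥ v) := by
        rw [hq', map_mul, map_sub, aeval_X, aeval_C, Algebra.algebraMap_eq_smul_one, sub_mul, smul_mul_assoc,
          one_mul, sub_mulVec, smul_mulVec, sub_add_cancel, ← mulVec_mulVec]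
      rw [mulVec_sub, hAu, hQz, ← hq, h5, smul_sub]
      abel
    obtain ⟨t, ht⟩ := hK a _ _ he heig h4
    have h6 : u = aeval A (q' + C t * r) *ᵥ v := by
      rw [map_add, map_mul, aeval_C, Algebra.algebraMap_eq_smul_one, smul_mul_assoc, one_mul, add_mulVec,
        smul_mulVec, ← ht]
      abel
    have hrange : ∀ p : F[X], ∃ y, aeval A p *ᵥ v = Q *ᵥ y := by
      intro p
      refine ⟨fun j => (p %ₘ f).coeff j.val, ?_⟩
      have h7 : aeval A p = aeval A (p %ₘ f) := by
        conv_lhs => rw [← modByMonic_add_div p f, map_add, map_mul, minpoly.aeval, zero_mul, add_zero]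
      rw [h7, aeval_mulVec A v _ (N := m)]
      · rw [Finset.sum_range]
        funext i
        simp [Q, Matrix.mulVec, dotProduct, Finset.sum_apply, mul_comm]
      · rcases eq_or_ne (p %ₘ f) 0 with h0 | h0
        · rw [h0, natDegree_zero]
          exact Nat.pos_of_ne_zero fun hm0 => by omega
        · exact hm ▸ natDegree_lt_natDegree h0 (degree_modByMonic_lt p hfm)
    obtain ⟨y, hy⟩ := hrange (q' + C t * r)
    have h8 : P *ᵥ (Fin.append 0 z - Fin.append y 0) = 0 := by
      rw [mulVec_sub, ← hu, hPtop, h6, hy, sub_self]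
    have h9 := hPinj _ h8
    refine hz0 (funext fun i => ?_)
    simpa using congrFun h9 (Fin.natAdd m i)
  · refine mext fun z => ?_
    rw [zero_mulVec]
    have h3 := congrArg (· *ᵥ (P *ᵥ Fin.append 0 z)) (minpoly.aeval F A)
    simp only [zero_mulVec] at h3
    rw [← hfdef] at h3
    obtain ⟨w, hw⟩ := glue_aeval (comp m f) C0 A2 f z
    rw [mulVec_mulVec, aeval_conj A P M hAP, ← mulVec_mulVec, hMg, hw] at h3
    have h4 := hPinj _ h3
    funext i
    simpa using congrFun h4 (Fin.natAdd m i)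

theorem cmp2_eq {f : F[X]} (hm : f.Monic) (hd : f.natDegree = 2) :
    comp 2 f = cmp2 (-f.coeff 1) (f.coeff 0) := by
  ext i j
  fin_cases i <;> fin_cases j <;> simp [comp, cmp2]

theorem glue_rightSafe {m k : ℕ} {A1 Xa : Matrix (Fin m) (Fin m) F} {C0 C : Matrix (Fin m) (Fin k) F}
    {A2 X' : Matrix (Fin k) (Fin k) F} {μ : F} {w1 : Fin m → F} (hK : KerLine (glue Xa C X')) (hw : w1 ≠ 0)
    (hXw : Xa *ᵥ w1 = μ • w1) (hR : RightSafe A1 Xa μ) :
    RightSafe (glue A1 C0 A2) (glue Xa C X') μ ∧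
      ∃ w : Fin (m + k) → F, w ≠ 0 ∧ glue Xa C X' *ᵥ w = μ • w := by
  have e : glue Xa C X' *ᵥ Fin.append w1 0 = μ • Fin.append w1 0 := by
    rw [glue_mulVec, mulVec_zero, add_zero, hXw, mulVec_zero]
    funext i
    refine Fin.addCases (fun i => ?_) (fun i => ?_) i <;> simp
  have hne : Fin.append w1 (0 : Fin k → F) ≠ 0 := fun h => hw (funext fun i => by
    simpa using congrFun h (Fin.castAdd k i))
  refine ⟨fun w c hw0 hw' hc => ?_, _, hne, e⟩
  obtain ⟨a, rfl⟩ := hK μ _ w hne e hw'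
  have ha : a ≠ 0 := fun h => hw0 (by rw [h, zero_smul])
  rw [mulVec_smul, smul_comm c a] at hc
  have h2 := smul_right_injective _ ha hc
  rw [glue_mulVec, mulVec_zero, add_zero, mulVec_zero] at h2
  exact hR w1 c hw hXw (funext fun i => by simpa using congrFun h2 (Fin.castAdd k i))

theorem noEig_one {M : Matrix (Fin 1) (Fin 1) F} (h : NoEig M) : False := by
  have := congrFun (h (M 0 0) (fun _ => 1) (funext fun i => by
    fin_cases i; simp [Matrix.mulVec, dotProduct])) 0
  simp at this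

/-- The conclusion of the recursion. -/
def Pair (A : Matrix (Fin n) (Fin n) F) (s : F → Prop) (x0 : Option F) : Prop :=
  ∃ (P : GL (Fin n) F) (A' : Matrix (Fin n) (Fin n) F), A * P.1 = P.1 * A' ∧ ∀ c, s c →
    ∃ (T : GL (Fin n) F) (X : Matrix (Fin n) (Fin n) F), (x0 = none → (GeneralLinearGroup.det T : F) = c) ∧
      X = T.1 * A' * (T⁻¹).1 * A' ∧ (∀ i j, j < i → X i j = 0) ∧ KerLine X ∧
      ∀ x, x0 = some x → RightSafe A' X x ∧ ∃ w, w ≠ 0 ∧ X *ᵥ w = x • w

theorem flag_quad (h4 : Four F) : ∀ (n : ℕ) (A : Matrix (Fin n) (Fin n) F), 2 ≤ n → A.det ≠ 0 → KerLine A →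
    ∀ t d x0 : F, A * A = t • A - d • 1 → OK2 t d x0 → Pair A (fun _ => True) (some x0) := by
  intro n
  induction n using Nat.strong_induction_on with
  | _ n ih =>
    intro A hn hA hK t d x0 hq hx
    obtain ⟨m, k, h, f, C0, A2, P, hfm, hfd, hf0, hP, hAP, hA2, hNE, hfA, hfA2, hmin⟩ := exists_split A hA hK
    subst h
    simp only [finCongr_refl, Matrix.reindex_refl_refl, Equiv.coe_refl] at hAP
    -- the minimal polynomial
    set g : F[X] := X ^ 2 - C t * X + C d with hg
    have hgA : aeval A g = 0 := by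
      rw [hg, map_add, map_sub, map_mul, aeval_C, aeval_C, map_pow, aeval_X, sq, hq,
        Algebra.algebraMap_eq_smul_one, Algebra.algebraMap_eq_smul_one, smul_mul_assoc, one_mul]
      abel
    have hgd : g.natDegree = 2 ∧ g.Monic ∧ g.coeff 1 = -t ∧ g.coeff 0 = d := by
      refine ⟨?_, ?_, ?_, ?_⟩
      · rw [hg]; compute_degree!
      · rw [hg]; monicity!
      · simp [hg, coeff_X, coeff_C]
      · simp [hg]
    have hm1 : m ≠ 1 := by
      rintro rfl
      have hAc : A = (-f.coeff 0) • 1 := by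
        rw [hfm.eq_X_add_C hfd, map_add, aeval_X, aeval_C, Algebra.algebraMap_eq_smul_one] at hfA
        rw [neg_smul, eq_neg_iff_add_eq_zero, hfA]
      obtain ⟨c, hc⟩ := hK (-f.coeff 0) (Pi.single ⟨0, by omega⟩ 1) (Pi.single ⟨1, by omega⟩ 1) (by simp)
        (by rw [hAc, smul_mulVec, one_mulVec]) (by rw [hAc, smul_mulVec, one_mulVec])
      simpa [Pi.single_apply, Fin.ext_iff] using congrFun hc ⟨1, by omega⟩
    have hmne : m ≠ 0 := by
      rintro rfl
      rw [hfm.natDegree_eq_zero.1 hfd, map_one] at hfA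
      have := congrFun (congrFun hfA ⟨0, by omega⟩) ⟨0, by omega⟩
      simp at this
    obtain rfl : m = 2 := by
      have := natDegree_le_of_dvd (hmin g hgA) hgd.2.1.ne_zero
      omega
    have hfg : g = f := Polynomial.eq_of_monic_of_dvd_of_natDegree_le hfm hgd.2.1 (hmin g hgA) (by omega)
    have hC : comp 2 f = cmp2 t d := by
      rw [cmp2_eq hfm hfd, ← hfg, hgd.2.2.1, hgd.2.2.2, neg_neg]
    have hd : d ≠ 0 := by rw [← hgd.2.2.2, hfg]; exact hf0
    obtain ⟨Ta, Xa, hXa, hza, ⟨hXa0, hXa1⟩, hKa, hRa, hLa⟩ := block_two hd hx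
    rw [← hC] at hXa hRa hLa
    obtain ⟨PG, hPG⟩ := exists_GL hP
    have hw0 : Xa *ᵥ Pi.single 0 1 = x0 • Pi.single 0 1 := by
      rw [mulVec_single_one]
      funext i
      fin_cases i
      · simp [hXa0]
      · simp [hza 1 0 (by decide)]
    have hne : (Pi.single 0 1 : Fin 2 → F) ≠ 0 := by simp
    rcases Nat.lt_or_ge k 2 with hk | hk
    · have hk0 : k = 0 := by
        by_contra hk0
        obtain rfl : k = 1 := by omega
        exact noEig_one hNE
      subst hk0
      have hg' : ∀ (M : Matrix (Fin 2) (Fin 2) F) (C : Matrix (Fin 2) (Fin 0) F) (N : Matrix (Fin 0) (Fin 0) F),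
          glue M C N = M := fun M C N => by
        ext i j
        exact glue_castAdd M C N i j
      rw [hg'] at hAP
      exact ⟨PG, comp 2 f, by rw [hPG]; exact hAP, fun _ _ => ⟨Ta, Xa, fun e => by simp at e, hXa, hza, hKa,
        fun x hx' => by
          cases hx'
          exact ⟨hRa, _, hne, hw0⟩⟩⟩
    · have hq2 : A2 * A2 = t • A2 - d • 1 := by
        rw [← hfg, hg, map_add, map_sub, map_mul, aeval_C, aeval_C, map_pow, aeval_X, sq,
          Algebra.algebraMap_eq_smul_one, Algebra.algebraMap_eq_smul_one, smul_mul_assoc, one_mul] at hfA2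
        rw [← sub_eq_zero, ← hfA2]; abel
      obtain ⟨P2, A', hAP2, hall⟩ := ih k (by omega) A2 hk hA2 hNE.kerLine t d x0 hq2 hx
      obtain ⟨T', X', -, hX', hz', hK', hR'⟩ := hall x0 trivial
      obtain ⟨hR', -⟩ := hR' x0 rfl
      obtain ⟨T, C, -, hTX, hzT, hKT⟩ := glue_pair h4 (C0 * P2.1) hXa hX' (by
          rw [hC, cmp2, det_fin_two]; simp [hd]) hza hz' hKa hK' ![x0, d * d / x0, x0]
        (fun i => by fin_cases i <;> [exact ⟨0, hXa0⟩; exact ⟨1, hXa1⟩])
        (fun s => by
          fin_cases s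
          · exact Or.inr hR'
          · by_cases h' : d * d / x0 = x0
            · simpa [h'] using Or.inr hR'
            · exact Or.inl (hLa _ (Or.inl h'))
          · exact Or.inr hR')
      refine ⟨PG * diagGL 1 P2, glue (comp 2 f) (C0 * P2.1) A', ?_, fun c _ => ⟨T, glue Xa C X',
        fun e => by simp at e, hTX.symm, hzT, hKT, fun x hx' => by
          cases hx'
          exact glue_rightSafe hKT hne hw0 hRa⟩⟩
      rw [Units.val_mul, hPG, ← mul_assoc, hAP, mul_assoc, mul_assoc]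
      congr 1
      simp only [diagGL, glue_mul, Units.val_one, mul_one, one_mul, Matrix.mul_zero, Matrix.zero_mul, add_zero,
        zero_add, Matrix.one_mul, Matrix.mul_one, hAP2]

theorem flag_big (h4 : Four F) : ∀ (n : ℕ) (A : Matrix (Fin n) (Fin n) F), A.det ≠ 0 → KerLine A →
    (∀ t d : F, A * A ≠ t • A - d • 1) → Pair A (fun c => c ≠ 0) none := by
  intro n
  induction n using Nat.strong_induction_on with
  | _ n ih =>
    intro A hA hK hnq
    obtain ⟨m, k, h, f, C0, A2, P, hfm, hfd, hf0, hP, hAP, hA2, hNE, hfA, hfA2, hmin⟩ := exists_split A hA hK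
    subst h
    simp only [finCongr_refl, Matrix.reindex_refl_refl, Equiv.coe_refl] at hAP
    obtain ⟨j, rfl⟩ : ∃ j, m = j + 3 := by
      refine ⟨m - 3, ?_⟩
      by_contra hm
      have hm3 : m < 3 := by omega
      interval_cases m
      · rw [hfm.natDegree_eq_zero.1 hfd, map_one] at hfA
        exact hnq 0 0 (by rw [← mul_one (A * A), hfA, mul_zero]; simp)
      · refine hnq (-f.coeff 0) 0 ?_
        rw [hfm.eq_X_add_C hfd, map_add, aeval_X, aeval_C, Algebra.algebraMap_eq_smul_one] at hfA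
        rw [eq_neg_of_add_eq_zero_left hfA]
        simp [smul_smul]
      · refine hnq (-f.coeff 1) (f.coeff 0) ?_
        rw [aeval_eq_sum_range' (n := 3) (by omega), Finset.sum_range_succ, Finset.sum_range_succ,
          Finset.sum_range_one, show f.coeff 2 = 1 from hfd ▸ hfm.coeff_natDegree] at hfA
        simp only [pow_zero, pow_one, sq, one_smul] at hfA
        rw [eq_sub_iff_add_eq, ← sub_eq_zero, ← hfA, neg_smul]
        abel
    obtain ⟨PG, hPG⟩ := exists_GL hP
    have hdC : (comp (j + 3) f).det ≠ 0 := by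
      rw [Matrix.det_eq_sign_charpoly_coeff, comp_charpoly hfm hfd]
      exact mul_ne_zero (pow_ne_zero _ (by simp)) hf0
    rcases Nat.eq_zero_or_pos k with hk0 | hk
    · subst hk0
      have hg' : ∀ (M : Matrix (Fin (j + 3)) (Fin (j + 3)) F) (C : Matrix (Fin (j + 3)) (Fin 0) F)
          (N : Matrix (Fin 0) (Fin 0) F), glue M C N = M := fun M C N => by
        ext i i'
        exact glue_castAdd M C N i i'
      rw [hg'] at hAP
      obtain ⟨D, hD, -, hblk⟩ := block_big h4 j hf0 (x0 := 1) one_ne_zero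
      refine ⟨PG, comp (j + 3) f, by rw [hPG]; exact hAP, fun c hc => ?_⟩
      obtain ⟨T, X, hdT, hX, hz, -, -, hKX, -⟩ := hblk (D / c) (div_ne_zero hD hc)
      exact ⟨T, X, fun _ => mul_right_cancel₀ (div_ne_zero hD hc) (hdT.trans (by field_simp)), hX, hz, hKX,
        fun x e => by simp at e⟩
    have hk2 : 2 ≤ k := by
      by_contra hk2
      obtain rfl : k = 1 := by omega
      exact noEig_one hNE
    by_cases hq : ∃ t d : F, A2 * A2 = t • A2 - d • 1
    · obtain ⟨t, d, hq⟩ := hq
      obtain ⟨x0, hx0, hxd, hxd'⟩ := h4 0 d (-d)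
      have hOK : OK2 t d x0 := ⟨hx0, Or.inl fun e => by
        rcases mul_self_eq_mul_self_iff.1 e with h | h
        exacts [hxd h, hxd' h]⟩
      obtain ⟨P2, A', hAP2, hall⟩ := flag_quad h4 k A2 hk2 hA2 hNE.kerLine t d x0 hq hOK
      obtain ⟨T', X', -, hX', hz', hK', hR'⟩ := hall x0 trivial
      obtain ⟨hR', -⟩ := hR' x0 rfl
      obtain ⟨D, hD, -, hblk⟩ := block_big h4 j hf0 hx0
      refine ⟨PG * diagGL 1 P2, glue (comp (j + 3) f) (C0 * P2.1) A', ?_, fun c hc => ?_⟩
      · rw [Units.val_mul, hPG, ← mul_assoc, hAP, mul_assoc, mul_assoc]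
        congr 1
        simp only [diagGL, glue_mul, Units.val_one, mul_one, one_mul, Matrix.mul_zero, Matrix.zero_mul, add_zero,
          zero_add, Matrix.one_mul, Matrix.mul_one, hAP2]
      set x : F := D * (GeneralLinearGroup.det T' : F) / c with hxdef
      have hxne : x ≠ 0 := div_ne_zero (mul_ne_zero hD (Units.ne_zero _)) hc
      obtain ⟨Ta, Xa, hdT, hXa, hza, hd0, hd1, hKa, hLa, -⟩ := hblk x hxne
      obtain ⟨T, C, hdet, hTX, hzT, hKT⟩ := glue_pair h4 (C0 * P2.1) hXa hX' hdC hza hz' hKa hK'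
        ![x0, x, Xa ⟨j + 2, by omega⟩ ⟨j + 2, by omega⟩]
        (fun i => by
          rcases (show i.val < j + 1 ∨ i.val = j + 1 ∨ i.val = j + 2 by have := i.isLt; omega) with h | h | h
          · exact ⟨0, hd0 i h⟩
          · exact ⟨1, by rw [show i = ⟨j + 1, by omega⟩ from Fin.ext h]; exact hd1⟩
          · exact ⟨2, by rw [show i = ⟨j + 2, by omega⟩ from Fin.ext h]; rfl⟩)
        (fun s => by
          by_cases h : ![x0, x, Xa ⟨j + 2, by omega⟩ ⟨j + 2, by omega⟩] s = x0
          · rw [h]; exact Or.inr hR'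
          · exact Or.inl (hLa _ (Or.inr h)))
      refine ⟨T, glue Xa C X', fun _ => ?_, hTX.symm, hzT, hKT, fun x e => by simp at e⟩
      rw [hdet, Units.val_mul]
      rw [hxdef, mul_div_assoc', div_eq_iff hc] at hdT
      apply mul_right_cancel₀ hD
      linear_combination hdT
    · push Not at hq
      obtain ⟨P2, A', hAP2, hall⟩ := ih k (by omega) A2 hA2 hNE.kerLine hq
      obtain ⟨D, hD, -, hblk⟩ := block_big h4 j hf0 (x0 := 1) one_ne_zero
      obtain ⟨Ta, Xa, hdT, hXa, hza, hd0, hd1, hKa, hLa, -⟩ := hblk 1 one_ne_zero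
      refine ⟨PG * diagGL 1 P2, glue (comp (j + 3) f) (C0 * P2.1) A', ?_, fun c hc => ?_⟩
      · rw [Units.val_mul, hPG, ← mul_assoc, hAP, mul_assoc, mul_assoc]
        congr 1
        simp only [diagGL, glue_mul, Units.val_one, mul_one, one_mul, Matrix.mul_zero, Matrix.zero_mul, add_zero,
          zero_add, Matrix.one_mul, Matrix.mul_one, hAP2]
      obtain ⟨T', X', hdT', hX', hz', hK', -⟩ := hall (c / D) (div_ne_zero hc hD)
      obtain ⟨T, C, hdet, hTX, hzT, hKT⟩ := glue_pair h4 (C0 * P2.1) hXa hX' hdC hza hz' hKa hK'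
        ![1, 1, Xa ⟨j + 2, by omega⟩ ⟨j + 2, by omega⟩]
        (fun i => by
          rcases (show i.val < j + 1 ∨ i.val = j + 1 ∨ i.val = j + 2 by have := i.isLt; omega) with h | h | h
          · exact ⟨0, hd0 i h⟩
          · exact ⟨1, by rw [show i = ⟨j + 1, by omega⟩ from Fin.ext h]; exact hd1⟩
          · exact ⟨2, by rw [show i = ⟨j + 2, by omega⟩ from Fin.ext h]; rfl⟩)
        (fun s => Or.inl (hLa _ (em _)))
      refine ⟨T, glue Xa C X', fun _ => ?_, hTX.symm, hzT, hKT, fun x e => by simp at e⟩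
      rw [hdet, Units.val_mul, hdT' rfl]
      rw [mul_one] at hdT
      rw [hdT, mul_div_cancel₀ _ hD]

/-- A matrix with lines as eigenspaces: two of its conjugates make a split cyclic one. -/
theorem flag_pair [Fintype F] (h4 : 4 ≤ Fintype.card F) (hn : 2 ≤ n) (A : GL (Fin n) F) (hK : KerLine A.1)
    (K : Subgroup Fˣ) (hKq : K = ⊤ ∨ ∀ t d : F, A.1 * A.1 ≠ t • A.1 - d • 1) :
    ∃ (X : GL (Fin n) F) (l : Fin n → F), One K A 2 X ∧ (∃ w, Cyc X.1 w) ∧ Contig l ∧
      X.1.charpoly = ∏ i, (Polynomial.X - C (l i)) := by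
  have h4F : Four F := fun a b c => by
    classical
    by_contra h
    push Not at h
    have hsub : (Finset.univ : Finset F) ⊆ {a, b, c} := fun t _ => by
      simp only [Finset.mem_insert, Finset.mem_singleton]
      by_cases h1 : t = a
      · exact Or.inl h1
      by_cases h2 : t = b
      · exact Or.inr (Or.inl h2)
      · exact Or.inr (Or.inr (h t h1 h2))
    have h1 := Finset.card_le_card hsub
    have h2 : ({a, b, c} : Finset F).card ≤ 3 := Finset.card_le_three
    rw [Finset.card_univ] at h1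
    omega
  have hA := GeneralLinearGroup.det_ne_zero A
  obtain ⟨P, A', T, X, hAP, hT, hX, hz, hKX⟩ : ∃ (P : GL (Fin n) F) (A' : Matrix (Fin n) (Fin n) F)
      (T : GL (Fin n) F) (X : Matrix (Fin n) (Fin n) F), A.1 * P.1 = P.1 * A' ∧
      GeneralLinearGroup.det T ∈ K ∧ X = T.1 * A' * (T⁻¹).1 * A' ∧ (∀ i j, j < i → X i j = 0) ∧ KerLine X := by
    by_cases hq : ∃ t d : F, A.1 * A.1 = t • A.1 - d • 1
    · obtain ⟨t, d, hq⟩ := hq
      have hKt : K = ⊤ := hKq.resolve_right fun h => h t d hq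
      obtain ⟨x0, hx0, hxd, hxd'⟩ := h4F 0 d (-d)
      obtain ⟨P, A', hAP, hall⟩ := flag_quad h4F n A.1 hn hA hK t d x0 hq ⟨hx0, Or.inl fun e => by
        rcases mul_self_eq_mul_self_iff.1 e with h | h
        exacts [hxd h, hxd' h]⟩
      obtain ⟨T, X, -, hX, hz, hKX, -⟩ := hall x0 trivial
      exact ⟨P, A', T, X, hAP, hKt ▸ Subgroup.mem_top _, hX, hz, hKX⟩
    · push Not at hq
      obtain ⟨P, A', hAP, hall⟩ := flag_big h4F n A.1 hA hK hq
      obtain ⟨T, X, hdT, hX, hz, hKX, -⟩ := hall 1 one_ne_zero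
      have : GeneralLinearGroup.det T = 1 := Units.ext (hdT rfl)
      exact ⟨P, A', T, X, hAP, this ▸ K.one_mem, hX, hz, hKX⟩
  set B : GL (Fin n) F := P⁻¹ * A * P with hB
  have hBv : B.1 = A' := by
    rw [hB, Units.val_mul, Units.val_mul, mul_assoc, hAP, ← mul_assoc, Units.inv_mul, one_mul]
  set Z : GL (Fin n) F := T * B * T⁻¹ * B with hZ
  have hZv : Z.1 = X := by rw [hZ, hX, Units.val_mul, Units.val_mul, Units.val_mul, hBv]
  have hone : One K B 2 Z := One.mul (one_one_iff.2 ⟨T, hT, rfl⟩) (one_one_iff.2 (Fac.self K B))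
  have hone' := hone.transport P
  rw [show P * B * P⁻¹ = A by rw [hB]; group] at hone'
  obtain ⟨l, hl, hlp⟩ := exists_contig fun i => X i i
  obtain ⟨w, hw⟩ := exists_cyc_of_ker n X hz hKX
  refine ⟨P * Z * P⁻¹, l, hone', ?_, hl, ?_⟩
  · refine ⟨P.1 *ᵥ w, ?_⟩
    have e : kry (P * Z * P⁻¹).1 (P.1 *ᵥ w) = P.1 * kry X w := by
      refine Matrix.ext_of_mulVec_single fun i => ?_
      have hc : ∀ a : ℕ, (P * Z * P⁻¹).1 ^ a * P.1 = P.1 * X ^ a := by
        intro a
        rw [← Units.val_pow_eq_pow_val, ← hZv, ← Units.val_pow_eq_pow_val, ← Units.val_mul, ← Units.val_mul]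
        congr 1
        rw [conj_pow]
        group
      rw [kry_single, ← mulVec_mulVec, kry_single, mulVec_mulVec, mulVec_mulVec, hc]
    rw [Cyc, e, det_mul]
    exact mul_ne_zero (GeneralLinearGroup.det_ne_zero P) hw
  · rw [Units.val_mul, Units.val_mul, hZv, Matrix.charpoly_mul_comm, ← mul_assoc, Units.inv_mul, one_mul,
      charpoly_upper (l := fun i => X i i) hz (fun _ => rfl), hlp]

end Cfsg.Agent.Lib.LevCover
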