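import Cfsg.Agent.Lib.LevCover.Quad1

/-!
The scalar target in degree four.
-/

set_option autoImplicit false

namespace Cfsg.Agent.Lib.LevCover

open Matrix Polynomial
open Cfsg.Agent.Lib.Sourour (blk det_blk_upper R1 four_of_fintype)

variable {F : Type*} [Field F]

theorem weak_four_cyc [Fintype F] (h4 : 4 ≤ Fintype.card F) {A : GL (Fin 4) F} (hc : ∃ w, Cyc A.1 w)
    (hdA : GeneralLinearGroup.det A = 1) : One ⊤ A 4 1 := by
  have h4F := four_of_fintype h4
  have hD : (GeneralLinearGroup.det A : F) = 1 := by rw [hdA, Units.val_one]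
  obtain ⟨P, T, B, X, hA, -, hX, hXc, -, hXp, hR⟩ := four_block h4F A hc (x0 := 1) (x := 1) one_ne_zero one_ne_zero
  refine (four_join h4 (by rw [hdA, map_one, one_pow])
    (Or.inr (by rw [hD, one_smul, Units.val_one])) (contig_three (1 : F) 1) (fun i => by fin_cases i <;> simp) hA hX
    hXc ?_ hR hA hX hXc ?_ hR).1 <;>
    rw [hXp] <;> refine Finset.prod_congr rfl fun i _ => congrArg (fun e => Polynomial.X - C e) ?_ <;>
    fin_cases i <;> simp [hD]

/-- Exchanging the two blocks. -/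
theorem exists_swap : ∃ W : GL (Fin 4) F, GeneralLinearGroup.det W = 1 ∧ ∀ X Y : Matrix (Fin 2) (Fin 2) F,
    W.1 * glue X 0 Y = glue Y 0 X * W.1 := by
  obtain ⟨W, hW⟩ := exists_GL (S := (!![0, 0, 1, 0; 0, 0, 0, 1; 1, 0, 0, 0; 0, 1, 0, 0] :
    Matrix (Fin 4) (Fin 4) F)) (by simp [Matrix.det_succ_row_zero, Fin.sum_univ_succ, Fin.succAbove])
  refine ⟨W, Units.ext ?_, fun X Y => ?_⟩
  · rw [det_val, hW, Units.val_one]
    simp [Matrix.det_succ_row_zero, Fin.sum_univ_succ, Fin.succAbove]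
  · rw [hW]
    ext i j
    fin_cases i <;> fin_cases j <;>
      simp [Matrix.mul_apply, Fin.sum_univ_four, glue, finSumFinEquiv, Fin.addCases]

theorem glue_zero_mul (A B A' B' : Matrix (Fin 2) (Fin 2) F) :
    glue A 0 B * glue A' 0 B' = glue (A * A') 0 (B * B') := by
  rw [glue_mul, Matrix.mul_zero, Matrix.zero_mul, add_zero]

theorem sim_adj (C : GL (Fin 2) F) : ∃ S : GL (Fin 2) F, (S * C * S⁻¹).1 = C.1.adjugate := by
  by_cases hC : ∃ c : F, C.1 = c • 1
  · obtain ⟨c, hc⟩ := hC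
    refine ⟨1, ?_⟩
    rw [one_mul, inv_one, mul_one, hc, Matrix.adjugate_fin_two]
    ext i j
    fin_cases i <;> fin_cases j <;> simp
  · push Not at hC
    obtain ⟨D, hD⟩ := exists_GL (S := C.1.adjugate) (by
      rw [Matrix.det_adjugate]; exact pow_ne_zero _ (GeneralLinearGroup.det_ne_zero C))
    have hD' : ∀ c : F, D.1 ≠ c • 1 := fun c e => by
      refine hC c ?_
      have h1 := congrArg Matrix.adjugate (hD.symm.trans e)
      rw [Matrix.adjugate_adjugate C.1 (by simp), Fintype.card_fin, pow_zero, one_smul] at h1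
      rw [h1, Matrix.adjugate_fin_two]
      ext i j
      fin_cases i <;> fin_cases j <;> simp
    obtain ⟨S, hS⟩ := similar_two hC hD' (by rw [hD, Matrix.adjugate_fin_two, trace_fin_two, trace_fin_two]; simp; ring)
      (by rw [hD, Matrix.det_adjugate, Fintype.card_fin, pow_one])
    exact ⟨S, by rw [← hS, hD]⟩

/-- Two blocks of two. -/
theorem trick22 {A P : GL (Fin 4) F} {D C : GL (Fin 2) F} (hA : A.1 * P.1 = P.1 * glue D.1 0 C.1)
    (hdA : GeneralLinearGroup.det A = 1) : One ⊤ A 4 1 := by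
  have hdd : D.1.det * C.1.det = 1 := by
    have h1 := congrArg Matrix.det hA
    rw [det_mul, det_mul, glue_det, ← det_val A, hdA, Units.val_one, one_mul] at h1
    exact mul_left_cancel₀ (GeneralLinearGroup.det_ne_zero P) ((h1.symm).trans (mul_one _).symm)
  obtain ⟨SC, hSC⟩ := sim_adj C
  obtain ⟨SD, hSD⟩ := sim_adj D
  set C' := SC * C * SC⁻¹ with hC'
  set D' := C⁻¹ * (SD * D * SD⁻¹) * C with hD'
  obtain ⟨W, -, hW⟩ := exists_swap (F := F)
  -- every arrangement is a conjugate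
  have fac : ∀ S1 S2 : GL (Fin 2) F, ∀ B : GL (Fin 4) F,
      (B.1 = glue (S1 * D * S1⁻¹).1 0 (S2 * C * S2⁻¹).1 ∨ B.1 = glue (S2 * C * S2⁻¹).1 0 (S1 * D * S1⁻¹).1) →
      Fac ⊤ A B := by
    intro S1 S2 B hB
    obtain ⟨G, hG⟩ := exists_GL (S := glue S1.1 0 S2.1) (by
      rw [glue_det]; exact mul_ne_zero (GeneralLinearGroup.det_ne_zero S1) (GeneralLinearGroup.det_ne_zero S2))
    have h1 : (G * (P⁻¹ * A * P) * G⁻¹).1 = glue (S1 * D * S1⁻¹).1 0 (S2 * C * S2⁻¹).1 := by
      have hPA : (P⁻¹ * A * P).1 = glue D.1 0 C.1 := by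
        rw [Units.val_mul, Units.val_mul, mul_assoc, hA, ← mul_assoc, Units.inv_mul, one_mul]
      have h2 : glue (S1 * D * S1⁻¹).1 0 (S2 * C * S2⁻¹).1 * G.1 = G.1 * glue D.1 0 C.1 := by
        rw [hG, glue_zero_mul, glue_zero_mul, ← Units.val_mul, ← Units.val_mul, ← Units.val_mul, ← Units.val_mul]
        simp only [inv_mul_cancel_right]
      rw [Units.val_mul, Units.val_mul, hPA, ← h2, mul_assoc, Units.mul_inv, mul_one]
    rcases hB with hB | hB
    · refine ⟨G * P⁻¹, Subgroup.mem_top _, Units.ext ?_⟩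
      rw [hB, ← h1]; congr 1; group
    · refine ⟨W * G * P⁻¹, Subgroup.mem_top _, ?_⟩
      rw [show W * G * P⁻¹ * A * (W * G * P⁻¹)⁻¹ = W * (G * (P⁻¹ * A * P) * G⁻¹) * W⁻¹ by group]
      refine eq_conj_of_mul ?_
      rw [h1, hW, hB]
  obtain ⟨B1, hB1⟩ := exists_GL (S := glue D.1 0 C.1) (by
    rw [glue_det]; exact mul_ne_zero (GeneralLinearGroup.det_ne_zero D) (GeneralLinearGroup.det_ne_zero C))
  obtain ⟨B2, hB2⟩ := exists_GL (S := glue C.1 0 D'.1) (by
    rw [glue_det]; exact mul_ne_zero (GeneralLinearGroup.det_ne_zero C) (GeneralLinearGroup.det_ne_zero D'))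
  obtain ⟨B3, hB3⟩ := exists_GL (S := glue D'.1 0 C'.1) (by
    rw [glue_det]; exact mul_ne_zero (GeneralLinearGroup.det_ne_zero D') (GeneralLinearGroup.det_ne_zero C'))
  obtain ⟨B4, hB4⟩ := exists_GL (S := glue C'.1 0 D.1) (by
    rw [glue_det]; exact mul_ne_zero (GeneralLinearGroup.det_ne_zero C') (GeneralLinearGroup.det_ne_zero D))
  have hDc : D' = (C⁻¹ * SD) * D * (C⁻¹ * SD)⁻¹ := by rw [hD']; group
  have f1 : Fac ⊤ A B1 := fac 1 1 B1 (Or.inl (by simpa using hB1))
  have f2 : Fac ⊤ A B2 := fac (C⁻¹ * SD) 1 B2 (Or.inr (by rw [← hDc]; simpa using hB2))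
  have f3 : Fac ⊤ A B3 := fac (C⁻¹ * SD) SC B3 (Or.inl (by rw [← hDc, ← hC']; exact hB3))
  have f4 : Fac ⊤ A B4 := fac 1 SC B4 (Or.inr (by rw [← hC']; simpa using hB4))
  have h := One.of_list (K := (⊤ : Subgroup Fˣ)) [B1, B2, B3, B4] (fun C hC => by
    simp only [List.mem_cons, List.not_mem_nil, or_false] at hC
    rcases hC with rfl | rfl | rfl | rfl
    exacts [f1, f2, f3, f4])
  simp only [List.prod_cons, List.prod_nil, mul_one, List.length_cons, List.length_nil, zero_add] at h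
  rwa [show B1 * (B2 * (B3 * B4)) = 1 from Units.ext (by
    rw [Units.val_mul, Units.val_mul, Units.val_mul, hB1, hB2, hB3, hB4, glue_zero_mul, glue_zero_mul, glue_zero_mul,
      Units.val_one]
    have e1 : D'.1 = (C⁻¹).1 * D.1.adjugate * C.1 := by rw [hD', Units.val_mul, Units.val_mul, hSD]
    rw [e1, hSC]
    have hCC : ∀ X : Matrix (Fin 2) (Fin 2) F, C.1 * ((C⁻¹).1 * X) = X := fun X => by
      rw [← mul_assoc, Units.mul_inv, one_mul]
    have hCi : ∀ X : Matrix (Fin 2) (Fin 2) F, (C⁻¹).1 * (C.1 * X) = X := fun X => by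
      rw [← mul_assoc, Units.inv_mul, one_mul]
    have e2 : D.1 * (C.1 * ((C⁻¹).1 * D.1.adjugate * C.1 * C.1.adjugate)) = 1 := by
      simp only [mul_assoc, hCC, Matrix.mul_adjugate, Matrix.mul_smul, mul_one, smul_smul]
      rw [mul_comm, hdd, one_smul]
    have e3 : C.1 * ((C⁻¹).1 * D.1.adjugate * C.1 * (C.1.adjugate * D.1)) = 1 := by
      simp only [mul_assoc, hCC]
      rw [← mul_assoc C.1, Matrix.mul_adjugate, Matrix.smul_mul, one_mul, Matrix.mul_smul, Matrix.adjugate_mul,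
        smul_smul, mul_comm, hdd, one_smul]
    rw [e2, e3, glue_one])] at h

/-- Two unipotent blocks with two values. -/
theorem exact_pairs [Fintype F] {A P : GL (Fin 4) F} {a b : F} (hab : a * b * (a * b) = 1)
    (hA : A.1 * P.1 = P.1 * glue (a • (!![1, 1; 0, 1] : Matrix (Fin 2) (Fin 2) F)) 0 (b • (!![1, 1; 0, 1] : Matrix (Fin 2) (Fin 2) F))) : One ⊥ A 4 1 := by
  obtain ⟨S, hS⟩ := exists_GL (S := (!![-1, 0, 0, 0; 0, 1, 0, 0; 0, 0, -1, 0; 0, 0, 0, 1] :
    Matrix (Fin 4) (Fin 4) F)) (by simp [Matrix.det_succ_row_zero, Fin.sum_univ_succ, Fin.succAbove])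
  obtain ⟨W, hWd, hW⟩ := exists_swap (F := F)
  have hSd : GeneralLinearGroup.det S = 1 := Units.ext (by
    rw [det_val, hS, Units.val_one]; simp [Matrix.det_succ_row_zero, Fin.sum_univ_succ, Fin.succAbove])
  have hPA : (P⁻¹ * A * P).1 = glue (a • (!![1, 1; 0, 1] : Matrix (Fin 2) (Fin 2) F)) 0 (b • (!![1, 1; 0, 1] : Matrix (Fin 2) (Fin 2) F)) := by
    rw [Units.val_mul, Units.val_mul, mul_assoc, hA, ← mul_assoc, Units.inv_mul, one_mul]
  set B := W * S * (P⁻¹ * A * P) * (W * S)⁻¹ with hB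
  have hBv : B.1 = glue (b • (!![1, -1; 0, 1] : Matrix (Fin 2) (Fin 2) F)) 0 (a • (!![1, -1; 0, 1] : Matrix (Fin 2) (Fin 2) F)) := by
    have h2 : glue (b • (!![1, -1; 0, 1] : Matrix (Fin 2) (Fin 2) F)) 0 (a • (!![1, -1; 0, 1] : Matrix (Fin 2) (Fin 2) F)) * (W * S).1 = (W * S).1 * (P⁻¹ * A * P).1 := by
      rw [Units.val_mul, ← mul_assoc, ← hW, mul_assoc, mul_assoc, hPA]
      congr 1
      rw [hS]
      ext i j
      fin_cases i <;> fin_cases j <;> simp [Matrix.mul_apply, Fin.sum_univ_four, glue, finSumFinEquiv, Fin.addCases]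
    rw [hB, Units.val_mul, Units.val_mul (W * S), ← h2, mul_assoc, Units.mul_inv, mul_one]
  have hX : ((P⁻¹ * A * P) * B).1 = (a * b) • 1 := by
    rw [Units.val_mul, hPA, hBv, glue_zero_mul]
    ext i j
    fin_cases i <;> fin_cases j <;>
      simp [Matrix.mul_apply, Fin.sum_univ_two, glue, finSumFinEquiv, Fin.addCases, mul_comm]
  have h := One.of_list (K := (⊥ : Subgroup Fˣ)) [A, P * B * P⁻¹, A, P * B * P⁻¹] (fun C hC => by
    simp only [List.mem_cons, List.not_mem_nil, or_false] at hC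
    have f2 : Fac ⊥ A (P * B * P⁻¹) := by
      refine ⟨P * (W * S) * P⁻¹, Subgroup.mem_bot.2 ?_, by rw [hB]; group⟩
      simp [map_mul, map_inv, hWd, hSd]
    rcases hC with rfl | rfl | rfl | rfl
    exacts [Fac.self _ _, f2, Fac.self _ _, f2])
  simp only [List.prod_cons, List.prod_nil, mul_one, List.length_cons, List.length_nil, zero_add] at h
  rwa [show A * (P * B * P⁻¹ * (A * (P * B * P⁻¹))) = P * ((P⁻¹ * A * P * B) * (P⁻¹ * A * P * B)) * P⁻¹ by group,
    show (P⁻¹ * A * P * B) * (P⁻¹ * A * P * B) = 1 from Units.ext (by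
      rw [Units.val_mul, hX, Matrix.smul_mul, one_mul, smul_smul, hab, one_smul, Units.val_one]),
    mul_one, mul_inv_cancel] at h

theorem Cyc.nonPseudo_four {A : Matrix (Fin 4) (Fin 4) F} {v : Fin 4 → F} (hv : Cyc A v) (c : F) :
    3 ≤ Module.finrank F (LinearMap.range (A - c • 1).mulVecLin) := by
  set f : Fin 3 → Fin 4 → F := ![(A - c • 1) *ᵥ v, (A - c • 1) *ᵥ (A *ᵥ v), (A - c • 1) *ᵥ (A *ᵥ (A *ᵥ v))] with hf
  have hind : LinearIndependent F f := by
    refine Fintype.linearIndependent_iff.2 fun l hl => ?_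
    simp only [hf, Fin.sum_univ_three, Matrix.cons_val] at hl
    set q : F[X] := C (l 0) + C (l 1) * Polynomial.X + C (l 2) * Polynomial.X ^ 2 with hq
    have h1 : aeval A ((Polynomial.X - C c) * q) *ᵥ v = 0 := by
      rw [map_mul, ← mulVec_mulVec, map_sub, aeval_X, aeval_C, Algebra.algebraMap_eq_smul_one, ← hl, hq]
      simp only [map_add, map_mul, map_pow, aeval_C, aeval_X, Algebra.algebraMap_eq_smul_one, add_mulVec,
        Matrix.smul_mul, one_mul, smul_mulVec, one_mulVec, mulVec_add, mulVec_smul, sq, ← mulVec_mulVec]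
    have h2 := hv.eq_zero (p := (Polynomial.X - C c) * q) (by
      refine lt_of_le_of_lt natDegree_mul_le ?_
      have : q.natDegree ≤ 2 := by rw [hq]; compute_degree
      rw [natDegree_X_sub_C]; omega) h1
    have h3 := (mul_eq_zero.1 h2).resolve_left (X_sub_C_ne_zero c)
    have c0 := congrArg (coeff · 0) h3
    have c1 := congrArg (coeff · 1) h3
    have c2 := congrArg (coeff · 2) h3
    simp [hq, coeff_C, coeff_X] at c0 c1 c2
    intro i; fin_cases i <;> assumption
  have hle : Submodule.span F (Set.range f) ≤ LinearMap.range (A - c • 1).mulVecLin := by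
    rw [Submodule.span_le]
    rintro _ ⟨i, rfl⟩
    fin_cases i <;> exact ⟨_, rfl⟩
  have := Submodule.finrank_mono hle
  rwa [finrank_span_eq_card hind, Fintype.card_fin] at this

/-- Degree four. -/
theorem exact_four_one [Fintype F] (h4 : 4 ≤ Fintype.card F) (A : GL (Fin 4) F) (hA : NonPseudo A.1)
    (hq : ∀ t d : F, A.1 * A.1 ≠ t • A.1 - d • 1) (hdA : GeneralLinearGroup.det A = 1) (hNE : ¬NoEig A.1) :
    One ⊥ A 4 1 := by
  classical
  have hdA1 : A.1.det = 1 := by rw [← det_val, hdA, Units.val_one]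
  by_cases hc : ∃ w, Cyc A.1 w
  · obtain ⟨w, hw⟩ := hc
    have hrk := hw.nonPseudo_four
    have rel : ∀ (a b : F), (∃ v, v ≠ 0 ∧ A.1 *ᵥ v = a • v) → (∃ v, v ≠ 0 ∧ A.1 *ᵥ v = b • v) → b * a ^ 3 = 1 →
        One ⊥ A 4 1 := by
      rintro a b ⟨v, hv0, hv⟩ ⟨u, hu0, hu⟩ hab
      obtain ⟨Q, x, A', -, hAQ⟩ := exists_quot hv0 hv
      exact rel_exact h4 (le_refl 3) hA hdA hAQ (quot_good hA hAQ fun c hc => absurd ((hrk c).trans hc) (by norm_num))
        hu0 hu hab
    have full : ∀ p r : F[X], Irreducible p → p.Monic → IsCoprime p r → A.1.charpoly = p * r → r.natDegree < 4 →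
        One ⊥ A 4 1 := by
      intro p r hp hpm hcop hpr hrd
      refine One.of_full (full_of_factor A hp hpm hcop (by rw [← hpr, Matrix.aeval_self_charpoly]) (fun e => ?_) ⊥)
        (weak_four_cyc h4 ⟨w, hw⟩ hdA)
      have h1 := hw.eq_zero hrd (by rw [e, zero_mulVec])
      exact A.1.charpoly_monic.ne_zero (by rw [hpr, h1, mul_zero])
    obtain ⟨a, v, hv0, hv⟩ := exists_eigvec hNE
    obtain ⟨Q, x, A', -, hAQ⟩ := exists_quot hv0 hv
    have hf := charpoly_of_quot hAQ
    set q3 := A'.1.charpoly with hq3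
    have hq3d : q3.natDegree = 3 := by rw [hq3, Matrix.charpoly_natDegree_eq_dim, Fintype.card_fin]
    by_cases hqa : q3.eval a = 0
    swap
    · exact full _ q3 (irreducible_X_sub_C a) (monic_X_sub_C a)
        (((irreducible_X_sub_C a).coprime_iff_not_dvd).2 fun h => hqa (dvd_iff_isRoot.1 h)) hf (by omega)
    obtain ⟨q2, hq2⟩ := dvd_iff_isRoot.2 hqa
    have hq2m : q2.Monic := (monic_X_sub_C a).of_mul_monic_left (hq2 ▸ A'.1.charpoly_monic)
    have hq2d : q2.natDegree = 2 := by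
      rw [hq2, natDegree_mul (X_sub_C_ne_zero a) hq2m.ne_zero, natDegree_X_sub_C] at hq3d; omega
    by_cases hroot : ∃ b, q2.eval b = 0
    swap
    · push Not at hroot
      have hpi : Irreducible q2 := by
        rw [Monic.irreducible_iff_roots_eq_zero_of_degree_le_three hq2m hq2d.ge (by omega)]
        exact Multiset.eq_zero_of_forall_notMem fun b hb => hroot b ((mem_roots hq2m.ne_zero).1 hb)
      refine full q2 ((Polynomial.X - C a) ^ 2) hpi hq2m ((hpi.coprime_iff_not_dvd).2 fun h => ?_)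
        (by rw [hf, hq2]; ring) (by rw [natDegree_pow, natDegree_X_sub_C]; norm_num)
      have h1 := natDegree_le_of_dvd (hpi.prime.dvd_of_dvd_pow h) (X_sub_C_ne_zero a)
      rw [hq2d, natDegree_X_sub_C] at h1
      omega
    obtain ⟨b, hb⟩ := hroot
    obtain ⟨r, hr⟩ := dvd_iff_isRoot.2 hb
    have hrm : r.Monic := (monic_X_sub_C b).of_mul_monic_left (hr ▸ hq2m)
    have hrd : r.natDegree = 1 := by
      rw [hr, natDegree_mul (X_sub_C_ne_zero b) hrm.ne_zero, natDegree_X_sub_C] at hq2d; omega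
    obtain ⟨e, rfl⟩ : ∃ e, r = Polynomial.X - C e :=
      ⟨-r.coeff 0, by rw [map_neg, sub_neg_eq_add]; exact hrm.eq_X_add_C hrd⟩
    have hf' : A.1.charpoly = (Polynomial.X - C a) * ((Polynomial.X - C a) * ((Polynomial.X - C b) *
        (Polynomial.X - C e))) := by rw [hf, hq2, hr]
    have hdet : a * a * b * e = 1 := by
      have h1 := hdA1
      rw [Matrix.det_eq_sign_charpoly_coeff, Fintype.card_fin, coeff_zero_eq_eval_zero, hf'] at h1
      simp at h1
      linear_combination h1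
    have heb : ∃ v, v ≠ 0 ∧ A.1 *ᵥ v = b • v := exists_eig (by rw [hf']; simp)
    have hee : ∃ v, v ≠ 0 ∧ A.1 *ᵥ v = e • v := exists_eig (by rw [hf']; simp)
    by_cases hba : b = a
    · subst hba
      exact rel b e ⟨v, hv0, hv⟩ hee (by linear_combination hdet)
    by_cases hea : e = a
    · subst hea
      exact rel e b ⟨v, hv0, hv⟩ heb (by linear_combination hdet)
    by_cases hbe : b = e
    swap
    · refine full (Polynomial.X - C b) ((Polynomial.X - C a) ^ 2 * (Polynomial.X - C e)) (irreducible_X_sub_C b)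
        (monic_X_sub_C b) (((irreducible_X_sub_C b).coprime_iff_not_dvd).2 fun h => ?_) (by rw [hf']; ring) ?_
      · have h1 := dvd_iff_isRoot.1 h
        simp [sub_ne_zero.2 hba, sub_ne_zero.2 hbe] at h1
      · rw [natDegree_mul (pow_ne_zero _ (X_sub_C_ne_zero a)) (X_sub_C_ne_zero e), natDegree_pow, natDegree_X_sub_C,
          natDegree_X_sub_C]
        norm_num
    subst hbe
    have ha : a ≠ 0 := fun h => by simp [h] at hdet
    have hb0 : b ≠ 0 := fun h => by simp [h] at hdet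
    have hCH : ∀ p : F[X], aeval A.1 (p * A.1.charpoly) *ᵥ w = 0 := fun p => by
      rw [map_mul, Matrix.aeval_self_charpoly, mul_zero, zero_mulVec]
    set Xa : F[X] := Polynomial.X - C a with hXa
    set Xb : F[X] := Polynomial.X - C b with hXb
    set c0 := aeval A.1 (C a⁻¹ * (Xa * Xb ^ 2)) *ᵥ w with hc0
    set c1 := aeval A.1 (Xb ^ 2) *ᵥ w with hc1
    set c2 := aeval A.1 (C b⁻¹ * (Xb * Xa ^ 2)) *ᵥ w with hc2
    set c3 := aeval A.1 (Xa ^ 2) *ᵥ w with hc3
    have hind : LinearIndependent F ![c0, c1, c2, c3] := by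
      refine Fintype.linearIndependent_iff.2 fun l hl => ?_
      simp only [Fin.sum_univ_four, Matrix.cons_val] at hl
      set p : F[X] := (C (l 0 * a⁻¹) * Xa + C (l 1)) * Xb ^ 2 + (C (l 2 * b⁻¹) * Xb + C (l 3)) * Xa ^ 2 with hp
      have hp0 : p = 0 := by
        refine hw.eq_zero ?_ ?_
        · have h1 : p.natDegree ≤ 3 := by rw [hp, hXa, hXb]; compute_degree
          omega
        · rw [← hl, hp, hc0, hc1, hc2, hc3]
          simp only [map_add, map_mul, map_pow, aeval_C, Algebra.algebraMap_eq_smul_one, Matrix.smul_mul, one_mul,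
            add_mulVec, smul_mulVec, add_mul, smul_smul]
          abel
      have hab : a - b ≠ 0 := sub_ne_zero.2 (Ne.symm hba)
      have h1 := congrArg (eval a) hp0
      simp [hp, hXa, hXb, hab] at h1
      have h3 := congrArg (eval b) hp0
      simp [hp, hXa, hXb, sub_ne_zero.2 hba] at h3
      have hq0 : C (l 0 * a⁻¹) * Xb + C (l 2 * b⁻¹) * Xa = 0 := by
        have h5 : Xa * Xb * (C (l 0 * a⁻¹) * Xb + C (l 2 * b⁻¹) * Xa) = 0 := by
          rw [← hp0, hp, h1, h3, map_zero]; ring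
        exact (mul_eq_zero.1 h5).resolve_left (mul_ne_zero (X_sub_C_ne_zero a) (X_sub_C_ne_zero b))
      have h5 := congrArg (eval a) hq0
      simp [hXa, hXb, hab, ha] at h5
      have h6 := congrArg (eval b) hq0
      simp [hXa, hXb, sub_ne_zero.2 hba, hb0] at h6
      intro i; fin_cases i <;> assumption
    obtain ⟨P, hP⟩ := extend_cols (le_refl 4) ![c0, c1, c2, c3] hind
    have hP' : ∀ i, P.1 *ᵥ Pi.single i 1 = ![c0, c1, c2, c3] i := fun i => hP i
    refine exact_pairs (a := a) (b := b) (P := P) (by linear_combination hdet) ?_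
    refine Matrix.ext_of_mulVec_single fun j => ?_
    rw [← mulVec_mulVec, hP', ← mulVec_mulVec]
    have hcol : ∀ j, (glue (a • (!![1, 1; 0, 1] : Matrix (Fin 2) (Fin 2) F)) 0 (b • (!![1, 1; 0, 1] : Matrix (Fin 2) (Fin 2) F)) : Matrix (Fin 4) (Fin 4) F) *ᵥ Pi.single j 1 =
        ![a • Pi.single 0 1, a • Pi.single 0 1 + a • Pi.single 1 1, b • Pi.single 2 1,
          b • Pi.single 2 1 + b • Pi.single 3 1] j := fun j => by
      funext i
      fin_cases j <;> fin_cases i <;> simp [glue, finSumFinEquiv, Fin.addCases, mulVec_single_one]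
    rw [hcol]
    have hmul : ∀ (p : F[X]), A.1 *ᵥ (aeval A.1 p *ᵥ w) = aeval A.1 (Polynomial.X * p) *ᵥ w := fun p => by
      rw [mulVec_mulVec, map_mul, aeval_X]
    have hsm : ∀ (k : F) (p : F[X]), k • (aeval A.1 p *ᵥ w) = aeval A.1 (C k * p) *ᵥ w := fun k p => by
      rw [map_mul, aeval_C, Algebra.algebraMap_eq_smul_one, Matrix.smul_mul, one_mul, smul_mulVec]
    have hf'' : A.1.charpoly = Xa ^ 2 * Xb ^ 2 := by rw [hf', hXa, hXb]; ring
    have hCa : C a * C a⁻¹ = (1 : F[X]) := by rw [← map_mul, mul_inv_cancel₀ ha, map_one]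
    have hCb : C b * C b⁻¹ = (1 : F[X]) := by rw [← map_mul, mul_inv_cancel₀ hb0, map_one]
    fin_cases j
    · simp only [Fin.zero_eta, Matrix.cons_val_zero, mulVec_smul, hP']
      rw [hc0, hmul, hsm, show Polynomial.X * (C a⁻¹ * (Xa * Xb ^ 2)) = C a⁻¹ * A.1.charpoly +
        C a * (C a⁻¹ * (Xa * Xb ^ 2)) by rw [hf'', hXa]; ring, map_add, add_mulVec, hCH, zero_add]
    · simp only [Fin.mk_one, Matrix.cons_val_one, Matrix.cons_val_zero, mulVec_add, mulVec_smul, hP']
      rw [hc1, hc0, hmul, hsm, hsm, ← add_mulVec, ← map_add]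
      congr 2
      rw [← mul_assoc, hCa, one_mul, hXa]; ring
    · simp only [Fin.reduceFinMk, Matrix.cons_val, mulVec_smul, hP']
      rw [hc2, hmul, hsm, show Polynomial.X * (C b⁻¹ * (Xb * Xa ^ 2)) = C b⁻¹ * A.1.charpoly +
        C b * (C b⁻¹ * (Xb * Xa ^ 2)) by rw [hf'', hXb]; ring, map_add, add_mulVec, hCH, zero_add]
    · simp only [Fin.reduceFinMk, Matrix.cons_val, mulVec_add, mulVec_smul, hP']
      rw [hc3, hc2, hmul, hsm, hsm, ← add_mulVec, ← map_add]
      congr 2
      rw [← mul_assoc, hCb, one_mul, hXb]; ring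
  -- not cyclic: an eigenplane
  have hKL : ¬KerLine A.1 := by
    intro hK
    obtain ⟨m, k, h, f, C0, A2, P, hfm, hfd, -, hP, -, -, hNE2, hfA, -, hmin⟩ :=
      exists_split A.1 (GeneralLinearGroup.det_ne_zero A) hK
    have hk0 : k ≠ 0 := fun e => by
      obtain ⟨v, hv⟩ := exists_max A.1
      refine hc ⟨v, cyc_of_eq_zero fun q hqd h0 => by_contra fun hq0 => ?_⟩
      have := natDegree_le_of_dvd (hmin q (hv q h0)) hq0
      omega
    have hk1 : k ≠ 1 := fun e => by subst e; exact noEig_one hNE2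
    rcases (show m = 0 ∨ m = 1 ∨ m = 2 by omega) with rfl | rfl | rfl
    · rw [hfm.natDegree_eq_zero.1 hfd, map_one] at hfA
      simpa using congrFun (congrFun hfA 0) 0
    · rw [hfm.eq_X_add_C hfd, map_add, aeval_X, aeval_C, Algebra.algebraMap_eq_smul_one] at hfA
      exact hA.not_scalar (-f.coeff 0) (by rw [eq_neg_of_add_eq_zero_left hfA, neg_smul])
    · refine hq (-f.coeff 1) (f.coeff 0) ?_
      rw [aeval_quad A.1 hfd hfm] at hfA
      rw [← sub_eq_zero, ← hfA, neg_smul]; abel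
  obtain ⟨a, k1, k2, hk1, hk2, hind⟩ : ∃ (a : F) (k1 k2 : Fin 4 → F),
      A.1 *ᵥ k1 = a • k1 ∧ A.1 *ᵥ k2 = a • k2 ∧ LinearIndependent F ![k1, k2] := by
    simp only [KerLine] at hKL
    push Not at hKL
    obtain ⟨μ, u, u', hu0, hu, hu', hne⟩ := hKL
    exact ⟨μ, u, u', hu, hu', pair_indep hu0 hne⟩
  obtain ⟨P, hP⟩ := extend_cols (show 2 ≤ 4 by norm_num) ![k1, k2] hind
  set B := (P⁻¹ * A * P).1 with hB
  have hPB : A.1 * P.1 = P.1 * B := by rw [hB, ← Units.val_mul, ← Units.val_mul]; congr 1; group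
  have hBc : ∀ j : Fin 2, B *ᵥ Pi.single (Fin.castAdd 2 j) 1 = a • Pi.single (Fin.castAdd 2 j) 1 := by
    intro j
    have h1 : A.1 *ᵥ (P.1 *ᵥ Pi.single (Fin.castAdd 2 j) 1) = a • (P.1 *ᵥ Pi.single (Fin.castAdd 2 j) 1) := by
      rw [show Fin.castAdd 2 j = Fin.castLE (show 2 ≤ 4 by norm_num) j from rfl, hP j]
      fin_cases j
      exacts [hk1, hk2]
    rw [hB, Units.val_mul, Units.val_mul, ← mulVec_mulVec, ← mulVec_mulVec, h1, mulVec_smul, mulVec_mulVec,
      Units.inv_mul, one_mulVec]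
  set E0 : Matrix (Fin 2) (Fin 2) F := Matrix.of fun i j => B (Fin.castAdd 2 i) (Fin.natAdd 2 j) with hE0
  set C0 : Matrix (Fin 2) (Fin 2) F := Matrix.of fun i j => B (Fin.natAdd 2 i) (Fin.natAdd 2 j) with hC0
  have hBg : B = glue (a • 1) E0 C0 := by
    ext i j
    refine Fin.addCases (m := 2) (n := 2) (fun i => ?_) (fun i => ?_) i <;>
      refine Fin.addCases (m := 2) (n := 2) (fun j => ?_) (fun j => ?_) j
    · have h1 := congrFun (hBc j) (Fin.castAdd 2 i)
      rw [mulVec_single_one, Matrix.col_apply] at h1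
      rw [glue_castAdd, h1]
      simp [Matrix.one_apply, Pi.single_apply, Fin.ext_iff]
    · rw [glue_castAdd_natAdd]; rfl
    · have h1 := congrFun (hBc j) (Fin.natAdd 2 i)
      rw [mulVec_single_one, Matrix.col_apply] at h1
      rw [glue_natAdd_castAdd, h1]
      fin_cases i <;> fin_cases j <;> simp
    · rw [glue_natAdd]; rfl
  obtain ⟨DG, hDG⟩ := exists_GL (S := (a • 1 : Matrix (Fin 2) (Fin 2) F)) (by
    have ha : a ≠ 0 := eig_ne_zero A (fun e => by simpa [e] using hind.ne_zero 0) hk1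
    rw [det_smul, det_one, mul_one]; exact pow_ne_zero _ ha)
  have hdd : a ^ 2 * C0.det = 1 := by
    have h1 := congrArg Matrix.det (hPB.trans (by rw [hBg]))
    rw [det_mul, det_mul, glue_det, det_smul, det_one, mul_one, Fintype.card_fin, hdA1, one_mul] at h1
    exact mul_left_cancel₀ (GeneralLinearGroup.det_ne_zero P) (h1.symm.trans (mul_one _).symm)
  obtain ⟨CG, hCG⟩ := exists_GL (S := C0) (fun e => by rw [e, mul_zero] at hdd; exact zero_ne_one hdd)
  by_cases hca : (C0 - a • 1).det = 0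
  · -- a triple root
    have hfull : A.1.charpoly = (Polynomial.X - C a) ^ 2 * C0.charpoly := by
      have e : A.1 = P.1 * (B * (P⁻¹).1) := by rw [← mul_assoc, ← hPB, mul_assoc, Units.mul_inv, mul_one]
      rw [e, Matrix.charpoly_mul_comm, mul_assoc, Units.inv_mul, mul_one, hBg, glue_charpoly, smul_one_eq_diagonal,
        Matrix.charpoly_diagonal, Fin.prod_univ_two, sq]
    obtain ⟨z, hz0, hz⟩ := Matrix.exists_mulVec_eq_zero_iff.2 hca
    obtain ⟨Q2, y, M, -, hQ2⟩ := exists_quot (A := CG) (a := a) hz0 (by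
      rw [sub_mulVec, smul_mulVec, one_mulVec, sub_eq_zero] at hz
      rw [hCG, hz])
    obtain ⟨b, hMb⟩ : ∃ b, M.1.charpoly = Polynomial.X - C b := by
      refine ⟨-(M.1.charpoly).coeff 0, ?_⟩
      rw [map_neg, sub_neg_eq_add]
      exact M.1.charpoly_monic.eq_X_add_C (by rw [Matrix.charpoly_natDegree_eq_dim, Fintype.card_fin])
    have hf' : A.1.charpoly = (Polynomial.X - C a) ^ 3 * (Polynomial.X - C b) := by
      rw [hfull, ← hCG, charpoly_of_quot hQ2, hMb]; ring
    have hab : b * a ^ 3 = 1 := by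
      have h1 := hdA1
      rw [Matrix.det_eq_sign_charpoly_coeff, Fintype.card_fin, coeff_zero_eq_eval_zero, hf'] at h1
      simp at h1
      linear_combination h1
    obtain ⟨u, hu0, hu⟩ := exists_eig (A := A.1) (a := b) (by rw [hf']; simp)
    set K := LinearMap.ker (A.1 - a • 1).mulVecLin with hK
    set R := LinearMap.range (A.1 - a • 1).mulVecLin with hR
    have hsum := LinearMap.finrank_range_add_finrank_ker (A.1 - a • 1).mulVecLin
    rw [Module.finrank_fin_fun, ← hR, ← hK] at hsum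
    have hR2 : 2 ≤ Module.finrank F R := not_R1.1 (hA a)
    have hmemK : ∀ u, u ∈ K ↔ A.1 *ᵥ u = a • u := fun u => by
      rw [hK, LinearMap.mem_ker, Matrix.mulVecLin_apply, sub_mulVec, smul_mulVec, one_mulVec, sub_eq_zero]
    have hK2 : 2 ≤ Module.finrank F K := by
      have h1 : Submodule.span F (Set.range ![k1, k2]) ≤ K := by
        rw [Submodule.span_le]
        rintro _ ⟨i, rfl⟩
        fin_cases i
        exacts [(hmemK k1).2 hk1, (hmemK k2).2 hk2]
      have h2 := Submodule.finrank_mono h1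
      rwa [finrank_span_eq_card hind, Fintype.card_fin] at h2
    obtain ⟨v, hvK, hvR⟩ : ∃ v ∈ K, v ∉ R := by
      by_contra h
      push Not at h
      have heq : K = R := Submodule.eq_of_le_of_finrank_le h (by omega)
      refine hq (a + a) (a * a) (mext fun u => ?_)
      have h6 : (A.1 - a • 1) *ᵥ u ∈ K := by rw [heq, hR]; exact ⟨u, rfl⟩
      rw [hmemK, sub_mulVec, smul_mulVec, one_mulVec, mulVec_sub, mulVec_smul, smul_sub, smul_smul,
        sub_eq_iff_eq_add] at h6
      rw [← mulVec_mulVec, h6, sub_mulVec, smul_mulVec, smul_mulVec, one_mulVec]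
      module
    have hv0 : v ≠ 0 := fun e => hvR (by rw [e]; exact Submodule.zero_mem _)
    obtain ⟨Q, x, A', hQv, hAQ⟩ := exists_quot hv0 ((hmemK v).1 hvK)
    refine rel_exact h4 (le_refl 3) hA hdA hAQ (quot_good hA hAQ fun c hc => ?_) hu0 hu hab
    rw [hQv]
    suffices hca' : c = a by rw [hca', ← hR]; exact hvR
    by_contra hne
    have hsum' := LinearMap.finrank_range_add_finrank_ker (A.1 - c • 1).mulVecLin
    rw [Module.finrank_fin_fun] at hsum'
    set K' := LinearMap.ker (A.1 - c • 1).mulVecLin with hK'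
    have hmem' : ∀ u, u ∈ K' ↔ A.1 *ᵥ u = c • u := fun u => by
      rw [hK', LinearMap.mem_ker, Matrix.mulVecLin_apply, sub_mulVec, smul_mulVec, one_mulVec, sub_eq_zero]
    have hdis : K ⊓ K' = ⊥ := by
      rw [Submodule.eq_bot_iff]
      intro u hu
      obtain ⟨e1, e2⟩ := Submodule.mem_inf.1 hu
      rw [hmemK] at e1
      rw [hmem'] at e2
      have h3 : (a - c) • u = 0 := by rw [sub_smul, ← e1, ← e2, sub_self]
      exact (smul_eq_zero.1 h3).resolve_left (sub_ne_zero.2 (Ne.symm hne))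
    have h1 := Submodule.finrank_sup_add_finrank_inf_eq K K'
    rw [hdis, finrank_bot, add_zero] at h1
    have h2 := Submodule.finrank_le (K ⊔ K')
    rw [Module.finrank_fin_fun] at h2
    have h9 : 4 ≤ 2 + Module.finrank F K' := hsum'.symm.trans_le (Nat.add_le_add_right hc _)
    have htop : K ⊔ K' = ⊤ := Submodule.eq_top_of_finrank_eq (by rw [Module.finrank_fin_fun]; omega)
    refine hq (a + c) (a * c) (mext fun u => ?_)
    obtain ⟨p, hp, p', hp', rfl⟩ := Submodule.mem_sup.1 (htop.ge (Submodule.mem_top (x := u)))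
    rw [hmemK] at hp
    rw [hmem'] at hp'
    simp only [mulVec_add, ← mulVec_mulVec, sub_mulVec, smul_mulVec, one_mulVec, hp, hp', mulVec_smul, smul_smul]
    module
  · obtain ⟨SG, hSG⟩ := exists_GL (S := C0 - a • 1) hca
    obtain ⟨Y, hY⟩ : ∃ Y, Y = E0 * (SG⁻¹).1 := ⟨_, rfl⟩
    obtain ⟨W, hW⟩ := exists_GL (S := glue (1 : Matrix (Fin 2) (Fin 2) F) Y (1 : Matrix (Fin 2) (Fin 2) F)) (by
      rw [glue_det, det_one, mul_one]; exact one_ne_zero)
    have hYE : Y * C0 = a • Y + E0 := by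
      have h1 : Y * SG.1 = E0 := by rw [hY, mul_assoc, Units.inv_mul, mul_one]
      rw [hSG, mul_sub, Matrix.mul_smul, mul_one, sub_eq_iff_eq_add'] at h1
      exact h1
    have hPW : A.1 * (P * W).1 = (P * W).1 * glue DG.1 0 CG.1 := by
      rw [Units.val_mul, ← mul_assoc, hPB, mul_assoc, mul_assoc, hBg, hW, hDG, hCG, glue_mul, glue_mul]
      congr 1
      simp only [Matrix.mul_one, Matrix.one_mul, Matrix.mul_zero, Matrix.smul_mul, zero_add, hYE]
    refine One.of_full (full_of_eig A hk1 (fun u hu => ?_) ⊥) (trick22 hPW hdA)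
    have hPW' : ((P * W)⁻¹).1 *ᵥ k1 = Pi.single 0 1 := by
      have h1 : (P * W).1 *ᵥ Pi.single 0 1 = k1 := by
        rw [Units.val_mul, ← mulVec_mulVec, hW, show glue (1 : Matrix (Fin 2) (Fin 2) F) Y 1 *ᵥ Pi.single 0 1 =
          Pi.single 0 1 by
            funext i
            fin_cases i <;> simp [glue, finSumFinEquiv, Fin.addCases, mulVec_single_one]]
        exact hP 0
      rw [← h1, mulVec_mulVec, Units.inv_mul, one_mulVec]
    obtain ⟨z, hz⟩ : ∃ z, z = ((P * W)⁻¹).1 *ᵥ u := ⟨_, rfl⟩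
    have h2 : glue DG.1 0 CG.1 *ᵥ z - a • z = Pi.single 0 1 := by
      rw [← hPW', ← hu, mulVec_sub, mulVec_smul, hz, mulVec_mulVec, mulVec_mulVec]
      congr 2
      have h3 := congrArg (fun M => ((P * W)⁻¹).1 * M * ((P * W)⁻¹).1) hPW
      simp only [← mul_assoc, Units.inv_mul, one_mul] at h3
      rw [mul_assoc _ (P * W).1, Units.mul_inv, mul_one] at h3
      exact h3.symm
    have h3 := congrFun h2 0
    rw [hDG] at h3
    simp [Matrix.mulVec, dotProduct, Fin.sum_univ_four, glue, finSumFinEquiv, Fin.addCases] at h3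

end Cfsg.Agent.Lib.LevCover
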