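import Cfsg.Agent.Lib.LevCover.Link

/-!
When the centralizer reaches every determinant.
-/

set_option autoImplicit false

namespace Cfsg.Agent.Lib.LevCover

open Matrix Polynomial

variable {F : Type*} [Field F] {n : ℕ}

/-- An irreducible companion matrix has polynomials of every determinant. -/
theorem comp_norm [Finite F] {d : ℕ} {p : F[X]} (hp : Irreducible p) (hm : p.Monic) (hd : p.natDegree = d)
    (s : F) : ∃ q : F[X], (aeval (comp d p) q).det = s := by
  haveI : Fact (Irreducible p) := ⟨hp⟩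
  set pb := AdjoinRoot.powerBasis hp.ne_zero with hpb
  haveI : Module.Finite F (AdjoinRoot p) := pb.finite
  haveI : Finite (AdjoinRoot p) := Module.finite_of_finite F
  have hdim : pb.dim = d := by rw [hpb, AdjoinRoot.powerBasis_dim]; exact hd
  subst hdim
  have hL : Algebra.leftMulMatrix pb.basis pb.gen = comp pb.dim p := by
    rw [PowerBasis.leftMulMatrix, PowerBasis.minpolyGen_eq,
      show minpoly F pb.gen = p from AdjoinRoot.minpoly_powerBasis_gen_of_monic hm]
    ext i j
    simp only [Matrix.of_apply, comp]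
    by_cases h : j.val + 1 < pb.dim
    · simp [h, show ¬(j.val + 1 = pb.dim) by omega]
    · have := j.isLt
      simp [h, show j.val + 1 = pb.dim by omega]
  obtain ⟨x, hx⟩ := FiniteField.norm_surjective F (AdjoinRoot p) s
  obtain ⟨q, rfl⟩ := AdjoinRoot.mk_surjective x
  refine ⟨q, ?_⟩
  rw [← hx, Algebra.norm_eq_matrix_det pb.basis, ← AdjoinRoot.aeval_eq, ← hL,
    show AdjoinRoot.root p = pb.gen from rfl, ← Polynomial.aeval_algHom_apply]

/-- A vector with an irreducible annihilator, outside the image. -/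
theorem full_of_vec [Finite F] (A : GL (Fin n) F) {p : F[X]} (hp : Irreducible p) (hm : p.Monic)
    {v : Fin n → F} (hv : aeval A.1 p *ᵥ v = 0) (hr : ∀ u, aeval A.1 p *ᵥ u ≠ v) (K : Subgroup Fˣ) :
    Full K A := by
  classical
  set d := p.natDegree with hd
  set N := aeval A.1 p with hN
  obtain ⟨ψ, hψ, hψv⟩ := Cfsg.Agent.Lib.Sourour.exists_dot (S := LinearMap.range N.mulVecLin) (z := v) (by
    rintro ⟨u, hu⟩; exact hr u hu)
  let Φ : Matrix (Fin n) (Fin d) F := Matrix.of fun i j => ((A.1 ^ j.val) *ᵥ v) i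
  let Ψ' : Matrix (Fin d) (Fin n) F := Matrix.of fun i j => (ψ ᵥ* (A.1 ^ i.val)) j
  have hΦ : ∀ j : Fin d, Φ *ᵥ Pi.single j 1 = (A.1 ^ j.val) *ᵥ v := fun j => by
    funext i; simp [Φ, mulVec_single_one]
  -- the covector kills every multiple of `p`
  have hkill : ∀ (q : F[X]) (u : Fin n → F), ψ ⬝ᵥ (aeval A.1 (p * q) *ᵥ u) = 0 := fun q u => by
    rw [map_mul, ← mulVec_mulVec]
    exact hψ _ ⟨_, rfl⟩
  have hΦA : A.1 * Φ = Φ * comp d p := by
    refine Matrix.ext_of_mulVec_single fun j => ?_
    rw [← mulVec_mulVec, ← mulVec_mulVec, hΦ, mulVec_mulVec, ← pow_succ']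
    by_cases hj : j.val + 1 < d
    · rw [comp_single p (j := ⟨j.val + 1, hj⟩) rfl, hΦ]
    · have hjd : j.val + 1 = d := by have := j.isLt; omega
      rw [comp_single_last p hjd, hjd]
      have h0 := hv
      rw [hN, aeval_mulVec A.1 v p (N := d + 1) (by omega), Finset.sum_range_succ, Finset.sum_range] at h0
      rw [show p.coeff d = 1 from hm.coeff_natDegree, one_smul] at h0
      rw [eq_neg_of_add_eq_zero_right h0]
      funext i
      simp [Φ, Matrix.mulVec, dotProduct, Finset.sum_apply, mul_comm]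
  set H := Ψ' * Φ with hH
  have hHdet : H.det ≠ 0 := by
    intro hdet
    obtain ⟨z, hz0, hz1⟩ := Matrix.exists_mulVec_eq_zero_iff.2 hdet
    set q : F[X] := ∑ j : Fin d, monomial j.val (z j) with hq
    have hqv : aeval A.1 q *ᵥ v = Φ *ᵥ z := by
      rw [hq, map_sum, Matrix.sum_mulVec]
      funext i
      simp only [Φ, Matrix.mulVec, dotProduct, Matrix.of_apply, Finset.sum_apply, aeval_monomial,
        Algebra.algebraMap_eq_smul_one, smul_mul_assoc, one_mul, Matrix.smul_apply, smul_eq_mul, mul_assoc,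
        ← Finset.mul_sum]
      exact Finset.sum_congr rfl fun j _ => mul_comm _ _
    have hlow : ∀ i : Fin d, ψ ⬝ᵥ ((A.1 ^ i.val) *ᵥ (aeval A.1 q *ᵥ v)) = 0 := fun i => by
      have h := congrFun hz1 i
      rw [hH, ← mulVec_mulVec, ← hqv] at h
      rw [dotProduct_mulVec]
      exact h
    have hall : ∀ r : F[X], ψ ⬝ᵥ (aeval A.1 r *ᵥ (aeval A.1 q *ᵥ v)) = 0 := by
      intro r
      have hmod : (r %ₘ p).natDegree < d := by
        rcases eq_or_ne (r %ₘ p) 0 with h | h
        · rw [h, natDegree_zero]; exact hp.natDegree_pos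
        · exact natDegree_lt_natDegree h (degree_modByMonic_lt r hm)
      conv_lhs => rw [← modByMonic_add_div r p, map_add, add_mulVec, dotProduct_add, hkill, add_zero]
      rw [aeval_mulVec A.1 _ _ hmod, dotProduct_sum]
      exact Finset.sum_eq_zero fun i hi => by
        rw [dotProduct_smul, hlow ⟨i, Finset.mem_range.1 hi⟩, smul_zero]
    have hqd : q.natDegree < d := by
      refine lt_of_le_of_lt (natDegree_sum_le_of_forall_le _ _ fun j _ =>
        (natDegree_monomial_le _).trans (by have := j.isLt; omega : j.val ≤ d - 1)) ?_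
      have := hp.natDegree_pos
      omega
    have hq0 : q ≠ 0 := by
      intro h0
      refine hz0 (funext fun j => ?_)
      have h1 := congrArg (coeff · j.val) h0
      simpa [hq, finsetSum_coeff, coeff_monomial, Fin.val_inj] using h1
    have hcop : IsCoprime p q := (hp.coprime_iff_not_dvd).2 fun h => by
      have := natDegree_le_of_dvd h hq0; omega
    obtain ⟨a, b, hab⟩ := hcop
    have h1 := congrArg (fun r => ψ ⬝ᵥ (aeval A.1 r *ᵥ v)) hab
    simp only [map_add, map_one, one_mulVec, add_mulVec, dotProduct_add] at h1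
    rw [mul_comm a p, hkill, zero_add, map_mul, ← mulVec_mulVec, hall] at h1
    exact hψv h1.symm
  obtain ⟨HG, hHG⟩ := exists_GL (S := H) hHdet
  set Ψ := (HG⁻¹).1 * Ψ' with hΨdef
  have hΨΦ : Ψ * Φ = 1 := by rw [hΨdef, Matrix.mul_assoc, ← hH, ← hHG, Units.inv_mul]
  have hshift : Ψ' * A.1 = (comp d p)ᵀ * Ψ' := by
    ext i c
    have h1 : (Ψ' * A.1) i c = (ψ ᵥ* (A.1 ^ (i.val + 1))) c := by
      rw [pow_succ, ← vecMul_vecMul]; rfl
    rw [h1, Matrix.mul_apply]
    simp only [Matrix.transpose_apply]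
    by_cases hi : i.val + 1 < d
    · rw [Finset.sum_eq_single (⟨i.val + 1, hi⟩ : Fin d)]
      · simp [comp, hi, Ψ']
      · intro x _ hx
        have : x.val ≠ i.val + 1 := fun e => hx (Fin.ext e)
        simp [comp, hi, this]
      · simp
    · have hid : i.val + 1 = d := by have := i.isLt; omega
      have h2 := hkill 1 (Pi.single c 1)
      rw [mul_one, aeval_mulVec A.1 _ p (N := d + 1) (by omega), Finset.sum_range_succ, Finset.sum_range,
        show p.coeff d = 1 from hm.coeff_natDegree, one_smul, dotProduct_add, dotProduct_sum] at h2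
      simp only [dotProduct_smul, dotProduct_mulVec, dotProduct_single, mul_one, smul_eq_mul] at h2
      simp only [comp, Matrix.of_apply, if_neg hi, Ψ']
      rw [hid]
      rw [eq_neg_of_add_eq_zero_right h2, ← Finset.sum_neg_distrib]
      exact Finset.sum_congr rfl fun x _ => by ring
  have hΨA : Ψ * A.1 = comp d p * Ψ := by
    have h1 : (comp d p)ᵀ * H = H * comp d p := by
      rw [hH, ← Matrix.mul_assoc, ← hshift, Matrix.mul_assoc, hΦA, Matrix.mul_assoc]
    have h2 : (HG⁻¹).1 * (comp d p)ᵀ = comp d p * (HG⁻¹).1 := by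
      rw [← hHG] at h1
      have h3 := congrArg (fun M => (HG⁻¹).1 * M * (HG⁻¹).1) h1
      simp only [← Matrix.mul_assoc, Units.inv_mul, Matrix.one_mul] at h3
      rw [Matrix.mul_assoc _ HG.1, Units.mul_inv, Matrix.mul_one] at h3
      exact h3
    rw [hΨdef, Matrix.mul_assoc, hshift, ← Matrix.mul_assoc, h2, Matrix.mul_assoc]
  clear_value Ψ
  intro s
  obtain ⟨q, hq⟩ := comp_norm hp hm hd.symm (s : F)
  set Q := aeval (comp d p) q with hQ
  set Z : Matrix (Fin n) (Fin n) F := 1 + Φ * ((Q - 1) * Ψ) with hZ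
  have hdet : Z.det = (s : F) := by
    rw [hZ, Matrix.det_one_add_mul_comm, Matrix.mul_assoc, hΨΦ, Matrix.mul_one, add_sub_cancel, hq]
  obtain ⟨ZG, hZG⟩ := exists_GL (S := Z) (hdet ▸ s.ne_zero)
  have hcomm : comp d p * (Q - 1) = (Q - 1) * comp d p := by
    rw [mul_sub, sub_mul, mul_one, one_mul, hQ]
    have := congrArg (aeval (comp d p)) (mul_comm Polynomial.X q)
    rw [map_mul, map_mul, aeval_X] at this
    rw [this]
  refine ⟨ZG, Units.ext ?_, ?_⟩
  · rw [Units.val_mul, Units.val_mul, hZG, hZ, add_mul, mul_add, one_mul, mul_one]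
    congr 1
    rw [Matrix.mul_assoc, Matrix.mul_assoc, hΨA, ← Matrix.mul_assoc A.1, hΦA, Matrix.mul_assoc Φ (comp d p),
      ← Matrix.mul_assoc (comp d p), hcomm, Matrix.mul_assoc]
  · have h : GeneralLinearGroup.det ZG = s := Units.ext (by rw [det_val, hZG, hdet])
    rw [h, mul_inv_cancel]
    exact K.one_mem

theorem noEig_degree {A : Matrix (Fin n) (Fin n) F} (hA : NoEig A) {p : F[X]} (hp : Irreducible p)
    {v : Fin n → F} (hv : aeval A p *ᵥ v = 0) (hv0 : v ≠ 0) : 2 ≤ p.natDegree := by
  by_contra h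
  have h1 : p.natDegree = 1 := by have := hp.natDegree_pos; omega
  obtain ⟨a, ha, b, rfl⟩ := Polynomial.natDegree_eq_one.1 h1
  refine hv0 (hA (-(b / a)) v ?_)
  rw [map_add, map_mul, aeval_C, aeval_C, aeval_X, Algebra.algebraMap_eq_smul_one, Algebra.algebraMap_eq_smul_one,
    smul_mul_assoc, one_mul, add_mulVec, smul_mulVec, smul_mulVec, one_mulVec] at hv
  rw [neg_smul, ← sub_eq_zero, sub_neg_eq_add]
  have h2 := congrArg (a⁻¹ • ·) hv
  simp only [smul_add, smul_smul, inv_mul_cancel₀ ha, one_smul, smul_zero] at h2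
  rwa [div_eq_inv_mul]

theorem full_of_quad [Finite F] (A : GL (Fin n) F) (hn : 0 < n) (hNE : NoEig A.1) {t d : F}
    (hq : A.1 * A.1 = t • A.1 - d • 1) (K : Subgroup Fˣ) : Full K A := by
  set p : F[X] := Polynomial.X ^ 2 - C t * Polynomial.X + C d with hp
  have hpA : aeval A.1 p = 0 := by
    rw [hp, map_add, map_sub, map_mul, aeval_C, aeval_C, map_pow, aeval_X, sq, hq,
      Algebra.algebraMap_eq_smul_one, Algebra.algebraMap_eq_smul_one, smul_mul_assoc, one_mul]
    abel
  have hpd : p.natDegree = 2 ∧ p.Monic := ⟨by rw [hp]; compute_degree!, by rw [hp]; monicity!⟩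
  set v : Fin n → F := Pi.single ⟨0, hn⟩ 1 with hv
  have hv0 : v ≠ 0 := by simp [hv]
  have hirr : Irreducible p := by
    rw [Monic.irreducible_iff_roots_eq_zero_of_degree_le_three hpd.2 hpd.1.ge (by omega)]
    refine Multiset.eq_zero_of_forall_notMem fun a ha => ?_
    rw [mem_roots hpd.2.ne_zero] at ha
    obtain ⟨r, hr⟩ := dvd_iff_isRoot.2 ha
    have h1 : aeval A.1 r *ᵥ v = 0 := hNE a _ (by
      have h2 := congrArg (fun q => aeval A.1 q *ᵥ v) hr
      simp only [hpA, zero_mulVec, map_mul, map_sub, aeval_X, aeval_C, Algebra.algebraMap_eq_smul_one] at h2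
      rw [← mulVec_mulVec, sub_mulVec, smul_mulVec, one_mulVec, eq_comm, sub_eq_zero] at h2
      exact h2)
    have hr0 : r ≠ 0 := fun h => hpd.2.ne_zero (by rw [hr, h, mul_zero])
    have hrd : r.natDegree = 1 := by
      have := congrArg natDegree hr
      rw [hpd.1, natDegree_mul (X_sub_C_ne_zero a) hr0, natDegree_X_sub_C] at this
      omega
    obtain ⟨b, hb, c, rfl⟩ := Polynomial.natDegree_eq_one.1 hrd
    have hi : Irreducible (C b * Polynomial.X + C c) := irreducible_of_degree_eq_one (by
      rw [degree_eq_natDegree hr0, hrd]; rfl)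
    have := noEig_degree hNE hi h1 hv0
    omega
  exact full_of_vec A hirr hpd.2 (v := v) (by rw [hpA, zero_mulVec]) (fun u => by
    rw [hpA, zero_mulVec]; exact hv0.symm) K

theorem rank_bound (N : Matrix (Fin n) (Fin n) F) : ∀ j : ℕ,
    Module.finrank F (LinearMap.ker (N ^ j).mulVecLin) ≤ j * Module.finrank F (LinearMap.ker N.mulVecLin) := by
  intro j
  induction j with
  | zero =>
    rw [pow_zero, Matrix.mulVecLin_one, LinearMap.ker_id, finrank_bot, zero_mul]
  | succ j ih =>
    rw [pow_succ, Matrix.mulVecLin_mul, Nat.succ_mul]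
    set f := N.mulVecLin
    set g := (N ^ j).mulVecLin
    have h := LinearMap.finrank_range_add_finrank_ker (f.domRestrict (LinearMap.ker (g ∘ₗ f)))
    have h1 : Module.finrank F (LinearMap.range (f.domRestrict (LinearMap.ker (g ∘ₗ f)))) ≤
        Module.finrank F (LinearMap.ker g) := by
      refine Submodule.finrank_mono ?_
      rintro _ ⟨⟨x, hx⟩, rfl⟩
      exact hx
    have h2 : Module.finrank F (LinearMap.ker (f.domRestrict (LinearMap.ker (g ∘ₗ f)))) ≤
        Module.finrank F (LinearMap.ker f) := by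
      refine LinearMap.finrank_le_finrank_of_injective
        (f := (Submodule.subtype _).comp (Submodule.subtype _) |>.codRestrict (LinearMap.ker f) fun x => x.2) ?_
      intro x y hxy
      have h3 := congrArg Subtype.val hxy
      exact Subtype.ext (Subtype.ext h3)
    omega

/-- Small degree: the centralizer is large, or the matrix is cyclic. -/
theorem small_cases [Finite F] (A : GL (Fin n) F) (hn : 0 < n) (hn7 : n ≤ 7) (hNE : NoEig A.1) :
    (∀ K : Subgroup Fˣ, Full K A) ∨ ((n = 4 ∨ n = 6) ∧ (∃ w, Cyc A.1 w) ∧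
      (n = 4 → ∃ p : F[X], Irreducible p ∧ p.Monic ∧ p.natDegree = 2 ∧ aeval A.1 (p * p) = 0)) := by
  classical
  by_cases hgood : ∃ (p : F[X]) (v : Fin n → F), Irreducible p ∧ p.Monic ∧ aeval A.1 p *ᵥ v = 0 ∧
      ∀ u, aeval A.1 p *ᵥ u ≠ v
  · obtain ⟨p, v, h1, h2, h3, h4⟩ := hgood
    exact Or.inl fun K => full_of_vec A h1 h2 h3 h4 K
  push Not at hgood
  right
  set f := minpoly F A.1 with hf
  have hfm : f.Monic := minpoly.monic (Matrix.isIntegral A.1)
  have hkey : ∀ p : F[X], Irreducible p → p.Monic → p ∣ f →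
      2 ≤ p.natDegree ∧ p.natDegree ≤ Module.finrank F (LinearMap.ker (aeval A.1 p).mulVecLin) ∧
      2 * Module.finrank F (LinearMap.ker (aeval A.1 p).mulVecLin) ≤
        Module.finrank F (LinearMap.ker (aeval A.1 (p ^ 2)).mulVecLin) ∧
      (∀ v u, aeval A.1 p *ᵥ v = 0 → v ≠ 0 → aeval A.1 p *ᵥ u = 0 → (∀ q : F[X], aeval A.1 q *ᵥ v ≠ u) →
        2 * p.natDegree ≤ Module.finrank F (LinearMap.ker (aeval A.1 p).mulVecLin)) := by
    intro p hp hpm ⟨r, hr⟩
    have hex : ∃ v, aeval A.1 p *ᵥ v = 0 ∧ v ≠ 0 := by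
      by_contra h
      push Not at h
      have hr0 : aeval A.1 r = 0 := mext fun u => by
        rw [zero_mulVec]
        exact h _ (by rw [mulVec_mulVec, ← map_mul, ← hr, minpoly.aeval, zero_mulVec])
      have hrne : r ≠ 0 := fun h0 => hfm.ne_zero (by rw [hr, h0, mul_zero])
      have h1 := minpoly.degree_le_of_ne_zero F A.1 hrne hr0
      rw [← hf, hr, degree_mul, degree_eq_natDegree hp.ne_zero, degree_eq_natDegree hrne, ← Nat.cast_add,
        Nat.cast_le] at h1
      have := hp.natDegree_pos
      omega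
    -- the orbit of a kernel vector
    have horb : ∀ v, v ≠ 0 → aeval A.1 p *ᵥ v = 0 → ∀ q : F[X], aeval A.1 q *ᵥ v = 0 → p ∣ q := by
      intro v hv0 hv q hq
      by_contra hpq
      obtain ⟨a, b, hab⟩ := (hp.coprime_iff_not_dvd).2 hpq
      apply hv0
      have h1 := congrArg (fun x => aeval A.1 x *ᵥ v) hab
      simpa [add_mulVec, ← mulVec_mulVec, hv, hq] using h1.symm
    let toK : (v : Fin n → F) → (Fin p.natDegree → F) →ₗ[F] (Fin n → F) := fun v =>
      (Matrix.of fun i (j : Fin p.natDegree) => ((A.1 ^ j.val) *ᵥ v) i).mulVecLin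
    have htoK : ∀ v z, toK v z = aeval A.1 (∑ j : Fin p.natDegree, monomial j.val (z j)) *ᵥ v := by
      intro v z
      rw [map_sum, Matrix.sum_mulVec]
      funext i
      simp only [toK, Matrix.mulVecLin_apply, Matrix.mulVec, dotProduct, Matrix.of_apply, Finset.sum_apply,
        aeval_monomial, Algebra.algebraMap_eq_smul_one, smul_mul_assoc, one_mul, Matrix.smul_apply, smul_eq_mul,
        mul_assoc, ← Finset.mul_sum]
      exact Finset.sum_congr rfl fun j _ => mul_comm _ _
    have hinj : ∀ v, v ≠ 0 → aeval A.1 p *ᵥ v = 0 → Function.Injective (toK v) := by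
      intro v hv0 hv
      rw [injective_iff_map_eq_zero]
      intro z hz
      rw [htoK] at hz
      have hdiv := horb v hv0 hv _ hz
      have h0 := eq_zero_of_dvd_of_natDegree_lt hdiv (lt_of_le_of_lt (natDegree_sum_le_of_forall_le _ _ fun j _ =>
        (natDegree_monomial_le _).trans (by have := j.isLt; omega : j.val ≤ p.natDegree - 1))
        (by have := hp.natDegree_pos; omega))
      funext j
      have h1 := congrArg (coeff · j.val) h0
      simpa [finsetSum_coeff, coeff_monomial, Fin.val_inj] using h1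
    have hsub : ∀ v, aeval A.1 p *ᵥ v = 0 → LinearMap.range (toK v) ≤ LinearMap.ker (aeval A.1 p).mulVecLin := by
      rintro v hv _ ⟨z, rfl⟩
      rw [LinearMap.mem_ker, Matrix.mulVecLin_apply, htoK, mulVec_mulVec, ← map_mul, mul_comm, map_mul,
        ← mulVec_mulVec, hv, mulVec_zero]
    have hrk : ∀ v, v ≠ 0 → aeval A.1 p *ᵥ v = 0 → Module.finrank F (LinearMap.range (toK v)) = p.natDegree :=
      fun v h0 h => by rw [LinearMap.finrank_range_of_inj (hinj v h0 h), Module.finrank_fin_fun]
    obtain ⟨v, hv, hv0⟩ := hex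
    refine ⟨noEig_degree hNE hp hv hv0, hrk v hv0 hv ▸ Submodule.finrank_mono (hsub v hv), ?_, ?_⟩
    · set K1 := LinearMap.ker (aeval A.1 p).mulVecLin with hK1
      set K2 := LinearMap.ker (aeval A.1 (p ^ 2)).mulVecLin with hK2
      have hle : K1 ≤ LinearMap.range ((aeval A.1 p).mulVecLin.domRestrict K2) := by
        intro x hx
        obtain ⟨u, hu⟩ := hgood p x hp hpm hx
        refine ⟨⟨u, ?_⟩, hu⟩
        rw [hK2, LinearMap.mem_ker, Matrix.mulVecLin_apply, sq, map_mul, ← mulVec_mulVec, hu]
        exact hx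
      have h := LinearMap.finrank_range_add_finrank_ker ((aeval A.1 p).mulVecLin.domRestrict K2)
      have h1 := Submodule.finrank_mono hle
      have h2 : Module.finrank F K1 ≤
          Module.finrank F (LinearMap.ker ((aeval A.1 p).mulVecLin.domRestrict K2)) := by
        refine LinearMap.finrank_le_finrank_of_injective
          (f := LinearMap.codRestrict _ ((LinearMap.codRestrict K2 (Submodule.subtype K1) fun x => ?_)) fun x => ?_) ?_
        · rw [hK2, LinearMap.mem_ker, Matrix.mulVecLin_apply, sq, map_mul, ← mulVec_mulVec]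
          show aeval A.1 p *ᵥ (aeval A.1 p *ᵥ x.1) = 0
          rw [show aeval A.1 p *ᵥ x.1 = 0 from x.2, mulVec_zero]
        · exact x.2
        · intro x y hxy
          exact Subtype.ext (congrArg (fun z : LinearMap.ker ((aeval A.1 p).mulVecLin.domRestrict K2) => (z.1.1 : Fin n → F)) hxy)
      omega
    · intro w u hw hw0 hu hne
      have hu0 : u ≠ 0 := fun h => hne 0 (by simp [h])
      have hdis : Disjoint (LinearMap.range (toK w)) (LinearMap.range (toK u)) := by
        rw [Submodule.disjoint_def]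
        rintro x ⟨z, rfl⟩ ⟨z', hz'⟩
        by_contra hx
        set q' : F[X] := ∑ j : Fin p.natDegree, monomial j.val (z' j) with hq'
        have hpq : ¬p ∣ q' := fun ⟨c, hc⟩ => hx (by
          rw [← hz', htoK, ← hq', hc, mul_comm, map_mul, ← mulVec_mulVec, hu, mulVec_zero])
        obtain ⟨a, b, hab⟩ := (hp.coprime_iff_not_dvd).2 hpq
        refine hne (b * ∑ j : Fin p.natDegree, monomial j.val (z j)) ?_
        have h1 := congrArg (fun x => aeval A.1 x *ᵥ u) hab
        simp only [map_one, one_mulVec] at h1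
        rw [← h1, map_mul, ← mulVec_mulVec, ← htoK, ← hz', htoK, ← hq', map_add, add_mulVec, map_mul, map_mul,
          ← mulVec_mulVec, ← mulVec_mulVec, hu, mulVec_zero, zero_add]
      have h := Submodule.finrank_sup_add_finrank_inf_eq (LinearMap.range (toK w)) (LinearMap.range (toK u))
      rw [hdis.eq_bot, finrank_bot, hrk w hw0 hw, hrk u hu0 hu] at h
      have := Submodule.finrank_mono (sup_le (hsub w hw) (hsub u hu))
      omega
  have hf1 : f ≠ 1 := fun h => by
    have h1 := minpoly.aeval F A.1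
    rw [← hf, h, map_one] at h1
    have := congrFun (congrFun h1 ⟨0, hn⟩) ⟨0, hn⟩
    simp at this
  obtain ⟨p, hpm, hp, hpf⟩ := exists_monic_irreducible_factor f (fun h => hf1 (hfm.isUnit_iff.1 h))
  obtain ⟨hd2, hdk, hk2, hkey2⟩ := hkey p hp hpm hpf
  set k := Module.finrank F (LinearMap.ker (aeval A.1 p).mulVecLin) with hk
  have hle : ∀ M : Matrix (Fin n) (Fin n) F, Module.finrank F (LinearMap.ker M.mulVecLin) ≤ n := fun M => by
    have := Submodule.finrank_le (LinearMap.ker M.mulVecLin)
    rwa [Module.finrank_fin_fun] at this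
  have hkn := hle (aeval A.1 (p ^ 2))
  -- no other irreducible factor
  have honly : ∀ r : F[X], Irreducible r → r.Monic → r ∣ f → r = p := by
    intro r hr hrm hrf
    by_contra hne
    obtain ⟨hr2, hrk, hrk2, -⟩ := hkey r hr hrm hrf
    have hcop : IsCoprime (p ^ 2) (r ^ 2) := IsCoprime.pow ((hp.coprime_iff_not_dvd).2 fun h =>
      hne (eq_of_monic_of_associated hpm hrm (hp.associated_of_dvd hr h)).symm)
    obtain ⟨a, b, hab⟩ := hcop
    have hdis : Disjoint (LinearMap.ker (aeval A.1 (p ^ 2)).mulVecLin) (LinearMap.ker (aeval A.1 (r ^ 2)).mulVecLin) := by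
      rw [Submodule.disjoint_def]
      intro x hx hx'
      rw [LinearMap.mem_ker, Matrix.mulVecLin_apply] at hx hx'
      have h1 := congrArg (fun q => aeval A.1 q *ᵥ x) hab
      simpa [add_mulVec, ← mulVec_mulVec, hx, hx', -map_pow] using h1.symm
    have h := Submodule.finrank_sup_add_finrank_inf_eq (LinearMap.ker (aeval A.1 (p ^ 2)).mulVecLin)
      (LinearMap.ker (aeval A.1 (r ^ 2)).mulVecLin)
    rw [hdis.eq_bot, finrank_bot] at h
    have := Submodule.finrank_le (LinearMap.ker (aeval A.1 (p ^ 2)).mulVecLin ⊔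
      LinearMap.ker (aeval A.1 (r ^ 2)).mulVecLin)
    rw [Module.finrank_fin_fun] at this
    omega
  obtain ⟨e, he⟩ : ∃ e, f = p ^ e := by
    have hpow := (eq_of_monic_of_associated ?_ hfm (UniqueFactorizationMonoid.prod_normalizedFactors hfm.ne_zero)).symm
    · refine ⟨(UniqueFactorizationMonoid.normalizedFactors f).card, hpow.trans ?_⟩
      conv_lhs => rw [(Multiset.eq_replicate_card (a := p)).2
        (fun r (hr : r ∈ UniqueFactorizationMonoid.normalizedFactors f) => honly r (UniqueFactorizationMonoid.irreducible_of_normalized_factor r hr) (by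
          have h2 := UniqueFactorizationMonoid.normalize_normalized_factor r hr
          rw [← h2]
          exact monic_normalize (UniqueFactorizationMonoid.irreducible_of_normalized_factor r hr).ne_zero)
          (UniqueFactorizationMonoid.dvd_of_mem_normalizedFactors hr))]
      rw [Multiset.prod_replicate]
    · refine monic_multiset_prod_of_monic _ _ fun r hr => ?_
      exact monic_normalize (UniqueFactorizationMonoid.irreducible_of_factor r hr).ne_zero
  have hfd : f.natDegree ≤ n := by
    have h1 := natDegree_le_of_dvd (Matrix.minpoly_dvd_charpoly A.1) A.1.charpoly_monic.ne_zero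
    rwa [Matrix.charpoly_natDegree_eq_dim, Fintype.card_fin] at h1
  rw [he, natDegree_pow] at hfd
  have hkd : k = p.natDegree := by
    by_contra hne
    have hex2 : ∃ v u, aeval A.1 p *ᵥ v = 0 ∧ v ≠ 0 ∧ aeval A.1 p *ᵥ u = 0 ∧ ∀ q : F[X], aeval A.1 q *ᵥ v ≠ u := by
      by_contra hno
      push Not at hno
      obtain ⟨v, hv, hv0⟩ : ∃ v, aeval A.1 p *ᵥ v = 0 ∧ v ≠ 0 := by
        by_contra h
        push Not at h
        have : k = 0 := by
          rw [hk, Submodule.finrank_eq_zero, Submodule.eq_bot_iff]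
          exact fun x hx => h x hx
        omega
      let T : (Fin p.natDegree → F) →ₗ[F] (Fin n → F) :=
        (Matrix.of fun i (j : Fin p.natDegree) => ((A.1 ^ j.val) *ᵥ v) i).mulVecLin
      have hsup : LinearMap.ker (aeval A.1 p).mulVecLin ≤ LinearMap.range T := by
        intro u hu
        obtain ⟨q, hq⟩ := hno v u hv hv0 hu
        refine ⟨fun j => (q %ₘ p).coeff j.val, ?_⟩
        have h7 : aeval A.1 q *ᵥ v = aeval A.1 (q %ₘ p) *ᵥ v := by
          conv_lhs => rw [← modByMonic_add_div q p, map_add, mul_comm p, map_mul, add_mulVec, ← mulVec_mulVec, hv,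
            mulVec_zero, add_zero]
        rw [← hq, h7, aeval_mulVec A.1 v _ (N := p.natDegree), Finset.sum_range]
        · funext i
          simp [T, Matrix.mulVec, dotProduct, Finset.sum_apply, mul_comm]
        · rcases eq_or_ne (q %ₘ p) 0 with h0 | h0
          · rw [h0, natDegree_zero]; omega
          · exact natDegree_lt_natDegree h0 (degree_modByMonic_lt q hpm)
      have h1 := (Submodule.finrank_mono hsup).trans (LinearMap.finrank_range_le T)
      rw [Module.finrank_fin_fun] at h1
      omega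
    obtain ⟨v, u, h1, h2, h3, h4⟩ := hex2
    have := hkey2 v u h1 h2 h3 h4
    omega
  have hfull : n ≤ e * k := by
    have h1 := rank_bound (aeval A.1 p) e
    rw [← map_pow, ← he, minpoly.aeval, ← hk] at h1
    rwa [show (0 : Matrix (Fin n) (Fin n) F).mulVecLin = 0 from Matrix.mulVecLin_zero, LinearMap.ker_zero,
      finrank_top, Module.finrank_fin_fun] at h1
  have hne : n = e * p.natDegree := by rw [hkd] at hfull; omega
  have he2 : 2 ≤ e := by
    by_contra he2
    interval_cases e <;> omega
  refine ⟨?_, ?_, fun hn4 => ?_⟩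
  · have hd3 : p.natDegree ≤ 3 := by omega
    interval_cases hh : p.natDegree <;> omega
  rotate_left
  · have hpd : p.natDegree = 2 ∧ e = 2 := by
      have hd3 : p.natDegree ≤ 3 := by omega
      interval_cases hh : p.natDegree <;> omega
    refine ⟨p, hp, hpm, hpd.1, ?_⟩
    have h2 : f = p * p := by rw [he, hpd.2, sq]
    rw [← h2, hf, minpoly.aeval]
  · obtain ⟨v, hv⟩ := exists_max A.1
    refine ⟨v, cyc_of_eq_zero fun q hq h0 => by_contra fun hq0 => ?_⟩
    have h1 := minpoly.degree_le_of_ne_zero F A.1 hq0 (hv q h0)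
    rw [← hf, he, degree_eq_natDegree (pow_ne_zero _ hp.ne_zero), degree_eq_natDegree hq0, Nat.cast_le,
      natDegree_pow] at h1
    omega

end Cfsg.Agent.Lib.LevCover
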