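import Cfsg.Agent.Lib.LevCover.W

/-!
Criteria for a centralizer of full determinant, and determinants of block forms.
-/

set_option autoImplicit false

namespace Cfsg.Agent.Lib.LevCover

open Matrix Polynomial
open Cfsg.Agent.Lib.Sourour (blk blk_mul blk_mulVec blk_one blk_00 blk_0s blk_s0 blk_ss eq_blk det_blk_upper
  cons_tail_eq four_of_fintype)

variable {F : Type*} [Field F] {n : ℕ}

theorem aeval_X_sub_C_mulVec (A : Matrix (Fin n) (Fin n) F) (a : F) (v : Fin n → F) :
    aeval A (Polynomial.X - C a) *ᵥ v = A *ᵥ v - a • v := by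
  rw [map_sub, aeval_X, aeval_C, Algebra.algebraMap_eq_smul_one, sub_mulVec, smul_mulVec, one_mulVec]

/-- An eigenvector outside the image. -/
theorem full_of_eig [Finite F] (A : GL (Fin n) F) {a : F} {v : Fin n → F} (hv : A.1 *ᵥ v = a • v)
    (hr : ∀ u, A.1 *ᵥ u - a • u ≠ v) (K : Subgroup Fˣ) : Full K A :=
  full_of_vec A (irreducible_X_sub_C a) (monic_X_sub_C a) (v := v)
    (by rw [aeval_X_sub_C_mulVec, hv, sub_self]) (fun u => by rw [aeval_X_sub_C_mulVec]; exact hr u) K

/-- An irreducible factor met once. -/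
theorem full_of_factor [Finite F] (A : GL (Fin n) F) {p r : F[X]} (hp : Irreducible p) (hpm : p.Monic)
    (hcop : IsCoprime p r) (h : aeval A.1 (p * r) = 0) (hr : aeval A.1 r ≠ 0) (K : Subgroup Fˣ) : Full K A := by
  obtain ⟨y, hy⟩ : ∃ y, aeval A.1 r *ᵥ y ≠ 0 := by
    by_contra hno
    push Not at hno
    exact hr (mext fun u => by rw [hno u, zero_mulVec])
  refine full_of_vec A hp hpm (v := aeval A.1 r *ᵥ y) (by rw [mulVec_mulVec, ← map_mul, h, zero_mulVec])
    (fun u hu => hy ?_) K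
  obtain ⟨e, f, hef⟩ := hcop
  have h1 := congrArg (fun x => aeval A.1 x *ᵥ (aeval A.1 r *ᵥ y)) hef
  simp only [map_one, one_mulVec, map_add, add_mulVec, map_mul, ← mulVec_mulVec] at h1
  rw [← h1]
  have h2 : aeval A.1 p *ᵥ (aeval A.1 r *ᵥ y) = 0 := by rw [mulVec_mulVec, ← map_mul, h, zero_mulVec]
  have h3 : aeval A.1 r *ᵥ (aeval A.1 r *ᵥ y) = 0 := by
    rw [← hu, mulVec_mulVec, ← map_mul, mul_comm, h, zero_mulVec]
  rw [h2, h3, mulVec_zero, mulVec_zero, add_zero]

/-- Scalars give every determinant when all are powers. -/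
theorem full_of_pow (A : GL (Fin n) F) (h : ∀ s : Fˣ, ∃ c : Fˣ, c ^ n = s) (K : Subgroup Fˣ) : Full K A := by
  intro s
  obtain ⟨c, hc⟩ := h s
  obtain ⟨Z, hZ⟩ := exists_GL (S := (c : F) • (1 : Matrix (Fin n) (Fin n) F)) (by
    rw [det_smul, det_one, mul_one]; exact pow_ne_zero _ c.ne_zero)
  refine ⟨Z, Units.ext (by simp [Units.val_mul, hZ]), ?_⟩
  have h1 : GeneralLinearGroup.det Z = s := Units.ext (by
    rw [det_val, hZ, det_smul, det_one, mul_one, Fintype.card_fin, ← Units.val_pow_eq_pow_val, hc])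
  rw [h1, mul_inv_cancel]
  exact K.one_mem

/-- Characteristic two: every element is a fourth power. -/
theorem fourth_powers [Fintype F] (h2 : (2 : F) = 0) : ∀ s : Fˣ, ∃ c : Fˣ, c ^ 4 = s := by
  have hinj : Function.Injective fun c : Fˣ => c ^ 2 := by
    intro x y h
    have h1 : (x : F) ^ 2 = (y : F) ^ 2 := by
      rw [← Units.val_pow_eq_pow_val, ← Units.val_pow_eq_pow_val]; exact congrArg Units.val h
    refine Units.ext (sub_eq_zero.1 (pow_eq_zero_iff (n := 2) two_ne_zero |>.1 ?_))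
    linear_combination h1 + ((y : F) ^ 2 - (x : F) * y) * h2
  have hs := (Finite.injective_iff_surjective.1 hinj)
  intro s
  obtain ⟨b, rfl⟩ := hs s
  obtain ⟨c, rfl⟩ := hs b
  exact ⟨c, by simp only [← pow_mul]⟩

theorem charpoly_blk (a : F) (r : Fin n → F) (M : Matrix (Fin n) (Fin n) F) :
    (blk a r 0 M).charpoly = (Polynomial.X - C a) * M.charpoly := by
  have h : ∀ i j : Fin (1 + n), Matrix.reindex finSumFinEquiv finSumFinEquiv
      (Matrix.fromBlocks (Matrix.of fun (_ : Fin 1) (_ : Fin 1) => a) (Matrix.of fun _ j => r j) 0 M) i j =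
      blk a r 0 M (finCongr (Nat.add_comm 1 n) i) (finCongr (Nat.add_comm 1 n) j) := by
    intro i j
    refine Fin.addCases (fun i => ?_) (fun i => ?_) i <;> refine Fin.addCases (fun j => ?_) (fun j => ?_) j <;>
      simp only [Matrix.reindex_apply, Matrix.submatrix_apply, finSumFinEquiv_symm_apply_castAdd,
        finSumFinEquiv_symm_apply_natAdd, Matrix.fromBlocks_apply₁₁, Matrix.fromBlocks_apply₁₂,
        Matrix.fromBlocks_apply₂₁, Matrix.fromBlocks_apply₂₂, Matrix.of_apply, Matrix.zero_apply] <;>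
      first
        | rw [show finCongr (Nat.add_comm 1 n) (Fin.castAdd n i) = 0 from Fin.ext (by simp)]
        | rw [show finCongr (Nat.add_comm 1 n) (Fin.natAdd 1 i) = i.succ from Fin.ext (by simp [Nat.add_comm])]
    all_goals first
      | rw [show finCongr (Nat.add_comm 1 n) (Fin.castAdd n j) = 0 from Fin.ext (by simp)]
      | rw [show finCongr (Nat.add_comm 1 n) (Fin.natAdd 1 j) = j.succ from Fin.ext (by simp [Nat.add_comm])]
    all_goals simp
  have e : blk a r 0 M = Matrix.reindex (finCongr (Nat.add_comm 1 n)) (finCongr (Nat.add_comm 1 n))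
      (Matrix.reindex finSumFinEquiv finSumFinEquiv
        (Matrix.fromBlocks (Matrix.of fun (_ : Fin 1) (_ : Fin 1) => a) (Matrix.of fun _ j => r j) 0 M)) := by
    ext i j
    rw [Matrix.reindex_apply, Matrix.submatrix_apply, h]
    simp
  rw [e, Matrix.charpoly_reindex, Matrix.charpoly_reindex, Matrix.charpoly_fromBlocks_zero₂₁]
  congr 1
  rw [Matrix.charpoly, det_fin_one]
  simp [Matrix.charmatrix]

/-- The block form seen from the characteristic polynomial. -/
theorem charpoly_of_quot {m : ℕ} {A Q : GL (Fin (m + 1)) F} {a : F} {x : Fin m → F} {M : Matrix (Fin m) (Fin m) F}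
    (hA : A.1 * Q.1 = Q.1 * blk a x 0 M) : A.1.charpoly = (Polynomial.X - C a) * M.charpoly := by
  have h : A.1 = Q.1 * (blk a x 0 M * (Q⁻¹).1) := by
    rw [← mul_assoc, ← hA, mul_assoc, Units.mul_inv, mul_one]
  rw [h, Matrix.charpoly_mul_comm, mul_assoc, Units.inv_mul, mul_one, charpoly_blk]

/-- A root of the characteristic polynomial is an eigenvalue. -/
theorem exists_eig {A : Matrix (Fin n) (Fin n) F} {a : F} (h : A.charpoly.IsRoot a) :
    ∃ v : Fin n → F, v ≠ 0 ∧ A *ᵥ v = a • v := by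
  rw [IsRoot.def, Matrix.eval_charpoly] at h
  obtain ⟨v, hv0, hv⟩ := Matrix.exists_mulVec_eq_zero_iff.2 h
  refine ⟨v, hv0, ?_⟩
  rw [sub_mulVec, sub_eq_zero] at hv
  rw [← hv]
  funext i
  simp [Matrix.scalar_apply, Matrix.mulVec_diagonal]

end Cfsg.Agent.Lib.LevCover
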