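import Cfsg.Agent.Lib.LevCover.Tri
import Cfsg.Agent.Lib.Sourour.NormalForm

/-!
A cyclic class times a split cyclic class holds every cyclic class of the right determinant.
-/

set_option autoImplicit false

namespace Cfsg.Agent.Lib.LevCover

open Matrix Polynomial

variable {F : Type*} [Field F] {n : ℕ}

/-- Enough elements to avoid four values unless two of them are opposite in characteristic two. -/
theorem avoid_pm [Fintype F] (h4 : 4 ≤ Fintype.card F) (a b : F) :
    ∃ t : F, t ≠ 0 ∧ t ≠ a ∧ t ≠ b ∧ t ≠ -b := by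
  classical
  by_contra h
  push Not at h
  have hsub : (Finset.univ : Finset F) ⊆ {0, a, b, -b} := fun t _ => by
    simp only [Finset.mem_insert, Finset.mem_singleton]
    by_cases h0 : t = 0
    · exact Or.inl h0
    by_cases ha : t = a
    · exact Or.inr (Or.inl ha)
    by_cases hb : t = b
    · exact Or.inr (Or.inr (Or.inl hb))
    · exact Or.inr (Or.inr (Or.inr (h t h0 ha hb)))
  have hle := Finset.card_le_card hsub
  rw [Finset.card_univ] at hle
  by_cases hchar : ringChar F = 2
  · haveI : CharP F 2 := hchar ▸ ringChar.charP F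
    rw [CharTwo.neg_eq] at hle
    have : ({0, a, b, b} : Finset F).card ≤ 3 := by
      rw [show ({0, a, b, b} : Finset F) = {0, a, b} by simp]
      exact Finset.card_le_three
    omega
  · have h1 : Fintype.card F % 2 = 1 := (Nat.mod_two_eq_zero_or_one _).resolve_left fun e =>
      hchar (FiniteField.even_card_iff_char_two.2 e)
    have : ({0, a, b, -b} : Finset F).card ≤ 4 := Finset.card_le_four
    omega

theorem weights_aux {m : ℕ} (c : F) {r t : F} (hr : r ≠ 0) (h0 : t ≠ 0) (h1 : t ≠ c - m) (hs : r / t ^ 2 + 1 ≠ 0) :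
    ∃ v : ℕ → F, (∀ k, v k ≠ 0) ∧ ∑ k ∈ Finset.range (m + 4 - 1), v k = c ∧
      ∃ b : F, b ≠ 0 ∧ ∏ k ∈ Finset.range (m + 4 - 1), v k ^ (k + 1) = r * b ^ (m + 4) := by
  set s := r / t ^ 2 with hsdef
  have hs0 : s ≠ 0 := div_ne_zero hr (pow_ne_zero _ h0)
  set b := (c - t - m) / (s + 1) with hb
  have hb0 : b ≠ 0 := div_ne_zero (fun e => h1 (by linear_combination -e)) hs
  refine ⟨fun k => if k = 0 then s * b else if k = 1 then t else if k = m + 2 then b else 1, fun k => ?_, ?_,
    b, hb0, ?_⟩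
  · dsimp only
    split_ifs
    exacts [mul_ne_zero hs0 hb0, h0, hb0, one_ne_zero]
  · rw [show m + 4 - 1 = m + 2 + 1 by omega, Finset.sum_range_succ, Finset.sum_range_succ', Finset.sum_range_succ']
    simp only [Nat.succ_ne_zero, if_false, if_true, Nat.add_right_cancel_iff, show m + 2 ≠ 1 by omega,
      zero_add]
    rw [Finset.sum_eq_card_nsmul (b := (1 : F)) (fun k hk => by
      have := Finset.mem_range.1 hk
      simp [show k ≠ m by omega])]
    rw [Finset.card_range, nsmul_one, hb]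
    field_simp
    ring
  · rw [show m + 4 - 1 = m + 2 + 1 by omega, Finset.prod_range_succ, Finset.prod_range_succ',
      Finset.prod_range_succ']
    simp only [Nat.succ_ne_zero, if_false, if_true, Nat.add_right_cancel_iff, show m + 2 ≠ 1 by omega,
      zero_add, pow_one]
    rw [Finset.prod_eq_one fun k hk => by
      have := Finset.mem_range.1 hk
      simp [show k ≠ m by omega]]
    rw [hsdef]
    field_simp
    ring

/-- The superdiagonal: prescribed sum, nowhere zero, weighted product prescribed up to an `n`-th power. -/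
theorem exists_weights [Fintype F] (h4 : 4 ≤ Fintype.card F) (hn : 4 ≤ n) (c : F) {r : F} (hr : r ≠ 0) :
    ∃ v : ℕ → F, (∀ k, v k ≠ 0) ∧ ∑ k ∈ Finset.range (n - 1), v k = c ∧
      ∃ b : F, b ≠ 0 ∧ ∏ k ∈ Finset.range (n - 1), v k ^ (k + 1) = r * b ^ n := by
  obtain ⟨m, rfl⟩ : ∃ m, n = m + 4 := ⟨n - 4, by omega⟩
  by_cases hsq : ∃ t0 : F, t0 ^ 2 = -r
  · obtain ⟨t0, ht0⟩ := hsq
    obtain ⟨t, h0, h1, h2, h3⟩ := avoid_pm h4 (c - m) t0
    have hs : r / t ^ 2 + 1 ≠ 0 := by
      intro e
      have e' : t ^ 2 = t0 ^ 2 := by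
        rw [ht0]; field_simp at e; linear_combination e
      rcases eq_or_eq_neg_of_sq_eq_sq t t0 e' with h | h
      · exact h2 h
      · exact h3 h
    exact weights_aux c hr h0 h1 hs
  · obtain ⟨t, h0, h1, -, -⟩ := avoid_pm h4 (c - m) 0
    refine weights_aux c hr h0 h1 fun e => hsq ⟨t, ?_⟩
    field_simp at e
    linear_combination e

/-- Units from conjugation equations. -/
theorem eq_conj' {g h S : GL (Fin n) F} (e : g.1 * S.1 = S.1 * h.1) : g = S * h * S⁻¹ :=
  eq_conj_of_mul e

theorem scalar_GL {b : F} (hb : b ≠ 0) : ∃ Z : GL (Fin n) F, (GeneralLinearGroup.det Z : F) = b ^ n ∧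
    ∀ g : GL (Fin n) F, Z * g = g * Z := by
  obtain ⟨Z, hZ⟩ := exists_GL (S := (b • (1 : Matrix (Fin n) (Fin n) F))) (by
    rw [det_smul, det_one, mul_one]; exact pow_ne_zero _ hb)
  refine ⟨Z, ?_, fun g => Units.ext ?_⟩
  · rw [det_val, hZ, det_smul, det_one, mul_one, Fintype.card_fin]
  · rw [Units.val_mul, Units.val_mul, hZ, smul_mul_assoc, one_mul, mul_smul_comm, mul_one]

set_option maxHeartbeats 1000000 in
/-- The product lemma. -/
theorem gn [Fintype F] (h4 : 4 ≤ Fintype.card F) (hn : 3 ≤ n) {K : Subgroup Fˣ} (hK : K = ⊤ ∨ 4 ≤ n)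
    {A X Y G : GL (Fin n) F} {i k : ℕ} (hY : One K A i Y) (hYc : ∃ w, Cyc Y.1 w) (hX : One K A k X)
    (hXc : ∃ w, Cyc X.1 w) {l : Fin n → F} (hl : Contig l)
    (hXp : X.1.charpoly = ∏ j, (Polynomial.X - C (l j)))
    (hdet : GeneralLinearGroup.det G = GeneralLinearGroup.det Y * GeneralLinearGroup.det X)
    (hGc : ∃ w, Cyc G.1 w) (hF : Full K G) : Cls K A (i + k) G := by
  classical
  obtain ⟨wY, hwY⟩ := hYc
  obtain ⟨wX, hwX⟩ := hXc
  obtain ⟨wG, hwG⟩ := hGc
  have hn0 : 0 < n := by omega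
  set e0 : Fin n → F := Pi.single (⟨0, hn0⟩ : Fin n) 1 with he0
  have hdeg : ∀ M : Matrix (Fin n) (Fin n) F, M.charpoly.natDegree = n := fun M => by
    rw [Matrix.charpoly_natDegree_eq_dim, Fintype.card_fin]
  have hdetX : X.1.det = ∏ j, l j := by
    have h1 : (Matrix.diagonal l).charpoly = ∏ j, (Polynomial.X - C (l j)) :=
      charpoly_upper (fun a b h => Matrix.diagonal_apply_ne _ (ne_of_lt h).symm) fun a => Matrix.diagonal_apply_eq _ _
    rw [Matrix.det_eq_sign_charpoly_coeff, hXp, ← h1, ← Matrix.det_eq_sign_charpoly_coeff, det_diagonal]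
  have hl0 : ∀ j, l j ≠ 0 := fun j e => GeneralLinearGroup.det_ne_zero X (by
    rw [hdetX]; exact Finset.prod_eq_zero (Finset.mem_univ j) e)
  -- the companion target
  set gG := G.1.charpoly with hgG
  obtain ⟨G0, hG0⟩ := exists_GL (S := comp n gG) (by
    rw [Matrix.det_eq_sign_charpoly_coeff, comp_charpoly G.1.charpoly_monic (hdeg _),
      ← Matrix.det_eq_sign_charpoly_coeff]
    exact GeneralLinearGroup.det_ne_zero G)
  have hG0p : G0.1.charpoly = gG := by rw [hG0, comp_charpoly G.1.charpoly_monic (hdeg _)]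
  obtain ⟨SG, hSG, -⟩ := exists_similar (X := G) (Y := G0) hwG (w := e0) (by rw [hG0]; exact comp_cyc gG hn0) hG0p.symm
  have hdetG0 : G0.1.det = G.1.det := by
    rw [Matrix.det_eq_sign_charpoly_coeff, hG0p, hgG, ← Matrix.det_eq_sign_charpoly_coeff]
  -- the normal form of `X⁻¹`
  set li : Fin n → F := fun j => (l j)⁻¹ with hli
  obtain ⟨Bl, hBl⟩ := exists_GL (S := bd l fun _ => (1 : F)) (by
    rw [Matrix.det_of_isUpperTriangular (fun a b h => bd_lower _ _ a b h)]
    exact Finset.prod_ne_zero_iff.2 fun j _ => by simpa [bd] using hl0 j)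
  have hbd : ∀ (m : Fin n → F) (v : ℕ → F) (a b : Fin n), a.val + 1 = b.val → bd m v a b = v a.val :=
    fun m v a b h => by simp [bd, h, show a ≠ b from fun e => by rw [e] at h; omega]
  have hBz : ∀ a b : Fin n, b < a → Bl.1 a b = 0 := fun a b h => by rw [hBl]; exact bd_lower _ _ a b h
  have hBd : ∀ a, Bl.1 a a = l a := fun a => by rw [hBl]; simp [bd]
  obtain ⟨S0, hS0, -⟩ := exists_similar (X := X) (Y := Bl) hwX
    (cyc_upper hBz hBd hl fun a b h _ => by rw [hBl, hbd _ _ a b h]; exact one_ne_zero).choose_spec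
    (by rw [hXp, charpoly_upper hBz hBd])
  obtain ⟨U, hBU, -, hUz, hUd, hUs⟩ := Cfsg.Agent.Lib.Sourour.up_inv hl0 hBz hBd
  have hU : (Bl⁻¹).1 = U := by
    rw [Matrix.coe_units_inv]; exact Matrix.inv_eq_right_inv hBU
  set vU : ℕ → F := fun a => if h : a + 1 < n then
    -((l ⟨a, by omega⟩)⁻¹ * (l ⟨a + 1, h⟩)⁻¹) else 1 with hvU
  obtain ⟨S1, hS1, -⟩ := upper_normal (N := U) (v := vU) hUz hUd hl.inv (fun a b h => by
      have hb := b.isLt
      rw [hUs a b h, hBl, hbd _ _ a b h, mul_one]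
      simp only [hvU, dif_pos (show a.val + 1 < n by omega)]
      rw [show (⟨a.val + 1, _⟩ : Fin n) = b from Fin.ext h])
    (fun a ha => by simp only [hvU, dif_pos ha]; exact neg_ne_zero.2 (mul_ne_zero (inv_ne_zero (hl0 _))
      (inv_ne_zero (hl0 _))))
  obtain ⟨Bi, hBi⟩ := exists_GL (S := bd li fun _ => (1 : F)) (by
    rw [Matrix.det_of_isUpperTriangular (fun a b h => bd_lower _ _ a b h)]
    exact Finset.prod_ne_zero_iff.2 fun j _ => by simpa [bd, hli] using hl0 j)
  have hBinv : Bl⁻¹ = S1 * Bi * S1⁻¹ := eq_conj' (by rw [hU, hBi]; exact hS1)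
  -- the target spectrum of `H`
  set f := Y.1.charpoly with hf
  set kY := (kry Y.1 wY).det with hkY
  set P0 : F := ∏ j : Fin n, ∏ a ∈ Finset.range j.val, ((Finset.univ.filter fun b : Fin n => b.val = a).prod li)⁻¹
    with hP0
  have hP00 : P0 ≠ 0 := Finset.prod_ne_zero_iff.2 fun j _ => Finset.prod_ne_zero_iff.2 fun a _ => inv_ne_zero
    (Finset.prod_ne_zero_iff.2 fun b _ => by simpa [hli] using hl0 b)
  set c : F := -f.coeff (n - 1) + li ⟨n - 1, by omega⟩ * gG.coeff (n - 1) with hc
  set r : F := (GeneralLinearGroup.det (S0 * S1) : F) * P0⁻¹ / kY with hr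
  have hr0 : r ≠ 0 := div_ne_zero (mul_ne_zero (Units.ne_zero _) (inv_ne_zero hP00)) hwY
  obtain ⟨v, hv0, hvs, hvp⟩ : ∃ v : ℕ → F, (∀ a, v a ≠ 0) ∧ ∑ a ∈ Finset.range (n - 1), v a = c ∧
      (K = ⊤ ∨ ∃ b : F, b ≠ 0 ∧ ∏ a ∈ Finset.range (n - 1), v a ^ (a + 1) = r * b ^ n) := by
    by_cases h : 4 ≤ n
    · obtain ⟨v, h1, h2, h3⟩ := exists_weights h4 h c hr0
      exact ⟨v, h1, h2, Or.inr h3⟩
    · obtain rfl : n = 3 := by omega
      obtain ⟨t, ht0, htc, -, -⟩ := avoid_pm h4 c 0
      refine ⟨fun a => if a = 0 then t else c - t, fun a => ?_, ?_, Or.inl (hK.resolve_right h)⟩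
      · dsimp only
        split_ifs
        exacts [ht0, sub_ne_zero.2 (Ne.symm htc)]
      · simp [Finset.sum_range_succ]
  -- a basis of polynomials
  set vv : ℕ → F := fun j => if j = 0 then 0 else v (j - 1) with hvv
  set mm : ℕ → F := fun a => (Finset.univ.filter fun b : Fin n => b.val = a).prod li with hmm
  have hmm' : ∀ a : Fin n, mm a.val = li a := fun a => by
    simp only [hmm]
    rw [show (Finset.univ.filter fun b : Fin n => b.val = a.val) = {a} by
      ext b; simp [Fin.ext_iff], Finset.prod_singleton]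
  have hmm0 : ∀ a, mm a ≠ 0 := fun a => Finset.prod_ne_zero_iff.2 fun b _ => by simpa [hli] using hl0 b
  set p : ℕ → F[X] := fun j => ∏ a ∈ Finset.range j, (C (mm a)⁻¹ * (Polynomial.X - C (vv a))) with hp
  have hpdeg : ∀ j, (p j).natDegree = j ∧ (p j).coeff j = ∏ a ∈ Finset.range j, (mm a)⁻¹ := by
    intro j
    induction j with
    | zero => simp [hp]
    | succ j ih =>
      have e : p (j + 1) = p j * (C (mm j)⁻¹ * (Polynomial.X - C (vv j))) := Finset.prod_range_succ _ _
      have hne : p j ≠ 0 := fun h0 => by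
        have h2 := ih.2
        rw [h0, coeff_zero] at h2
        exact Finset.prod_ne_zero_iff.2 (fun a _ => inv_ne_zero (hmm0 a)) h2.symm
      have hne' : C (mm j)⁻¹ * (Polynomial.X - C (vv j)) ≠ 0 :=
        mul_ne_zero (C_ne_zero.2 (inv_ne_zero (hmm0 j))) (X_sub_C_ne_zero _)
      have hd1 : (C (mm j)⁻¹ * (Polynomial.X - C (vv j))).natDegree = 1 := by
        rw [natDegree_C_mul (inv_ne_zero (hmm0 j)), natDegree_X_sub_C]
      refine ⟨by rw [e, natDegree_mul hne hne', ih.1, hd1], ?_⟩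
      rw [e, coeff_mul_add_eq_of_natDegree_le ih.1.le hd1.le, ih.2, Finset.prod_range_succ]
      simp [coeff_C_mul, coeff_sub]
  set P : Matrix (Fin n) (Fin n) F := Matrix.of fun a j => (p j.val).coeff a.val with hP
  have hPz : ∀ a j : Fin n, j < a → P a j = 0 := fun a j h =>
    coeff_eq_zero_of_natDegree_lt (lt_of_eq_of_lt (hpdeg _).1 (Fin.lt_def.1 h))
  have hPdet : P.det = P0 := by
    rw [Matrix.det_of_isUpperTriangular (fun a b h => hPz a b h), hP0]
    exact Finset.prod_congr rfl fun j _ => (hpdeg j.val).2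
  obtain ⟨Pu, hPu⟩ := exists_GL (S := P) (by rw [hPdet]; exact hP00)
  obtain ⟨Cf, hCf⟩ := exists_GL (S := comp n f) (by
    rw [Matrix.det_eq_sign_charpoly_coeff, comp_charpoly Y.1.charpoly_monic (hdeg _),
      ← Matrix.det_eq_sign_charpoly_coeff]
    exact GeneralLinearGroup.det_ne_zero Y)
  have hCfp : Cf.1.charpoly = f := by rw [hCf, comp_charpoly Y.1.charpoly_monic (hdeg _)]
  set H : GL (Fin n) F := Pu⁻¹ * Cf * Pu with hH
  have hkey : ∀ q : F[X], q.natDegree < n → (fun a : Fin n => q.coeff a.val) = aeval (comp n f) q *ᵥ e0 := by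
    intro q hq
    rw [← kry_mulVec _ _ q hq]
    have : kry (comp n f) e0 = 1 :=
      Matrix.ext_of_mulVec_single fun j => by rw [kry_single, comp_pow_single f hn0 j, one_mulVec]
    rw [this, one_mulVec]
  have hPcol : ∀ j : Fin n, P *ᵥ Pi.single j 1 = aeval (comp n f) (p j.val) *ᵥ e0 := by
    intro j
    rw [← hkey _ (by rw [(hpdeg _).1]; exact j.isLt)]
    funext a
    simp [hP, mulVec_single_one]
  have hHcol : ∀ (j : Fin n) (hj : j.val + 1 < n),
      H.1 *ᵥ Pi.single j 1 = li j • Pi.single (⟨j.val + 1, hj⟩ : Fin n) 1 + vv j.val • Pi.single j 1 := by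
    intro j hj
    have h1 : (Cf.1 * Pu.1) *ᵥ Pi.single j 1 =
        Pu.1 *ᵥ (li j • Pi.single (⟨j.val + 1, hj⟩ : Fin n) 1 + vv j.val • Pi.single j 1) := by
      rw [← mulVec_mulVec, hPu, hCf, hPcol, mulVec_add, mulVec_smul, mulVec_smul, hPcol, hPcol, mulVec_mulVec,
        ← smul_mulVec, ← smul_mulVec, ← add_mulVec]
      congr 1
      have e : p (j.val + 1) = p j.val * (C (mm j.val)⁻¹ * (Polynomial.X - C (vv j.val))) :=
        Finset.prod_range_succ _ _
      have e2 : Polynomial.X * p j.val = C (li j) * p (j.val + 1) + C (vv j.val) * p j.val := by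
        rw [e, ← hmm' j, ← mul_assoc (p j.val), mul_comm (p j.val) (C _), ← mul_assoc, ← mul_assoc, ← C_mul,
          mul_inv_cancel₀ (hmm0 _), C_1]
        ring
      have e3 := congrArg (aeval (comp n f)) e2
      rw [map_mul, map_add, map_mul, map_mul, aeval_X, aeval_C, aeval_C, ← Algebra.smul_def,
        ← Algebra.smul_def] at e3
      exact e3
    have h2 := congrArg ((Pu⁻¹).1 *ᵥ ·) h1
    simp only [mulVec_mulVec, ← mul_assoc, Units.inv_mul, one_mulVec] at h2
    rw [hH, Units.val_mul, Units.val_mul]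
    exact h2
  have hPe0 : Pu.1 *ᵥ e0 = e0 := by
    rw [hPu, he0, hPcol]
    simp only [hp, Finset.range_zero, Finset.prod_empty, map_one, one_mulVec, he0]
  have hkH : (kry H.1 e0).det = P0⁻¹ := by
    have hcomm : ∀ a : ℕ, Pu.1 * H.1 ^ a = Cf.1 ^ a * Pu.1 := by
      intro a
      induction a with
      | zero => simp
      | succ a ih =>
        rw [pow_succ, ← mul_assoc, ih, mul_assoc, pow_succ, mul_assoc, ← Units.val_mul, ← Units.val_mul]
        congr 2
        rw [hH]; group
    have : kry H.1 e0 = (Pu⁻¹).1 := by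
      refine Matrix.ext_of_mulVec_single fun j => ?_
      rw [kry_single]
      have h3 := congrArg (fun M => (Pu⁻¹).1 *ᵥ (M *ᵥ e0)) (hcomm j.val)
      simp only [← mulVec_mulVec, hPe0] at h3
      rw [mulVec_mulVec, Units.inv_mul, one_mulVec] at h3
      rw [h3, hCf, he0, comp_pow_single f hn0 j]
    rw [this, Matrix.coe_units_inv, Matrix.det_nonsing_inv, Ring.inverse_eq_inv', hPu, hPdet]
  have hHp : H.1.charpoly = f := by
    rw [hH, Units.val_mul, Units.val_mul, ← hCfp, Matrix.charpoly_mul_comm, ← mul_assoc, Units.mul_inv,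
      one_mul]
  obtain ⟨S, hS, hSd⟩ := exists_similar (X := H) (Y := Y) (v := e0) (by rw [Cyc, hkH]; exact inv_ne_zero hP00) hwY hHp
  rw [hkH, ← hkY] at hSd
  -- the triangular factor
  set M : GL (Fin n) F := G0⁻¹ * H with hM
  have hGs : ∀ (a : Fin n) (ha : a.val + 1 < n),
      (G0⁻¹).1 *ᵥ Pi.single (⟨a.val + 1, ha⟩ : Fin n) 1 = Pi.single a 1 := by
    intro a ha
    rw [← comp_single gG (i := a) (j := ⟨a.val + 1, ha⟩) rfl, ← hG0, mulVec_mulVec, Units.inv_mul, one_mulVec]
  have hMcol : ∀ (j : Fin n), j.val + 1 < n → ∀ a : Fin n,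
      M.1 a j = (if a = j then li j else 0) + if a.val + 1 = j.val then v a.val else 0 := by
    intro j hj a
    have h1 : M.1 *ᵥ Pi.single j 1 = li j • Pi.single j 1 + vv j.val • ((G0⁻¹).1 *ᵥ Pi.single j 1) := by
      rw [hM, Units.val_mul, ← mulVec_mulVec, hHcol j hj, mulVec_add, mulVec_smul, mulVec_smul, hGs]
    have h2 := congrFun h1 a
    rw [mulVec_single_one] at h2
    rw [Matrix.col_apply] at h2
    rw [h2, Pi.add_apply]
    congr 1
    · simp [Pi.single_apply]
    · rcases Nat.eq_zero_or_pos j.val with h | h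
      · simp [hvv, h]
      · set j' : Fin n := ⟨j.val - 1, by omega⟩
        have e := hGs j' (by simp [j']; omega)
        rw [show (⟨j'.val + 1, _⟩ : Fin n) = j from Fin.ext (by simp [j']; omega)] at e
        rw [Pi.smul_apply, e, Pi.single_apply, hvv]
        by_cases ha : a.val + 1 = j.val
        · rw [if_pos (Fin.ext (by simp [j']; omega)), if_pos ha]
          simp [show j.val ≠ 0 by omega, show j.val - 1 = a.val by omega]
        · rw [if_neg ha, if_neg (fun e' => ha (by rw [e']; simp [j']; omega))]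
          simp
  have hMz : ∀ a b : Fin n, b < a → M.1 a b = 0 := by
    intro a b h
    have h' := Fin.lt_def.1 h
    have := a.isLt
    rw [hMcol b (by omega) a, if_neg (ne_of_lt h).symm, if_neg (by omega), add_zero]
  set last : Fin n := ⟨n - 1, by omega⟩ with hlast
  have hMlast : M.1 last last = li last := by
    have h1 : M.1.det = ∏ j, li j := by
      rw [hM, Units.val_mul, det_mul, Matrix.coe_units_inv, Matrix.det_nonsing_inv, Ring.inverse_eq_inv',
        hdetG0, Matrix.det_eq_sign_charpoly_coeff H.1, hHp, hf, ← Matrix.det_eq_sign_charpoly_coeff]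
      have := congrArg Units.val hdet
      rw [Units.val_mul, det_val, det_val, det_val, hdetX] at this
      rw [this, _root_.mul_inv_rev, mul_assoc, inv_mul_cancel₀ (GeneralLinearGroup.det_ne_zero Y), mul_one]
      simp [hli]
    rw [Matrix.det_of_isUpperTriangular (fun a b h => hMz a b h),
      ← Finset.mul_prod_erase _ _ (Finset.mem_univ last), ← Finset.mul_prod_erase _ li (Finset.mem_univ last),
      Finset.prod_congr rfl (fun j hj => by
        have hne := (Finset.mem_erase.1 hj).1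
        have hjl := j.isLt
        have : j.val ≠ n - 1 := fun e => hne (Fin.ext e)
        rw [hMcol j (by omega) j, if_pos rfl, if_neg (by omega), add_zero] : ∀ j ∈ Finset.univ.erase last,
          M.1 j j = li j)] at h1
    exact mul_right_cancel₀ (Finset.prod_ne_zero_iff.2 fun j _ => by simpa [hli] using hl0 j) h1
  have hMd : ∀ j, M.1 j j = li j := by
    intro j
    by_cases h : j = last
    · rw [h, hMlast]
    · have : j.val ≠ n - 1 := fun e => h (Fin.ext e)
      have := j.isLt
      rw [hMcol j (by omega) j, if_pos rfl, if_neg (by omega), add_zero]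
  have hMs : ∀ a b : Fin n, a.val + 1 = b.val → M.1 a b = v a.val := by
    intro a b hab
    by_cases hb : b.val + 1 < n
    · rw [hMcol b hb a, if_neg (fun e => by rw [e] at hab; omega), if_pos hab, zero_add]
    have hbl : b = last := Fin.ext (by have := b.isLt; simp [hlast]; omega)
    subst hbl
    have hHM : H.1 = G0.1 * M.1 := by rw [hM, ← Units.val_mul, mul_inv_cancel_left]
    have ha : a.val = n - 2 := by simp [hlast] at hab; omega
    have h1 : H.1 last last = M.1 a last + li last * -gG.coeff (n - 1) := by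
      rw [hHM, Matrix.mul_apply, Finset.sum_eq_add a last (fun e => by rw [e] at hab; omega)]
      · rw [hMlast, hG0]
        simp [comp, hlast, show a.val + 1 < n by omega, show n - 1 = a.val + 1 by omega, mul_comm,
          show ¬(a.val + 1 + 1 < n) by omega]
      · intro x _ hx
        have hx1 : x.val ≠ n - 2 := fun e => hx.1 (Fin.ext (by omega))
        have hx2 : x.val ≠ n - 1 := fun e => hx.2 (Fin.ext e)
        have := x.isLt
        simp [hG0, comp, hlast, show x.val + 1 < n by omega, show ¬(n - 1 = x.val + 1) by omega]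
      · simp
      · simp
    have hHd : ∀ j : Fin n, j ≠ last → H.1 j j = vv j.val := by
      intro j hj
      have : j.val ≠ n - 1 := fun e => hj (Fin.ext e)
      have := j.isLt
      have h2 := congrFun (hHcol j (by omega)) j
      rw [mulVec_single_one, Matrix.col_apply] at h2
      rw [h2]
      simp [Fin.ext_iff]
    have h2 : H.1.trace = -f.coeff (n - 1) := by
      haveI : Nonempty (Fin n) := ⟨last⟩
      have := Matrix.trace_eq_neg_charpoly_coeff H.1
      rw [Fintype.card_fin, hHp] at this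
      exact this
    have h5 : ∑ j : Fin n, vv j.val = ∑ x ∈ Finset.range (n - 1), v x := by
      rw [Fin.sum_univ_eq_sum_range (fun x => vv x), show n = n - 1 + 1 by omega, Finset.sum_range_succ']
      simp [hvv]
    rw [Matrix.trace, ← Finset.add_sum_erase _ _ (Finset.mem_univ last)] at h2
    simp only [Matrix.diag_apply] at h2
    rw [Finset.sum_congr rfl fun j hj => hHd j (Finset.mem_erase.1 hj).1, h1] at h2
    rw [← Finset.add_sum_erase _ _ (Finset.mem_univ last), hvs, hc] at h5
    have h6 : vv last.val = v a.val := by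
      rw [hvv]; simp [hlast, show n - 1 ≠ 0 by omega, show n - 1 - 1 = a.val by omega]
    linear_combination h2 - h5 + h6
  obtain ⟨Sv, hSv, hSvd⟩ := upper_normal (N := M.1) (v := v) hMz hMd hl.inv hMs (fun a _ => hv0 a)
  have hMc : M = Sv * Bi * Sv⁻¹ := eq_conj' (by rw [hBi]; exact hSv)
  set R : GL (Fin n) F := Sv * (S0 * S1)⁻¹ with hR
  have hMi : M⁻¹ = R * X * R⁻¹ := by
    have : Bl = S1 * Bi⁻¹ * S1⁻¹ := by rw [← inv_inv Bl, hBinv]; group
    rw [hMc, hR, hS0, this]; group
  have hdR : (GeneralLinearGroup.det R : F) =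
      (∏ a ∈ Finset.range (n - 1), v a ^ (a + 1)) / (GeneralLinearGroup.det (S0 * S1) : F) := by
    rw [hR, map_mul (GeneralLinearGroup.det) Sv, map_inv, Units.val_mul, Units.val_inv_eq_inv_val, hSvd,
      div_eq_mul_inv]
  -- relative determinant
  obtain ⟨Z, hZ, hZd⟩ : ∃ Z : GL (Fin n) F, (∀ g, Z * g = g * Z) ∧
      GeneralLinearGroup.det (S⁻¹ * R * Z⁻¹) ∈ K := by
    rcases hvp with h | ⟨b, hb, hvb⟩
    · exact ⟨1, fun g => by group, h ▸ Subgroup.mem_top _⟩
    obtain ⟨Z, hZd, hZ⟩ := scalar_GL (n := n) hb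
    refine ⟨Z, hZ, ?_⟩
    have : GeneralLinearGroup.det (S⁻¹ * R * Z⁻¹) = 1 := by
      refine Units.ext ?_
      have hs0 : (GeneralLinearGroup.det S : F) = P0⁻¹ / kY := by rw [eq_div_iff hwY]; exact hSd
      rw [map_mul, map_mul, map_inv, map_inv, Units.val_mul, Units.val_mul, Units.val_inv_eq_inv_val,
        Units.val_inv_eq_inv_val, hdR, hvb, hZd, hs0, hr, Units.val_one]
      have := Units.ne_zero (GeneralLinearGroup.det (S0 * S1))
      have hk : kY ≠ 0 := hwY
      field_simp
    rw [this]; exact K.one_mem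
  set Q : GL (Fin n) F := S⁻¹ * R * Z⁻¹ with hQ
  have hQX : Q * X * Q⁻¹ = S⁻¹ * M⁻¹ * S := by
    have hz : Z⁻¹ * X * Z = X := by rw [mul_assoc, ← hZ X, inv_mul_cancel_left]
    rw [hQ, hMi, show S⁻¹ * R * Z⁻¹ * X * (S⁻¹ * R * Z⁻¹)⁻¹ = S⁻¹ * R * (Z⁻¹ * X * Z) * R⁻¹ * S by group, hz]
    group
  have hone := One.mul hY (hX.conj (S := Q) hZd)
  have hprod : Y * (Q * X * Q⁻¹) = S⁻¹ * G0 * S := by
    rw [hQX, hM, hS]; group
  rw [hprod] at hone
  have hF0 : Full K (S⁻¹ * G0 * S) := by
    have h := hF.conj ((SG * S)⁻¹)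
    rwa [show (SG * S)⁻¹ * G * (SG * S)⁻¹⁻¹ = S⁻¹ * G0 * S by rw [hSG]; group] at h
  have hcls := hone.cls hF0
  have h := hcls.conj (SG * S)
  rwa [show SG * S * (S⁻¹ * G0 * S) * (SG * S)⁻¹ = G by rw [hSG]; group] at h

end Cfsg.Agent.Lib.LevCover
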