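import Cfsg.Agent.Lib.LevCover.Block

/-!
Two by two blocks, and gluing a block on top of a triangular pair.
-/

set_option autoImplicit false

namespace Cfsg.Agent.Lib.LevCover

open Matrix Polynomial

variable {F : Type*} [Field F]

/-- The two by two companion matrix. -/
def cmp2 (t d : F) : Matrix (Fin 2) (Fin 2) F := !![0, -d; 1, t]

/-- The values usable on a two by two block. -/
def OK2 (t d x : F) : Prop := x ≠ 0 ∧ (x * x ≠ d * d ∨ t * (x - d) ≠ 0)

theorem block_two {t d x : F} (hd : d ≠ 0) (hx : OK2 t d x) :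
    ∃ (T : GL (Fin 2) F) (X : Matrix (Fin 2) (Fin 2) F),
      X = T.1 * cmp2 t d * (T⁻¹).1 * cmp2 t d ∧ (∀ i j : Fin 2, j < i → X i j = 0) ∧
      (X 0 0 = x ∧ X 1 1 = d * d / x) ∧ KerLine X ∧ RightSafe (cmp2 t d) X x ∧
      (∀ μ, (μ ≠ x ∨ x * x = d * d) → LeftSafe (T.1 * cmp2 t d * (T⁻¹).1) X μ) := by
  obtain ⟨hx0, hxy⟩ := hx
  let S : Matrix (Fin 2) (Fin 2) F := !![0, x; 1, 0]
  obtain ⟨T, hT⟩ : ∃ T : GL (Fin 2) F, T.1 = S :=
    ⟨GeneralLinearGroup.mkOfDetNeZero S (by simp [S, det_fin_two, hx0]), rfl⟩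
  have hTi : (T⁻¹).1 = !![0, 1; x⁻¹, 0] := by
    rw [Matrix.coe_units_inv, hT]
    refine Matrix.inv_eq_right_inv ?_
    simp [S, Matrix.one_fin_two, hx0]
  have hR : T.1 * cmp2 t d * (T⁻¹).1 = !![t, x; -d / x, 0] := by
    rw [hT, hTi]
    ext i j
    fin_cases i <;> fin_cases j <;> simp [S, cmp2, Matrix.mul_apply, Fin.sum_univ_two, hx0, div_eq_mul_inv, mul_comm, mul_left_comm]
  have hX : T.1 * cmp2 t d * (T⁻¹).1 * cmp2 t d = !![x, t * (x - d); 0, d * d / x] := by
    rw [hR]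
    ext i j
    fin_cases i <;> fin_cases j <;> simp [cmp2, Matrix.mul_apply, Fin.sum_univ_two, div_eq_mul_inv] <;> ring
  refine ⟨T, !![x, t * (x - d); 0, d * d / x], hX.symm, ?_, ⟨rfl, rfl⟩, ?_, ?_, ?_⟩
  · intro i j h
    fin_cases i <;> fin_cases j <;> simp_all
  · intro μ u w hu hXu hXw
    have e0 := congrFun hXu 0
    have e1 := congrFun hXu 1
    have f0 := congrFun hXw 0
    have f1 := congrFun hXw 1
    simp [Matrix.mulVec, dotProduct, Fin.sum_univ_two, -mul_eq_mul_right_iff, -mul_eq_mul_left_iff] at e0 e1 f0 f1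
    by_cases hu1 : u 1 = 0
    · have hu0 : u 0 ≠ 0 := fun h => hu (funext fun i => by fin_cases i <;> simp [h, hu1])
      have hμ : μ = x := by
        rw [hu1, mul_zero, add_zero] at e0
        exact (mul_right_cancel₀ hu0 e0).symm
      subst hμ
      have hw1 : w 1 = 0 := by
        by_contra hne
        have hyx : d * d / μ = μ := mul_right_cancel₀ hne f1
        have hdd : μ * μ = d * d := by rw [div_eq_iff hx0] at hyx; exact hyx.symm
        have hj : t * (μ - d) * w 1 = 0 := by linear_combination f0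
        exact (hxy.resolve_left (not_not.2 hdd)) ((mul_eq_zero.1 hj).resolve_right hne)
      exact ⟨w 0 / u 0, funext fun i => by fin_cases i <;> simp [hu1, hw1, div_mul_cancel₀ _ hu0]⟩
    · refine ⟨w 1 / u 1, ?_⟩
      have hμ : d * d / x = μ := mul_right_cancel₀ hu1 e1
      have hxμ : x - μ ≠ 0 := by
        intro h
        rw [sub_eq_zero] at h
        have hdd : x * x = d * d := by
          rw [← hμ, eq_div_iff hx0] at h; exact h
        have hj : t * (x - d) * u 1 = 0 := by linear_combination e0 - u 0 * h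
        exact (hxy.resolve_left (not_not.2 hdd)) ((mul_eq_zero.1 hj).resolve_right hu1)
      funext i
      fin_cases i
      · simp only [Fin.zero_eta, Pi.smul_apply, smul_eq_mul]
        rw [div_mul_eq_mul_div, eq_div_iff hu1]
        apply mul_left_cancel₀ hxμ
        linear_combination u 1 * f0 - w 1 * e0
      · simp [div_mul_cancel₀ _ hu1]
  · intro w c hw hXw hCw
    have f1 := congrFun hXw 1
    have f0 := congrFun hXw 0
    have g1 := congrFun hCw 1
    simp [cmp2, Matrix.mulVec, dotProduct, Fin.sum_univ_two, -mul_eq_mul_right_iff, -mul_eq_mul_left_iff] at f0 f1 g1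
    have hw1 : w 1 = 0 := by
      by_contra hne
      have hyx : d * d / x = x := mul_right_cancel₀ hne f1
      have hdd : x * x = d * d := by rw [div_eq_iff hx0] at hyx; exact hyx.symm
      have hj : t * (x - d) * w 1 = 0 := by rcases f0 with (h | h) | h <;> simp [h]
      exact (hxy.resolve_left (not_not.2 hdd)) ((mul_eq_zero.1 hj).resolve_right hne)
    rw [hw1] at g1
    exact hw (funext fun i => by fin_cases i <;> simp_all)
  · intro μ hμ ψ l hψ hψX hψR
    rw [hR] at hψR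
    have e0 := congrFun hψX 0
    have e1 := congrFun hψX 1
    have g1 := congrFun hψR 1
    have g0 := congrFun hψR 0
    simp [Matrix.vecMul, dotProduct, Fin.sum_univ_two, -mul_eq_mul_right_iff, -mul_eq_mul_left_iff] at e0 e1 g0 g1
    have h0 : ψ 0 = 0 := by
      by_contra hne
      have hμx : μ = x := mul_left_cancel₀ hne (by linear_combination -e0)
      have hdd : x * x = d * d := hμ.resolve_left (not_not.2 hμx)
      subst hμx
      have hj : t * (μ - d) * ψ 0 = 0 := by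
        have : d * d / μ = μ := by rw [← hdd, mul_div_assoc, div_self hx0, mul_one]
        rw [this] at e1
        linear_combination e1
      exact (hxy.resolve_left (not_not.2 hdd)) ((mul_eq_zero.1 hj).resolve_right hne)
    have h1 : ψ 1 = 0 := by
      simp [h0, hd, hx0] at g0
      exact g0
    exact hψ (funext fun i => by fin_cases i <;> simp [h0, h1])

/-- `[[A, C], [0, D]]`. -/
def glue {m k : ℕ} (A : Matrix (Fin m) (Fin m) F) (C : Matrix (Fin m) (Fin k) F)
    (D : Matrix (Fin k) (Fin k) F) : Matrix (Fin (m + k)) (Fin (m + k)) F :=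
  Matrix.reindex finSumFinEquiv finSumFinEquiv (Matrix.fromBlocks A C 0 D)

section basic

variable {m k : ℕ} (A A' : Matrix (Fin m) (Fin m) F) (C C' : Matrix (Fin m) (Fin k) F)
  (D D' : Matrix (Fin k) (Fin k) F)

theorem glue_mul : glue A C D * glue A' C' D' = glue (A * A') (A * C' + C * D') (D * D') := by
  simp [glue, Matrix.fromBlocks_multiply, Matrix.submatrix_mul_equiv]

theorem glue_one : glue (1 : Matrix (Fin m) (Fin m) F) 0 (1 : Matrix (Fin k) (Fin k) F) = 1 := by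
  simp [glue, Matrix.fromBlocks_one]

theorem glue_det : (glue A C D).det = A.det * D.det := by
  simp [glue, Matrix.det_submatrix_equiv_self]

theorem glue_mulVec (u : Fin m → F) (z : Fin k → F) :
    glue A C D *ᵥ Fin.append u z = Fin.append (A *ᵥ u + C *ᵥ z) (D *ᵥ z) := by
  funext i
  refine Fin.addCases (fun i => ?_) (fun i => ?_) i <;>
    simp only [glue, Matrix.mulVec, dotProduct, Fin.sum_univ_add, Matrix.reindex_apply, Matrix.submatrix_apply,
      finSumFinEquiv_symm_apply_castAdd, finSumFinEquiv_symm_apply_natAdd, Fin.append_left, Fin.append_right,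
      Matrix.fromBlocks_apply₁₁, Matrix.fromBlocks_apply₁₂, Matrix.fromBlocks_apply₂₁, Matrix.fromBlocks_apply₂₂,
      Matrix.zero_apply, zero_mul, Finset.sum_const_zero, zero_add, Pi.add_apply]

theorem glue_castAdd (i j : Fin m) : glue A C D (Fin.castAdd k i) (Fin.castAdd k j) = A i j := by
  simp only [glue, Matrix.reindex_apply, Matrix.submatrix_apply, finSumFinEquiv_symm_apply_castAdd,
    Matrix.fromBlocks_apply₁₁]

theorem glue_natAdd (i j : Fin k) : glue A C D (Fin.natAdd m i) (Fin.natAdd m j) = D i j := by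
  simp only [glue, Matrix.reindex_apply, Matrix.submatrix_apply, finSumFinEquiv_symm_apply_natAdd,
    Matrix.fromBlocks_apply₂₂]

theorem glue_natAdd_castAdd (i : Fin k) (j : Fin m) : glue A C D (Fin.natAdd m i) (Fin.castAdd k j) = 0 := by
  simp only [glue, Matrix.reindex_apply, Matrix.submatrix_apply, finSumFinEquiv_symm_apply_natAdd,
    finSumFinEquiv_symm_apply_castAdd, Matrix.fromBlocks_apply₂₁, Matrix.zero_apply]

theorem glue_castAdd_natAdd (i : Fin m) (j : Fin k) : glue A C D (Fin.castAdd k i) (Fin.natAdd m j) = C i j := by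
  simp only [glue, Matrix.reindex_apply, Matrix.submatrix_apply, finSumFinEquiv_symm_apply_natAdd,
    finSumFinEquiv_symm_apply_castAdd, Matrix.fromBlocks_apply₁₂]

theorem glue_upper (hA : ∀ i j, j < i → A i j = 0) (hD : ∀ i j, j < i → D i j = 0) :
    ∀ i j, j < i → glue A C D i j = 0 := by
  intro i j h
  revert h
  refine Fin.addCases (fun i => ?_) (fun i => ?_) i <;> refine Fin.addCases (fun j => ?_) (fun j => ?_) j <;>
    intro h
  · rw [glue_castAdd]
    have h' := Fin.lt_def.1 h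
    simp only [Fin.val_castAdd] at h'
    exact hA i j (Fin.lt_def.2 h')
  · exfalso
    have := i.isLt
    have h' := Fin.lt_def.1 h
    simp only [Fin.val_castAdd, Fin.val_natAdd] at h'
    omega
  · rw [glue_natAdd_castAdd]
  · rw [glue_natAdd]
    have h' := Fin.lt_def.1 h
    simp only [Fin.val_natAdd] at h'
    exact hD i j (Fin.lt_def.2 (by omega))

theorem glue_charpoly : (glue A C D).charpoly = A.charpoly * D.charpoly := by
  rw [glue, Matrix.charpoly_reindex, Matrix.charpoly_fromBlocks_zero₂₁]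

end basic

/-- The unit `[[1, Y], [0, 1]]`. -/
def shiftGL {m k : ℕ} (Y : Matrix (Fin m) (Fin k) F) : GL (Fin (m + k)) F where
  val := glue 1 Y 1
  inv := glue 1 (-Y) 1
  val_inv := by rw [glue_mul]; simp [glue_one]
  inv_val := by rw [glue_mul]; simp [glue_one]

/-- The unit `[[P, 0], [0, Q]]`. -/
def diagGL {m k : ℕ} (P : GL (Fin m) F) (Q : GL (Fin k) F) : GL (Fin (m + k)) F where
  val := glue P.1 0 Q.1
  inv := glue (P⁻¹).1 0 (Q⁻¹).1
  val_inv := by rw [glue_mul]; simp [glue_one]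
  inv_val := by rw [glue_mul]; simp [glue_one]

theorem det_shiftGL {m k : ℕ} (Y : Matrix (Fin m) (Fin k) F) :
    GeneralLinearGroup.det (shiftGL Y) = 1 :=
  Units.ext (by rw [GeneralLinearGroup.val_det_apply, shiftGL, glue_det]; simp)

theorem det_diagGL {m k : ℕ} (P : GL (Fin m) F) (Q : GL (Fin k) F) :
    GeneralLinearGroup.det (diagGL P Q) = GeneralLinearGroup.det P * GeneralLinearGroup.det Q :=
  Units.ext (by simp [GeneralLinearGroup.val_det_apply, diagGL, glue_det])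

open scoped Classical in
theorem avoid_affine {V : Type*} [AddCommGroup V] [Module F V] (h4 : Four F) (c : Fin 3 → F)
    (φ : Fin 3 → (V →ₗ[F] F)) : ∃ Y : V, ∀ i, φ i ≠ 0 → c i + φ i Y ≠ 0 := by
  have hz : ∀ i, φ i ≠ 0 → ∃ z, φ i z = 1 := fun i hi => by
    obtain ⟨z, hz⟩ : ∃ z, φ i z ≠ 0 := by
      by_contra h
      push Not at h
      exact hi (LinearMap.ext fun z => by simpa using h z)
    exact ⟨(φ i z)⁻¹ • z, by rw [map_smul, smul_eq_mul, inv_mul_cancel₀ hz]⟩
  have step : ∀ (i : Fin 3) (Y : V), φ i ≠ 0 → ∀ (j l : Fin 3),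
      (φ j ≠ 0 → c j + φ j Y ≠ 0) → (φ l ≠ 0 → c l + φ l Y ≠ 0) →
      ∃ Y', (φ i ≠ 0 → c i + φ i Y' ≠ 0) ∧ (φ j ≠ 0 → c j + φ j Y' ≠ 0) ∧ (φ l ≠ 0 → c l + φ l Y' ≠ 0) := by
    intro i Y hi j l hj hl
    obtain ⟨z, hz1⟩ := hz i hi
    obtain ⟨t, h1, h2, h3⟩ := h4 (-(c i + φ i Y))
      (if φ j z = 0 then -(c i + φ i Y) else -(c j + φ j Y) / φ j z)
      (if φ l z = 0 then -(c i + φ i Y) else -(c l + φ l Y) / φ l z)
    refine ⟨Y + t • z, fun _ h => h1 ?_, fun hj' h => ?_, fun hl' h => ?_⟩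
    · rw [map_add, map_smul, hz1, smul_eq_mul, mul_one] at h
      linear_combination h
    · rw [map_add, map_smul, smul_eq_mul] at h
      by_cases h0 : φ j z = 0
      · exact hj hj' (by rw [h0] at h; linear_combination h)
      · refine h2 ?_
        rw [if_neg h0, eq_div_iff h0]
        linear_combination h
    · rw [map_add, map_smul, smul_eq_mul] at h
      by_cases h0 : φ l z = 0
      · exact hl hl' (by rw [h0] at h; linear_combination h)
      · refine h3 ?_
        rw [if_neg h0, eq_div_iff h0]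
        linear_combination h
  obtain ⟨Y0, hY0⟩ : ∃ Y, φ 0 ≠ 0 → c 0 + φ 0 Y ≠ 0 := by
    by_cases h : φ 0 = 0
    · exact ⟨0, fun h' => absurd h h'⟩
    · obtain ⟨z, hz1⟩ := hz 0 h
      exact ⟨(1 - c 0) • z, fun _ => by simp [hz1]⟩
  obtain ⟨Y1, hY1, hY1'⟩ : ∃ Y, (φ 0 ≠ 0 → c 0 + φ 0 Y ≠ 0) ∧ (φ 1 ≠ 0 → c 1 + φ 1 Y ≠ 0) := by
    by_cases h : φ 1 = 0
    · exact ⟨Y0, hY0, fun h' => absurd h h'⟩
    · obtain ⟨Y, h1, h2, -⟩ := step 1 Y0 h 0 0 hY0 hY0
      exact ⟨Y, h2, h1⟩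
  by_cases h : φ 2 = 0
  · refine ⟨Y1, fun i => ?_⟩
    fin_cases i
    · exact hY1
    · exact hY1'
    · exact fun h' => absurd h h'
  · obtain ⟨Y, h1, h2, h3⟩ := step 2 Y1 h 0 1 hY1 hY1'
    refine ⟨Y, fun i => ?_⟩
    fin_cases i
    · exact h2
    · exact h3
    · exact h1

/-- Gluing: the eigenspaces stay lines for a suitable conjugator. -/
theorem glue_pair (h4 : Four F) {m k : ℕ} {A1 : Matrix (Fin m) (Fin m) F} {A' : Matrix (Fin k) (Fin k) F}
    (C0 : Matrix (Fin m) (Fin k) F) {Ta : GL (Fin m) F} {T' : GL (Fin k) F}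
    {Xa : Matrix (Fin m) (Fin m) F} {X' : Matrix (Fin k) (Fin k) F}
    (hXa : Xa = Ta.1 * A1 * (Ta⁻¹).1 * A1) (hX' : X' = T'.1 * A' * (T'⁻¹).1 * A') (hA1 : A1.det ≠ 0)
    (hza : ∀ i j, j < i → Xa i j = 0) (hz' : ∀ i j, j < i → X' i j = 0)
    (ha : KerLine Xa) (h' : KerLine X') (S : Fin 3 → F) (hS : ∀ i, ∃ s, Xa i i = S s)
    (hsafe : ∀ s, LeftSafe (Ta.1 * A1 * (Ta⁻¹).1) Xa (S s) ∨ RightSafe A' X' (S s)) :
    ∃ (T : GL (Fin (m + k)) F) (C : Matrix (Fin m) (Fin k) F),
      GeneralLinearGroup.det T = GeneralLinearGroup.det Ta * GeneralLinearGroup.det T' ∧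
      T.1 * glue A1 C0 A' * (T⁻¹).1 * glue A1 C0 A' = glue Xa C X' ∧
      (∀ i j, j < i → glue Xa C X' i j = 0) ∧ KerLine (glue Xa C X') := by
  classical
  set R := Ta.1 * A1 * (Ta⁻¹).1 with hR
  set R' := T'.1 * A' * (T'⁻¹).1 with hR'
  set C1 := Ta.1 * C0 * (T'⁻¹).1 with hC1
  let corner : Matrix (Fin m) (Fin k) F →ₗ[F] Matrix (Fin m) (Fin k) F :=
    { toFun := fun Y => (Y * R' - R * Y) * A'
      map_add' := fun a b => by rw [Matrix.add_mul a b R', Matrix.mul_add R a b, ← Matrix.add_mul (a * R' - R * a)]; congr 1; abel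
      map_smul' := fun c a => by rw [Matrix.smul_mul, Matrix.mul_smul, ← smul_sub, Matrix.smul_mul, RingHom.id_apply] }
  -- a covector and a vector for every value
  have hpick : ∀ s, ∃ (ψ : Fin m → F) (w : Fin k → F), (∃ ψ0, ψ0 ≠ 0 ∧ ψ0 ᵥ* Xa = S s • ψ0) →
      (∃ w0, w0 ≠ 0 ∧ X' *ᵥ w0 = S s • w0) →
      (ψ ≠ 0 ∧ ψ ᵥ* Xa = S s • ψ) ∧ w ≠ 0 ∧ X' *ᵥ w = S s • w := by
    intro s
    by_cases h1 : ∃ ψ0, ψ0 ≠ 0 ∧ ψ0 ᵥ* Xa = S s • ψ0
    · by_cases h2 : ∃ w0, w0 ≠ 0 ∧ X' *ᵥ w0 = S s • w0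
      · obtain ⟨ψ0, hψ⟩ := h1
        obtain ⟨w0, hw⟩ := h2
        exact ⟨ψ0, w0, fun _ _ => ⟨hψ, hw⟩⟩
      · exact ⟨0, 0, fun _ h => absurd h h2⟩
    · exact ⟨0, 0, fun h _ => absurd h h1⟩
  choose ψ w hψw using hpick
  let φ : Fin 3 → (Matrix (Fin m) (Fin k) F →ₗ[F] F) := fun s =>
    { toFun := fun Y => ψ s ⬝ᵥ (corner Y *ᵥ w s)
      map_add' := fun a b => by simp [add_mulVec, dotProduct_add]
      map_smul' := fun c a => by simp [smul_mulVec, dotProduct_smul] }
  obtain ⟨Y, hY⟩ := avoid_affine h4 (fun s => ψ s ⬝ᵥ ((R * C0 + C1 * A') *ᵥ w s)) φ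
  refine ⟨shiftGL Y * diagGL Ta T', R * C0 + (C1 + (Y * R' - R * Y)) * A', ?_, ?_,
    glue_upper _ _ _ hza hz', ?_⟩
  · rw [map_mul, det_shiftGL, det_diagGL, one_mul]
  · rw [_root_.mul_inv_rev, Units.val_mul, Units.val_mul, hXa, hX']
    show glue 1 Y 1 * glue Ta.1 0 T'.1 * glue A1 C0 A' *
      (glue (Ta⁻¹).1 0 (T'⁻¹).1 * glue 1 (-Y) 1) * glue A1 C0 A' = _
    simp only [glue_mul]
    congr 1
    · simp [hR, mul_assoc]
    · simp [hR, hR', hC1, Matrix.add_mul, Matrix.mul_add, sub_eq_add_neg, Matrix.mul_assoc, Matrix.neg_mul, Matrix.mul_neg]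
      abel
    · simp [hR', mul_assoc]
  · intro μ u v hu hMu hMv
    set C := R * C0 + (C1 + (Y * R' - R * Y)) * A' with hC
    have hsplit : ∀ z : Fin (m + k) → F, ∃ z1 z2, z = Fin.append z1 z2 := fun z =>
      ⟨fun i => z (Fin.castAdd k i), fun i => z (Fin.natAdd m i), (Fin.append_castAdd_natAdd).symm⟩
    obtain ⟨u1, u2, rfl⟩ := hsplit u
    obtain ⟨v1, v2, rfl⟩ := hsplit v
    have hsm : ∀ (c : F) (z1 : Fin m → F) (z2 : Fin k → F),
        c • Fin.append z1 z2 = Fin.append (c • z1) (c • z2) := fun c z1 z2 => by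
      funext i; refine Fin.addCases (fun i => ?_) (fun i => ?_) i <;> simp
    have happ : ∀ (a1 b1 : Fin m → F) (a2 b2 : Fin k → F), Fin.append a1 a2 = Fin.append b1 b2 →
        a1 = b1 ∧ a2 = b2 := fun a1 b1 a2 b2 h =>
      ⟨funext fun i => by simpa using congrFun h (Fin.castAdd k i),
       funext fun i => by simpa using congrFun h (Fin.natAdd m i)⟩
    rw [glue_mulVec, hsm] at hMu hMv
    obtain ⟨hu1, hu2⟩ := happ _ _ _ _ hMu
    obtain ⟨hv1, hv2⟩ := happ _ _ _ _ hMv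
    -- a bottom part forces `μ` off the spectrum of `Xa`
    have key : ∀ (z1 : Fin m → F) (z2 : Fin k → F), z2 ≠ 0 → Xa *ᵥ z1 + C *ᵥ z2 = μ • z1 →
        X' *ᵥ z2 = μ • z2 → ∀ y, Xa *ᵥ y = μ • y → y = 0 := by
      intro z1 z2 hz hz1 hz2 y hy
      by_contra hy0
      obtain ⟨ψ0, hψ0, hψ0X⟩ : ∃ ψ0, ψ0 ≠ 0 ∧ ψ0 ᵥ* Xa = μ • ψ0 := by
        have hd : (Xa - μ • (1 : Matrix (Fin m) (Fin m) F)).det = 0 :=
          Matrix.exists_mulVec_eq_zero_iff.1 ⟨y, hy0, by rw [sub_mulVec, smul_mulVec, one_mulVec, hy, sub_self]⟩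
        obtain ⟨ψ0, h1, h2⟩ := Matrix.exists_vecMul_eq_zero_iff.2 hd
        refine ⟨ψ0, h1, ?_⟩
        rw [vecMul_sub, vecMul_smul, vecMul_one, sub_eq_zero] at h2
        exact h2
      obtain ⟨i, hi⟩ : ∃ i, Xa i i = μ := by
        by_contra hne
        push Not at hne
        refine hy0 ?_
        have hd : (Xa - μ • (1 : Matrix (Fin m) (Fin m) F)).det ≠ 0 := by
          rw [Matrix.det_of_isUpperTriangular]
          · exact Finset.prod_ne_zero_iff.2 fun i _ => by simpa [sub_eq_zero] using hne i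
          · intro a b hab
            have hne' : a ≠ b := (ne_of_lt (show b < a from hab)).symm
            simp [hza a b hab, hne']
        by_contra hy'
        exact hd (Matrix.exists_mulVec_eq_zero_iff.1
          ⟨y, hy', by rw [sub_mulVec, smul_mulVec, one_mulVec, hy, sub_self]⟩)
      obtain ⟨s, hs⟩ := hS i
      rw [hi] at hs
      subst hs
      obtain ⟨⟨hψ, hψX⟩, hw, hwX⟩ := hψw s ⟨ψ0, hψ0, hψ0X⟩ ⟨z2, hz, hz2⟩
      have hRdet : R.det ≠ 0 := by
        rw [hR, det_mul, det_mul, mul_right_comm, ← det_mul, Units.mul_inv, det_one, one_mul]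
        exact hA1
      have hμ0 : S s ≠ 0 := by
        intro h0
        rw [h0, zero_smul] at hψX
        have hd : Xa.det ≠ 0 := by
          rw [hXa, det_mul]
          exact mul_ne_zero hRdet hA1
        exact hd (Matrix.exists_vecMul_eq_zero_iff.1 ⟨_, hψ, hψX⟩)
      have hφ : φ s ≠ 0 := by
        intro hφ0
        have h0 : ∀ Y : Matrix (Fin m) (Fin k) F, ψ s ⬝ᵥ ((Y * R' - R * Y) * A') *ᵥ w s = 0 := fun Y => LinearMap.congr_fun hφ0 Y
        have h1 : ∀ (z : Fin m → F) (η : Fin k → F),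
            S s * (ψ s ⬝ᵥ z) * (η ⬝ᵥ w s) = ((ψ s ᵥ* R) ⬝ᵥ z) * (η ⬝ᵥ (A' *ᵥ w s)) := by
          intro z η
          have h2 := h0 (vecMulVec z η)
          rw [Matrix.sub_mul, sub_mulVec, dotProduct_sub, sub_eq_zero, Matrix.mul_assoc (vecMulVec z η) R' A', Matrix.mul_assoc R, ← hX',
            ← mulVec_mulVec (w s) (vecMulVec z η) X', hwX, mulVec_smul,
            ← mulVec_mulVec (w s) R (vecMulVec z η * A'), ← mulVec_mulVec (w s) (vecMulVec z η) A',
            vecMulVec_mulVec, vecMulVec_mulVec] at h2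
          simp only [dotProduct_smul, smul_eq_mul, mulVec_smul, dotProduct_mulVec, op_smul_eq_smul] at h2
          rw [← dotProduct_mulVec η A' (w s)] at h2
          linear_combination h2
        have hRψ : ψ s ᵥ* R ≠ 0 := fun h => hRdet (Matrix.exists_vecMul_eq_zero_iff.1 ⟨_, hψ, h⟩)
        have hA'w : A' *ᵥ w s ≠ 0 := by
          intro h
          have : X' *ᵥ w s = 0 := by rw [hX', ← mulVec_mulVec, h, mulVec_zero]
          rw [hwX, smul_eq_zero] at this
          exact this.elim hμ0 hw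
        obtain ⟨z0, hz0⟩ : ∃ z, (ψ s ᵥ* R) ⬝ᵥ z ≠ 0 := by
          by_contra h; push Not at h
          exact hRψ (funext fun i => by simpa using h (Pi.single i 1))
        obtain ⟨η0, hη0⟩ : ∃ η, η ⬝ᵥ (A' *ᵥ w s) ≠ 0 := by
          by_contra h; push Not at h
          exact hA'w (funext fun i => by simpa using h (Pi.single i 1))
        rcases hsafe s with hl | hr
        · refine hl (ψ s) (S s * (η0 ⬝ᵥ w s) / (η0 ⬝ᵥ (A' *ᵥ w s))) hψ hψX (funext fun i => ?_)
          have h2 := h1 (Pi.single i 1) η0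
          simp at h2
          rw [Pi.smul_apply, smul_eq_mul, div_mul_eq_mul_div, eq_div_iff hη0]
          linear_combination -h2
        · refine hr (w s) (S s * (ψ s ⬝ᵥ z0) / ((ψ s ᵥ* R) ⬝ᵥ z0)) hw hwX (funext fun i => ?_)
          have h2 := h1 z0 (Pi.single i 1)
          simp at h2
          rw [Pi.smul_apply, smul_eq_mul, div_mul_eq_mul_div, eq_div_iff hz0]
          linear_combination -h2
      have hne := hY s hφ
      refine hne ?_
      obtain ⟨c, hc⟩ := h' (S s) z2 (w s) hz hz2 hwX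
      have h3 : ψ s ⬝ᵥ (C *ᵥ z2) = 0 := by
        have h4' := congrArg (ψ s ⬝ᵥ ·) hz1
        rw [dotProduct_add, dotProduct_mulVec, hψX, smul_dotProduct, dotProduct_smul] at h4'
        simpa using h4'
      show ψ s ⬝ᵥ ((R * C0 + C1 * A') *ᵥ w s) + ψ s ⬝ᵥ (((Y * R' - R * Y) * A') *ᵥ w s) = 0
      rw [← dotProduct_add, ← add_mulVec, add_assoc, ← Matrix.add_mul, ← hC, hc, mulVec_smul, dotProduct_smul, h3,
        smul_zero]
    by_cases hz : u2 = 0 ∧ v2 = 0
    · obtain ⟨rfl, rfl⟩ := hz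
      have hu0 : u1 ≠ 0 := fun h => hu (by subst h; funext i; refine Fin.addCases (fun i => ?_) (fun i => ?_) i <;> simp)
      rw [mulVec_zero, add_zero] at hu1 hv1
      obtain ⟨c, hc⟩ := ha μ u1 v1 hu0 hu1 hv1
      exact ⟨c, by rw [hsm, hc, smul_zero]⟩
    · obtain ⟨z1, z2, hz2, hzeq, hzeq'⟩ : ∃ z1 z2, z2 ≠ 0 ∧ Xa *ᵥ z1 + C *ᵥ z2 = μ • z1 ∧ X' *ᵥ z2 = μ • z2 := by
        by_cases h : u2 = 0
        · exact ⟨v1, v2, fun h0 => hz ⟨h, h0⟩, hv1, hv2⟩
        · exact ⟨u1, u2, h, hu1, hu2⟩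
      have hinj := key z1 z2 hz2 hzeq hzeq'
      have hu20 : u2 ≠ 0 := by
        rintro rfl
        rw [mulVec_zero, add_zero] at hu1
        have h0 := hinj u1 hu1
        subst h0
        exact hu (funext fun i => by refine Fin.addCases (fun i => ?_) (fun i => ?_) i <;> simp)
      obtain ⟨c, hc⟩ := h' μ u2 v2 hu20 hu2 hv2
      refine ⟨c, ?_⟩
      have h0 := hinj (v1 - c • u1) (by
        rw [mulVec_sub, mulVec_smul, eq_sub_of_add_eq hu1, eq_sub_of_add_eq hv1, hc, mulVec_smul]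
        module)
      rw [sub_eq_zero] at h0
      rw [hsm, h0, hc]

end Cfsg.Agent.Lib.LevCover
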