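import Cfsg.Agent.Lib.LevCover.Two

/-!
The scalar target with a single line of eigenvectors.
-/

set_option autoImplicit false

namespace Cfsg.Agent.Lib.LevCover

open Matrix Polynomial
open Cfsg.Agent.Lib.Sourour (blk four_of_fintype)

variable {F : Type*} [Field F] {n : ℕ}

/-- The weak statement under lines as eigenspaces. -/
theorem weak_line [Fintype F] (h4 : 4 ≤ Fintype.card F) (hn : 5 ≤ n) (A : GL (Fin n) F) (hA : KerLine A.1)
    (hc : 6 ≤ n ∨ ∃ w, Cyc A.1 w) (hdA : GeneralLinearGroup.det A = 1) : One ⊤ A n 1 := by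
  obtain ⟨X, l, hX, hXc, hl, hXp⟩ := flag_pair h4 (by omega) A hA ⊤ (Or.inl rfl)
  have hl0 : ∀ i, l i ≠ 0 := fun i e => Units.ne_zero (GeneralLinearGroup.det X) (by
    rw [det_of_charpoly hXp]; exact Finset.prod_eq_zero (Finset.mem_univ i) e)
  obtain ⟨L, U, hLU, hLc, hLp, hUc, hUp⟩ := split_any h4 (by omega) (1 : GL (Fin n) F) (one_ne_zero (α := F))
    (by rw [map_one, Units.val_one, one_pow]) (Or.inr (by rw [Units.val_one, one_smul])) hl hl0
  obtain ⟨wX, hwX⟩ := hXc
  obtain ⟨wL, hwL⟩ := hLc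
  obtain ⟨S, hS, -⟩ := exists_similar hwL hwX (hLp.trans hXp.symm)
  have hLone : Cls ⊤ A 2 L := hS ▸ (hX.cls (full_top X)).conj S
  have hdU : GeneralLinearGroup.det U = 1 := by
    have h1 := congrArg GeneralLinearGroup.det hLU
    rwa [map_mul, hLone.self.det, hdA, one_pow, one_mul, map_one, eq_comm] at h1
  have hUone : Cls ⊤ A (n - 2) U := by
    by_cases h6 : 6 ≤ n
    · exact all_cyc h4 (by omega) hA hX ⟨wX, hwX⟩ hl hXp (n - 2) (by omega) U hUc (by rw [hdU, hdA, one_pow])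
        (full_top U)
    · obtain rfl : n = 5 := by omega
      refine gn h4 (i := 1) (k := 2) (by omega) (Or.inl rfl) (one_one_iff.2 (Fac.self _ A))
        (hc.resolve_left (by omega)) hX ⟨wX, hwX⟩ hl hXp ?_ hUc (full_top U)
      rw [hdU, hX.det, hdA, one_pow, mul_one]
  have := One.mul hLone.self hUone.self
  rwa [← hLU, show 2 + (n - 2) = n by omega] at this

theorem contig_end (a b c : F) (hb : b ≠ a) (hc : c ≠ a) : Contig ![a, a, a, b, c] := by
  intro i j k hij hjk h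
  fin_cases i <;> fin_cases j <;> fin_cases k <;> simp_all

theorem contig_pairs' (a b c : F) (hb : b ≠ a) (hc : c ≠ a) (hbc : b ≠ c) : Contig ![a, b, b, c, c] := by
  intro i j k hij hjk h
  fin_cases i <;> fin_cases j <;> fin_cases k <;> simp_all

/-- An eigenvector beside two equal quadratic blocks. -/
theorem weak_five_split [Fintype F] (h4 : 4 ≤ Fintype.card F) {A P : GL (Fin (3 + 2)) F} {f : F[X]}
    {C0 : Matrix (Fin 3) (Fin 2) F} {t d : F} (hfm : f.Monic) (hfd : f.natDegree = 3) (hd : d ≠ 0)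
    (hAP : A.1 * P.1 = P.1 * glue (comp 3 f) C0 (cmp2 t d)) (hdA : GeneralLinearGroup.det A = 1) :
    One ⊤ A 5 1 := by
  classical
  have h4F := four_of_fintype h4
  have hprod : (comp 3 f).det * d = 1 := by
    have h1 := congrArg Matrix.det hAP
    rw [det_mul, det_mul, glue_det, ← det_val A, hdA, Units.val_one, one_mul,
      show (cmp2 t d).det = d by rw [cmp2, det_fin_two]; simp] at h1
    exact (mul_left_cancel₀ (GeneralLinearGroup.det_ne_zero P) ((mul_one _).trans h1)).symm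
  have hdc : (comp 3 f).det ≠ 0 := left_ne_zero_of_mul_eq_one hprod
  have hf0 : f.coeff 0 ≠ 0 := fun h => hdc (by
    rw [Matrix.det_eq_sign_charpoly_coeff, comp_charpoly hfm hfd, h, mul_zero])
  obtain ⟨s, x, hs, hx, hok, l, hl, hl0, hlX, hlinv⟩ : ∃ s x : F, s ≠ 0 ∧ x ≠ 0 ∧ OK2 t d s ∧ ∃ l : Fin 5 → F,
      Contig l ∧ (∀ i, l i ≠ 0) ∧
      (∏ i, (Polynomial.X - C (l i))) = (Polynomial.X - C s) * (Polynomial.X - C x) *
        (Polynomial.X - C ((comp 3 f).det * (comp 3 f).det / (s * x))) * ((Polynomial.X - C s) * (Polynomial.X - C (d * d / s))) ∧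
      (∏ i, (Polynomial.X - C (1 * (l i)⁻¹))) = ∏ i, (Polynomial.X - C (l i)) := by
    have hq : (comp 3 f).det = d⁻¹ := eq_inv_of_mul_eq_one_left hprod
    by_cases hdd : d * d = 1
    · obtain ⟨s, h0, h1, h2⟩ := h4F 0 1 (-1)
      have hss : s * s ≠ 1 := fun e => (mul_self_eq_one_iff.1 e).elim h1 h2
      have hq2 : (comp 3 f).det * (comp 3 f).det = 1 := by rw [hq, ← mul_inv, hdd, inv_one]
      refine ⟨s, s⁻¹, h0, inv_ne_zero h0, ⟨h0, Or.inl (by rw [hdd]; exact hss)⟩, ![1, s, s, s⁻¹, s⁻¹],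
        contig_pairs' 1 s s⁻¹ h1 (fun e => h1 (inv_eq_one.1 e)) (fun e => hss ?_), ?_, ?_, ?_⟩
      · nth_rw 2 [e]
        exact mul_inv_cancel₀ h0
      · intro i; fin_cases i <;> simp [h0]
      · rw [hq2, hdd, mul_inv_cancel₀ h0, div_one, one_div, Fin.prod_univ_five]
        simp
        ring
      · simp [Fin.prod_univ_five]
        ring
    · have hdd0 : d * d ≠ 0 := mul_ne_zero hd hd
      refine ⟨1, (d * d)⁻¹, one_ne_zero, inv_ne_zero hdd0, ⟨one_ne_zero, Or.inl (by rw [one_mul]; exact Ne.symm hdd)⟩,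
        ![1, 1, 1, d * d, (d * d)⁻¹], contig_end 1 _ _ hdd (fun e => hdd (inv_eq_one.1 e)), ?_, ?_, ?_⟩
      · intro i; fin_cases i <;> simp [hd]
      · rw [hq, show d⁻¹ * d⁻¹ / (1 * (d * d)⁻¹) = 1 by field_simp, Fin.prod_univ_five, div_one]
        simp
        ring
      · simp [Fin.prod_univ_five]
        ring
  obtain ⟨D, hD, -, hblk⟩ := block_big h4F 0 hf0 hs
  obtain ⟨Ta, Xa, -, hXa, hza, hd0, hd1, hKa, hLa, -⟩ := hblk x hx
  obtain ⟨T', X', hX', hz', ⟨h00', h11'⟩, hK', hR', -⟩ := block_two hd hok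
  have h00 : Xa 0 0 = s := hd0 0 (by simp)
  have h11 : Xa 1 1 = x := hd1
  have h22 : Xa 2 2 = (comp 3 f).det * (comp 3 f).det / (s * x) := by
    have h1 := congrArg Matrix.det hXa
    rw [det_mul, det_mul, det_mul, mul_right_comm Ta.1.det, ← det_mul Ta.1, Units.mul_inv, det_one, one_mul,
      Matrix.det_of_isUpperTriangular (fun i j h => hza i j h), Fin.prod_univ_three, h00, h11] at h1
    rw [eq_div_iff (mul_ne_zero hs hx), ← h1]
    ring
  obtain ⟨T, C', -, hTX, hzT, hKT⟩ := glue_pair h4F C0 hXa hX' hdc hza hz' hKa hK' ![s, x, Xa 2 2]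
    (fun i => by fin_cases i <;> [exact ⟨0, h00⟩; exact ⟨1, h11⟩; exact ⟨2, rfl⟩])
    (fun j => by
      by_cases h : ![s, x, Xa 2 2] j = s
      · rw [h]; exact Or.inr hR'
      · exact Or.inl (hLa _ (Or.inr h)))
  set B : GL (Fin (3 + 2)) F := P⁻¹ * A * P with hB
  have hBv : B.1 = glue (comp 3 f) C0 (cmp2 t d) := by
    rw [hB, Units.val_mul, Units.val_mul, mul_assoc, hAP, ← mul_assoc, Units.inv_mul, one_mul]
  set X : GL (Fin (3 + 2)) F := T * B * T⁻¹ * B with hX
  have hXv : X.1 = glue Xa C' X' := by rw [hX, Units.val_mul, Units.val_mul, Units.val_mul, hBv, hTX]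
  obtain ⟨wX, hwX⟩ := exists_cyc_of_ker _ X.1 (fun i j h => by rw [hXv]; exact hzT i j h)
    (by rw [hXv]; exact hKT)
  have hXp : X.1.charpoly = ∏ i, (Polynomial.X - C (l i)) := by
    rw [hlX, hXv, glue_charpoly, charpoly_upper hza (l := fun i => Xa i i) fun _ => rfl,
      charpoly_upper hz' (l := fun i => X' i i) fun _ => rfl, Fin.prod_univ_three, Fin.prod_univ_two, h00, h11, h22,
      h00', h11']
  obtain ⟨L, U, hLU, hLc, hLp, hUc, hUp⟩ := split_any h4 (by norm_num) A⁻¹ (one_ne_zero (α := F))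
    (by rw [map_inv, hdA, inv_one, Units.val_one, one_pow]) (by
      by_cases hns : ∃ c : F, (A⁻¹).1 = c • 1
      · obtain ⟨c, hc⟩ := hns
        exfalso
        have h1 := A.mul_inv
        rw [hc, Matrix.mul_smul, Matrix.mul_one] at h1
        have hc0 : c ≠ 0 := fun e => by rw [e, zero_smul] at h1; simpa using congrFun (congrFun h1 0) 0
        have h2 : A.1 = c⁻¹ • 1 := by rw [← h1, smul_smul, inv_mul_cancel₀ hc0, one_smul]
        rw [h2, smul_mul_assoc, one_mul, ← Matrix.mul_one (c⁻¹ • P.1), Matrix.smul_mul, ← Matrix.mul_smul] at hAP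
        have h3 := (Units.mul_right_inj P).1 hAP
        have h5 := congrFun (congrFun h3 (Fin.natAdd 3 1)) (Fin.natAdd 3 0)
        rw [glue_natAdd] at h5
        simp [cmp2] at h5
      · exact Or.inl fun c e => hns ⟨c, e⟩) hl hl0
  obtain ⟨wL, hwL⟩ := hLc
  obtain ⟨wU, hwU⟩ := hUc
  obtain ⟨S, hS, -⟩ := exists_similar hwL hwX (hLp.trans hXp.symm)
  obtain ⟨S', hS', -⟩ := exists_similar hwU hwX (hUp.trans (hlinv.trans hXp.symm))
  have hone : One ⊤ A 2 (P * X * P⁻¹) := by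
    have h1 : One (⊤ : Subgroup Fˣ) B 2 X :=
      One.mul (one_one_iff.2 ⟨T, Subgroup.mem_top _, rfl⟩) (one_one_iff.2 (Fac.self _ B))
    have h2 := h1.transport P
    rwa [show P * B * P⁻¹ = A by rw [hB]; group] at h2
  have hL1 : One ⊤ A 2 L := by
    have := hone.conj (S := S * P⁻¹) (Subgroup.mem_top _)
    rwa [show S * P⁻¹ * (P * X * P⁻¹) * (S * P⁻¹)⁻¹ = S * X * S⁻¹ by group, ← hS] at this
  have hU1 : One ⊤ A 2 U := by
    have := hone.conj (S := S' * P⁻¹) (Subgroup.mem_top _)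
    rwa [show S' * P⁻¹ * (P * X * P⁻¹) * (S' * P⁻¹)⁻¹ = S' * X * S'⁻¹ by group, ← hS'] at this
  have := One.cons (Fac.self ⊤ A) (One.mul hL1 hU1)
  rwa [← hLU, mul_inv_cancel] at this

theorem noEig_pow {M : Matrix (Fin n) (Fin n) F} (h : NoEig M) (a : F) :
    ∀ (e : ℕ) (u : Fin n → F), aeval M ((Polynomial.X - C a) ^ e) *ᵥ u = 0 → u = 0 := by
  intro e
  induction e with
  | zero => intro u hu; simpa using hu
  | succ e ih =>
    intro u hu
    rw [pow_succ', map_mul, ← mulVec_mulVec, aeval_X_sub_C_mulVec, sub_eq_zero] at hu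
    exact ih u (h a _ hu)

/-- One line of eigenvectors in all. -/
theorem exact_line [Fintype F] (h4 : 4 ≤ Fintype.card F) (hn : 5 ≤ n) (A : GL (Fin n) F)
    (hq : ∀ t d : F, A.1 * A.1 ≠ t • A.1 - d • 1) (hdA : GeneralLinearGroup.det A = 1) (hNE : ¬NoEig A.1)
    (hline : ∀ (b c : F) (u w : Fin n → F), u ≠ 0 → A.1 *ᵥ u = b • u → A.1 *ᵥ w = c • w → ∃ k : F, w = k • u) :
    One ⊥ A n 1 := by
  classical
  have hK : KerLine A.1 := fun μ u w hu0 hu hw => hline μ μ u w hu0 hu hw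
  by_cases h8 : 8 ≤ n
  · exact exact_big h4 A hK hq (Or.inl h8) hdA 1 (map_one _) (Or.inr rfl)
  obtain ⟨a, v, hv0, hv⟩ := exists_eigvec hNE
  obtain ⟨m, k, h, f, C0, A2, P, hfm, hfd, -, hP, hAP, -, hNE2, hfA, hfA2, hmin⟩ :=
    exists_split A.1 (GeneralLinearGroup.det_ne_zero A) hK
  subst h
  simp only [finCongr_refl, Matrix.reindex_refl_refl, Equiv.coe_refl] at hAP
  have hcyc : k = 0 → ∃ w, Cyc A.1 w := fun hk => by
    obtain ⟨w, hw⟩ := exists_max A.1
    refine ⟨w, cyc_of_eq_zero fun q hq' h0 => by_contra fun hq0 => ?_⟩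
    have := natDegree_le_of_dvd (hmin q (hw q h0)) hq0
    omega
  have hk1 : k ≠ 1 := fun e => by subst e; exact noEig_one hNE2
  have hroot : ∀ b : F, f.IsRoot b → b = a := by
    intro b hb
    obtain ⟨r, hr⟩ := dvd_iff_isRoot.2 hb
    have hr0 : r ≠ 0 := fun e => hfm.ne_zero (by rw [hr, e, mul_zero])
    obtain ⟨y, hy⟩ : ∃ y, aeval A.1 r *ᵥ y ≠ 0 := by
      by_contra hno
      push Not at hno
      have h1 := natDegree_le_of_dvd (hmin r (mext fun u => by rw [hno u, zero_mulVec])) hr0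
      rw [hr, natDegree_mul (X_sub_C_ne_zero b) hr0, natDegree_X_sub_C] at h1
      omega
    have h1 : A.1 *ᵥ (aeval A.1 r *ᵥ y) = b • (aeval A.1 r *ᵥ y) := by
      rw [← sub_eq_zero, ← aeval_X_sub_C_mulVec, mulVec_mulVec, ← map_mul, ← hr, hfA, zero_mulVec]
    obtain ⟨c, hc⟩ := hline a b v _ hv0 hv h1
    rw [hc, mulVec_smul, hv, smul_smul, smul_smul, ← sub_eq_zero, ← sub_smul, smul_eq_zero] at h1
    have hc0 : c ≠ 0 := fun e => hy (by rw [hc, e, zero_smul])
    have h2 := h1.resolve_right hv0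
    have h3 : c * (a - b) = 0 := by linear_combination h2
    exact (sub_eq_zero.1 ((mul_eq_zero.1 h3).resolve_left hc0)).symm
  have hfa : f.IsRoot a := by
    have h1 := congrArg (· *ᵥ v) hfA
    simp only [zero_mulVec, aeval_eig hv] at h1
    exact (smul_eq_zero.1 h1).resolve_right hv0
  obtain ⟨g0, hg, hga⟩ := exists_eq_pow_rootMultiplicity_mul_and_not_dvd f hfm.ne_zero a
  obtain ⟨e, he⟩ : ∃ e, rootMultiplicity a f = e := ⟨_, rfl⟩
  rw [he] at hg
  have hg0m : g0.Monic := ((monic_X_sub_C a).pow e).of_mul_monic_left (hg ▸ hfm)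
  have hfd' : e + g0.natDegree = m := by
    rw [← hfd, hg, natDegree_mul (pow_ne_zero _ (X_sub_C_ne_zero a)) hg0m.ne_zero, natDegree_pow, natDegree_X_sub_C,
      mul_one]
  have hga' : g0.eval a ≠ 0 := fun h => hga (dvd_iff_isRoot.2 h)
  have hg0r : ∀ b, g0.eval b ≠ 0 := fun b hb => by
    have := hroot b (by rw [hg, IsRoot.def, eval_mul, hb, mul_zero])
    exact hga' (this ▸ hb)
  have he1 : 1 ≤ e := he ▸ (rootMultiplicity_pos hfm.ne_zero).2 hfa
  have hg2 : g0.natDegree ≠ 1 := fun h => hg0r (-g0.coeff 0) (by rw [hg0m.eq_X_add_C h]; simp)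
  -- the centralizer is large
  have full : (e = 1 ∨ (0 < g0.natDegree ∧ g0.natDegree ≤ 3)) → Full (⊥ : Subgroup Fˣ) A := by
    intro hcase
    by_cases he' : e = 1
    · refine full_of_eig A hv (fun u hu => hv0 ?_) ⊥
      have h1 : aeval A.1 g0 *ᵥ v = 0 := by
        rw [← hu, ← aeval_X_sub_C_mulVec, mulVec_mulVec, ← map_mul, mul_comm g0,
          show (Polynomial.X - C a) * g0 = f by rw [hg, he', pow_one], hfA, zero_mulVec]
      rw [aeval_eig hv, smul_eq_zero] at h1
      exact h1.resolve_left hga'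
    · obtain ⟨hd0, hd3⟩ := hcase.resolve_left he'
      have hirr : Irreducible g0 := by
        rw [Monic.irreducible_iff_roots_eq_zero_of_degree_le_three hg0m (by omega) hd3]
        exact Multiset.eq_zero_of_forall_notMem fun b hb => hg0r b ((mem_roots hg0m.ne_zero).1 hb)
      refine full_of_factor A (r := (Polynomial.X - C a) ^ e) hirr hg0m
        ((hirr.coprime_iff_not_dvd).2 fun hdvd => ?_) (by rw [mul_comm, ← hg, hfA]) (fun h0 => ?_) ⊥
      · have h1 := natDegree_le_of_dvd (hirr.prime.dvd_of_dvd_pow hdvd) (X_sub_C_ne_zero a)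
        rw [natDegree_X_sub_C] at h1
        omega
      · have h1 := natDegree_le_of_dvd (hmin _ h0) (pow_ne_zero _ (X_sub_C_ne_zero a))
        rw [natDegree_pow, natDegree_X_sub_C] at h1
        omega
  have hg1 : g0.natDegree = 0 → k = 0 ∧ A.1.charpoly = (Polynomial.X - C a) ^ (m + k) := by
    intro h0
    have hg1 : g0 = 1 := hg0m.natDegree_eq_zero.1 h0
    have hk : k = 0 := by
      by_contra hk
      have h1 := noEig_pow hNE2 a e (Pi.single ⟨0, by omega⟩ 1) (by
        rw [show (Polynomial.X - C a) ^ e = f by rw [hg, hg1, mul_one], hfA2, zero_mulVec])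
      exact absurd h1 (by simp)
    subst hk
    refine ⟨rfl, ?_⟩
    obtain ⟨w, hw⟩ := hcyc rfl
    refine hw.charpoly_eq ((monic_X_sub_C a).pow _) (by rw [natDegree_pow, natDegree_X_sub_C, mul_one]) ?_
    rw [show (Polynomial.X - C a) ^ (m + 0) = f by rw [hg, hg1, mul_one, show m + 0 = e by omega], hfA, zero_mulVec]
  by_cases hfull : e = 1 ∨ (0 < g0.natDegree ∧ g0.natDegree ≤ 3)
  · refine One.of_full (full hfull) ?_
    by_cases hc : 6 ≤ m + k ∨ ∃ w, Cyc A.1 w
    · exact weak_line h4 hn A hK hc hdA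
    push Not at hc
    obtain ⟨hc6, hc⟩ := hc
    have hk0 : k ≠ 0 := fun h => by obtain ⟨w, hw⟩ := hcyc h; exact hc w hw
    have hg00 : g0.natDegree ≠ 0 := fun h => hk0 (hg1 h).1
    obtain rfl : k = 2 := by omega
    obtain rfl : m = 3 := by omega
    have he' : e = 1 := by omega
    -- the lower block as a companion
    obtain ⟨u0, hu0⟩ : ∃ u0, u0 = (Pi.single 0 1 : Fin 2 → F) := ⟨_, rfl⟩
    have hcy : Cyc A2 u0 := cyc_two (by simp [hu0]) fun c hc' => by
      have h1 := hNE2 c u0 hc'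
      rw [hu0] at h1
      simp at h1
    obtain ⟨K', hK'⟩ := exists_GL (S := kry A2 u0) hcy
    obtain ⟨PG, hPG⟩ := exists_GL hP
    refine weak_five_split h4 (P := PG * diagGL 1 K') (C0 := C0 * K'.1) (t := -A2.charpoly.coeff 1)
      (d := A2.charpoly.coeff 0) hfm hfd (fun h0 => ?_) ?_ hdA
    · have h1 : A2.det = 0 := by rw [Matrix.det_eq_sign_charpoly_coeff, h0, mul_zero]
      obtain ⟨z, hz0, hz⟩ := Matrix.exists_mulVec_eq_zero_iff.2 h1
      exact hz0 (hNE2 0 z (by rw [hz, zero_smul]))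
    · have hd2 : A2.charpoly.natDegree = 2 := by rw [Matrix.charpoly_natDegree_eq_dim, Fintype.card_fin]
      have hA2K : A2 * K'.1 = K'.1 * cmp2 (-A2.charpoly.coeff 1) (A2.charpoly.coeff 0) := by
        rw [hK', Cyc.mul_kry, cmp2_eq A2.charpoly_monic hd2]
      rw [Units.val_mul, hPG, ← mul_assoc, hAP, mul_assoc, mul_assoc]
      congr 1
      simp only [diagGL, glue_mul, Units.val_one, Matrix.mul_zero, Matrix.zero_mul, add_zero, zero_add,
        Matrix.one_mul, Matrix.mul_one, hA2K]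
  push Not at hfull
  by_cases h0 : g0.natDegree = 0
  · obtain ⟨-, hf'⟩ := hg1 h0
    obtain ⟨j, hj⟩ : ∃ j, m + k = j + 1 := ⟨m + k - 1, by omega⟩
    have hdet : a ^ (m + k) = 1 := by
      have h1 : A.1.det = 1 := by rw [← det_val, hdA, Units.val_one]
      rw [Matrix.det_eq_sign_charpoly_coeff, Fintype.card_fin, coeff_zero_eq_eval_zero, hf', eval_pow, eval_sub,
        eval_X, eval_C, zero_sub, ← mul_pow, neg_one_mul, neg_neg] at h1
      exact h1
    clear hf' hg1 hcyc full hfull hAP hP hfd' hfd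
    revert A v hdet
    rw [hj]
    intro A hq hdA hNE hline hK v hv0 hv
    intros
    obtain ⟨Q, x, A', hQv, hAQ⟩ := exists_quot hv0 hv
    refine rel_exact h4 (by omega) (hK.nonPseudo (by omega)) hdA hAQ
      (quot_good (hK.nonPseudo (by omega)) hAQ fun c hc => ?_) hv0 hv (by rw [← pow_succ']; assumption)
    have := hK.rank_ge c
    omega
  · have hd4 : 4 ≤ g0.natDegree := by have := hfull.2 (by omega); omega
    have he2 : 2 ≤ e := by have := hfull.1; omega
    obtain rfl : k = 0 := by omega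
    exact exact_big h4 A hK hq (Or.inr ⟨by omega, hcyc rfl⟩) hdA 1 (map_one _) (Or.inr rfl)

end Cfsg.Agent.Lib.LevCover
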