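import Cfsg.Agent.Lib.LevCover.Flag

/-!
Three conjugates make a cyclic matrix.
-/

set_option autoImplicit false

namespace Cfsg.Agent.Lib.LevCover

open Matrix Polynomial

variable {F : Type*} [Field F] {n : ℕ}

theorem cyc_conj (S : GL (Fin n) F) (g : GL (Fin n) F) {w : Fin n → F} (hw : Cyc g.1 w) :
    Cyc (S * g * S⁻¹).1 (S.1 *ᵥ w) := by
  have hc : ∀ a : ℕ, (S * g * S⁻¹).1 ^ a * S.1 = S.1 * g.1 ^ a := by
    intro a
    rw [← Units.val_pow_eq_pow_val, ← Units.val_pow_eq_pow_val, ← Units.val_mul, ← Units.val_mul]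
    congr 1
    rw [conj_pow]
    group
  have e : kry (S * g * S⁻¹).1 (S.1 *ᵥ w) = S.1 * kry g.1 w := by
    refine Matrix.ext_of_mulVec_single fun i => ?_
    rw [kry_single, ← mulVec_mulVec, kry_single, mulVec_mulVec, mulVec_mulVec, hc]
  rw [Cyc, e, det_mul]
  exact mul_ne_zero (GeneralLinearGroup.det_ne_zero S) hw

theorem cyc_of_eq_zero {M : Matrix (Fin n) (Fin n) F} {v : Fin n → F}
    (h : ∀ p : F[X], p.natDegree < n → aeval M p *ᵥ v = 0 → p = 0) : Cyc M v := by
  intro hdet
  obtain ⟨z, hz0, hz1⟩ := Matrix.exists_mulVec_eq_zero_iff.2 hdet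
  rcases Nat.eq_zero_or_pos n with rfl | hn
  · exact hz0 (funext fun i => i.elim0)
  set p : F[X] := ∑ i : Fin n, monomial i.val (z i) with hp
  have hpc : ∀ i : Fin n, p.coeff i.val = z i := fun i => by
    simp [hp, finsetSum_coeff, coeff_monomial, Fin.val_inj]
  have hpd : p.natDegree < n := lt_of_le_of_lt (natDegree_sum_le_of_forall_le _ _ fun i _ =>
    (natDegree_monomial_le _).trans (by have := i.isLt; omega : i.val ≤ n - 1)) (by omega)
  have h0 : aeval M p *ᵥ v = 0 := by
    rw [← kry_mulVec M v p hpd, show (fun i : Fin n => p.coeff i.val) = z from funext hpc]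
    exact hz1
  have := h p hpd h0
  exact hz0 (funext fun i => by rw [← hpc, this, coeff_zero]; rfl)

/-- Hessenberg matrices are cyclic. -/
theorem cyc_hess {M : Matrix (Fin n) (Fin n) F} (hn : 0 < n) (h1 : ∀ i j : Fin n, j.val + 1 < i.val → M i j = 0)
    (h2 : ∀ i j : Fin n, j.val + 1 = i.val → M i j ≠ 0) : Cyc M (Pi.single (⟨0, hn⟩ : Fin n) 1) := by
  have key : ∀ k : ℕ, ∀ i : Fin n, (k < i.val → ((M ^ k) *ᵥ Pi.single (⟨0, hn⟩ : Fin n) 1) i = 0) ∧
      (k = i.val → ((M ^ k) *ᵥ Pi.single (⟨0, hn⟩ : Fin n) 1) i ≠ 0) := by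
    intro k
    induction k with
    | zero =>
      intro i
      refine ⟨fun hi => ?_, fun hi => ?_⟩
      · simp [Pi.single_apply, Fin.ext_iff, Nat.pos_iff_ne_zero.1 hi]
      · rw [show i = ⟨0, hn⟩ from Fin.ext hi.symm, pow_zero, one_mulVec, Pi.single_eq_same]
        exact one_ne_zero
    | succ k ih =>
      intro i
      rw [pow_succ', ← mulVec_mulVec]
      refine ⟨fun hi => ?_, fun hi => ?_⟩
      · rw [Matrix.mulVec]
        refine Finset.sum_eq_zero fun j _ => ?_
        rcases Nat.lt_or_ge k j.val with hj | hj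
        · simp [(ih j).1 hj]
        · simp [h1 i j (by omega)]
      · have hi' := i.isLt
        rw [Matrix.mulVec, dotProduct, Finset.sum_eq_single (⟨k, by omega⟩ : Fin n)]
        · exact mul_ne_zero (h2 _ _ (by simp; omega)) ((ih ⟨k, by omega⟩).2 rfl)
        · intro j _ hj
          have hjk : j.val ≠ k := fun e => hj (Fin.ext e)
          rcases Nat.lt_or_ge k j.val with hj' | hj'
          · rw [(ih j).1 hj', mul_zero]
          · rw [h1 i j (by omega), zero_mul]
        · simp
  intro hdet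
  have hT : ∀ i j : Fin n, j < i → kry M (Pi.single (⟨0, hn⟩ : Fin n) 1) i j = 0 := fun i j hji =>
    (key j.val i).1 hji
  rw [Matrix.det_of_isUpperTriangular (fun a b h => hT a b h), Finset.prod_eq_zero_iff] at hdet
  obtain ⟨i, -, hi⟩ := hdet
  exact (key i.val i).2 rfl hi

theorem glue_tail {m k : ℕ} (A1 : Matrix (Fin m) (Fin m) F) (C : Matrix (Fin m) (Fin k) F)
    (A2 : Matrix (Fin k) (Fin k) F) (q : F[X]) (u : Fin m → F) :
    aeval (glue A1 C A2) q *ᵥ Fin.append u 0 = Fin.append (aeval A1 q *ᵥ u) 0 := by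
  induction q using Polynomial.induction_on generalizing u with
  | C a =>
    simp only [aeval_C, Algebra.algebraMap_eq_smul_one, smul_mulVec, one_mulVec]
    funext i
    refine Fin.addCases (fun i => ?_) (fun i => ?_) i <;> simp
  | add p q hp hq =>
    rw [map_add, map_add, add_mulVec, add_mulVec, hp, hq]
    funext i
    refine Fin.addCases (fun i => ?_) (fun i => ?_) i <;> simp
  | monomial j a ih =>
    rw [pow_succ, ← mul_assoc, map_mul, map_mul _ (_ * _) X, aeval_X, aeval_X, ← mulVec_mulVec, ← mulVec_mulVec,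
      glue_mulVec, mulVec_zero, add_zero, mulVec_zero]
    exact ih _

/-- A chain through both blocks. -/
theorem cyc_glue {m k : ℕ} {H2 : Matrix (Fin k) (Fin k) F} {w : Fin k → F} (hw : Cyc H2 w) (hk : 0 < k) :
    ∃ φ : Fin k → F, ∀ (H1 : Matrix (Fin m) (Fin m) F) (g : Fin m → F), Cyc H1 g →
      Cyc (glue H1 (vecMulVec g φ) H2) (Fin.append 0 w) := by
  obtain ⟨K2, hK2⟩ := exists_GL (S := kry H2 w) hw
  set last : Fin k := ⟨k - 1, by omega⟩ with hlast
  set φ : Fin k → F := fun i => (K2⁻¹).1 last i with hφ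
  have hφj : ∀ j : Fin k, φ ⬝ᵥ ((H2 ^ j.val) *ᵥ w) = if j = last then 1 else 0 := by
    intro j
    rw [← kry_single, ← hK2]
    have h := congrFun (congrFun (Units.inv_mul K2) last) j
    rw [Matrix.mul_apply, Matrix.one_apply] at h
    rw [mulVec_single_one]
    simp only [dotProduct, hφ, Matrix.col_apply, eq_comm (a := j)]
    exact h
  refine ⟨φ, fun H1 g hg => ?_⟩
  set M := glue H1 (vecMulVec g φ) H2 with hM
  have hpow : ∀ j : ℕ, j ≤ k → (M ^ j) *ᵥ Fin.append 0 w =
      Fin.append (if j = k then g else 0) ((H2 ^ j) *ᵥ w) := by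
    intro j
    induction j with
    | zero => intro; simp [show ¬(0 = k) by omega]
    | succ j ih =>
      intro hj
      rw [pow_succ', ← mulVec_mulVec, ih (by omega), if_neg (show j ≠ k by omega), hM, glue_mulVec, mulVec_zero,
        zero_add, mulVec_mulVec _ H2, ← pow_succ', vecMulVec_mulVec, hφj ⟨j, by omega⟩]
      congr 1
      by_cases h : j + 1 = k
      · rw [if_pos (Fin.ext (by simp [hlast]; omega)), if_pos h]
        funext i; simp
      · rw [if_neg (fun e => h (by have := congrArg Fin.val e; simp [hlast] at this; omega)), if_neg h]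
        funext i; simp
  refine cyc_of_eq_zero fun p hp h0 => ?_
  have hbot : aeval H2 p *ᵥ w = 0 := by
    obtain ⟨x, hx⟩ := glue_aeval H1 (vecMulVec g φ) H2 p w
    rw [hM, hx] at h0
    funext i
    simpa using congrFun h0 (Fin.natAdd m i)
  set f2 := H2.charpoly with hf2
  have hd2 : f2.natDegree = k := by rw [hf2, Matrix.charpoly_natDegree_eq_dim, Fintype.card_fin]
  have hdiv : p %ₘ f2 = 0 := by
    refine hw.eq_zero ?_ ?_
    · rcases eq_or_ne (p %ₘ f2) 0 with h | h
      · rw [h, natDegree_zero]; exact hk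
      · exact hd2 ▸ natDegree_lt_natDegree h (degree_modByMonic_lt p H2.charpoly_monic)
    · have h2 : aeval H2 (p %ₘ f2) = aeval H2 p := by
        conv_rhs => rw [← modByMonic_add_div p f2, map_add, map_mul, hf2, Matrix.aeval_self_charpoly, zero_mul,
          add_zero]
      rw [h2, hbot]
  obtain ⟨q, rfl⟩ := (modByMonic_eq_zero_iff_dvd H2.charpoly_monic).1 hdiv
  have hu : aeval M f2 *ᵥ Fin.append 0 w = Fin.append g 0 := by
    rw [aeval_mulVec M _ f2 (N := k + 1) (by omega), Finset.sum_range_succ, Finset.sum_range]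
    have h3 : aeval H2 f2 *ᵥ w = 0 := by rw [hf2, Matrix.aeval_self_charpoly, zero_mulVec]
    rw [aeval_mulVec H2 _ f2 (N := k + 1) (by omega), Finset.sum_range_succ, Finset.sum_range] at h3
    have hlead : f2.coeff k = 1 := hd2 ▸ H2.charpoly_monic.coeff_natDegree
    rw [hlead, one_smul] at h3 ⊢
    funext i
    refine Fin.addCases (fun i => ?_) (fun i => ?_) i
    · simp [Finset.sum_apply, hpow k le_rfl, fun j : Fin k => hpow j.val j.isLt.le,
        fun j : Fin k => (ne_of_lt j.isLt : j.val ≠ k)]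
    · have := congrFun h3 i
      simp [Finset.sum_apply, hpow k le_rfl, fun j : Fin k => hpow j.val j.isLt.le] at this ⊢
      exact this
  rw [mul_comm, map_mul, ← mulVec_mulVec, hu, hM, glue_tail] at h0
  by_cases hq0 : q = 0
  · rw [hq0, mul_zero]
  have hqd : q.natDegree < m := by
    rw [natDegree_mul H2.charpoly_monic.ne_zero hq0, ← hf2, hd2] at hp; omega
  rw [hg.eq_zero hqd (funext fun i => by simpa using congrFun h0 (Fin.castAdd k i)), mul_zero]

theorem comp_mul_bd {m : ℕ} (f : F[X]) (l : Fin m → F) (v : ℕ → F) :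
    (∀ i j : Fin m, j.val + 1 < i.val → (comp m f * bd l v) i j = 0) ∧
      ∀ i j : Fin m, j.val + 1 = i.val → (comp m f * bd l v) i j = l j := by
  refine ⟨fun i j h => ?_, fun i j h => ?_⟩
  · rw [Matrix.mul_apply]
    refine Finset.sum_eq_zero fun x _ => ?_
    by_cases hx : x.val ≤ j.val
    · simp [comp, show x.val + 1 < m by have := i.isLt; omega, show ¬(i.val = x.val + 1) by omega]
    · rw [bd_lower _ _ x j (Fin.lt_def.2 (by omega)), mul_zero]
  · rw [Matrix.mul_apply, Finset.sum_eq_single j]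
    · simp [comp, bd, show j.val + 1 < m by have := i.isLt; omega, h]
    · intro x _ hx
      by_cases hxj : x.val < j.val
      · simp [comp, show x.val + 1 < m by have := i.isLt; omega, show ¬(i.val = x.val + 1) by omega]
      · have : x.val ≠ j.val := fun e => hx (Fin.ext e)
        rw [bd_lower _ _ x j (Fin.lt_def.2 (by omega)), mul_zero]
    · simp

theorem exists_link (h4 : Four F) : ∀ (n : ℕ) (A : Matrix (Fin n) (Fin n) F), 2 ≤ n → A.det ≠ 0 → KerLine A →
    ∀ l : Fin n → F, (∀ i, l i ≠ 0) →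
      ∃ (P : GL (Fin n) F) (A' : Matrix (Fin n) (Fin n) F) (v : ℕ → F), A * P.1 = P.1 * A' ∧
        (∀ j, v j ≠ 0) ∧ ∀ a : F, a ≠ 0 → ∃ N : Matrix (Fin n) (Fin n) F, (∀ i j, j < i → N i j = 0) ∧
          (∀ i, N i i = l i) ∧ (∀ i j : Fin n, i.val + 1 = j.val → N i j = if i.val = 0 then a else v i.val) ∧
          ∃ w, Cyc (A' * N) w := by
  intro n
  induction n using Nat.strong_induction_on with
  | _ n ih =>
    intro A hn hA hK l hl
    obtain ⟨m, k, h, f, C0, A2, P, hfm, hfd, hf0, hP, hAP, hA2, hNE, hfA, -, hmin⟩ := exists_split A hA hK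
    subst h
    simp only [finCongr_refl, Matrix.reindex_refl_refl, Equiv.coe_refl] at hAP
    obtain ⟨PG, hPG⟩ := exists_GL hP
    have hm : 2 ≤ m := by
      by_contra hm
      interval_cases m
      · rw [hfm.natDegree_eq_zero.1 hfd, map_one] at hfA
        have := congrFun (congrFun hfA ⟨0, by omega⟩) ⟨0, by omega⟩
        simp at this
      · have hAc : A = (-f.coeff 0) • 1 := by
          rw [hfm.eq_X_add_C hfd, map_add, aeval_X, aeval_C, Algebra.algebraMap_eq_smul_one] at hfA
          rw [neg_smul, eq_neg_iff_add_eq_zero, hfA]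
        obtain ⟨c, hc⟩ := hK (-f.coeff 0) (Pi.single ⟨0, by omega⟩ 1) (Pi.single ⟨1, by omega⟩ 1) (by simp)
          (by rw [hAc, smul_mulVec, one_mulVec]) (by rw [hAc, smul_mulVec, one_mulVec])
        simpa [Pi.single_apply, Fin.ext_iff] using congrFun hc ⟨1, by omega⟩
    set l1 : Fin m → F := fun i => l (Fin.castAdd k i) with hl1
    -- the top part does not depend on the later choices
    have hH1 : ∀ v : ℕ → F, Cyc (comp m f * bd l1 v) (Pi.single (⟨0, by omega⟩ : Fin m) 1) := fun v =>
      cyc_hess (by omega) (comp_mul_bd f l1 v).1 fun i j h => by rw [(comp_mul_bd f l1 v).2 i j h]; exact hl _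
    rcases Nat.eq_zero_or_pos k with hk0 | hk
    · subst hk0
      have hg' : ∀ (M : Matrix (Fin m) (Fin m) F) (C : Matrix (Fin m) (Fin 0) F) (N : Matrix (Fin 0) (Fin 0) F),
          glue M C N = M := fun M C N => by
        ext i j
        exact glue_castAdd M C N i j
      rw [hg'] at hAP
      refine ⟨PG, comp m f, fun _ => 1, by rw [hPG]; exact hAP, fun _ => one_ne_zero, fun a ha => ?_⟩
      exact ⟨bd l1 fun j => if j = 0 then a else 1, bd_lower _ _, fun i => by simp [bd, hl1],
        fun i j h => by simp [bd, h, show i ≠ j from fun e => by rw [e] at h; omega], _, hH1 _⟩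
    have hk2 : 2 ≤ k := by
      by_contra hk2
      obtain rfl : k = 1 := by omega
      exact noEig_one hNE
    obtain ⟨P2, A', v2, hAP2, hv2, hall⟩ := ih k (by omega) A2 hk2 hA2 hNE.kerLine (fun i => l (Fin.natAdd m i))
      (fun i => hl _)
    obtain ⟨N2, hN2z, hN2d, hN2s, w2, hw2⟩ := hall (v2 0) (hv2 0)
    have hN2s' : ∀ i j : Fin k, i.val + 1 = j.val → N2 i j = v2 i.val := fun i j h => by
      rw [hN2s i j h]; split_ifs with h0 <;> simp [h0]
    set g : Fin m → F := Pi.single (⟨0, by omega⟩ : Fin m) 1 with hg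
    obtain ⟨φ, hφ⟩ := cyc_glue (m := m) hw2 hk
    obtain ⟨A1, hA1⟩ := exists_GL (S := comp m f) (by
      rw [Matrix.det_eq_sign_charpoly_coeff, comp_charpoly hfm hfd]
      exact mul_ne_zero (pow_ne_zero _ (by simp)) hf0)
    set C1 := C0 * P2.1 with hC1
    set il : Fin m := ⟨m - 1, by omega⟩ with hil
    set j0 : Fin k := ⟨0, hk⟩ with hj0
    set l20 := l (Fin.natAdd m j0) with hl20
    set α := ((A1⁻¹).1 * vecMulVec g φ) il j0 with hα
    set β := ((A1⁻¹).1 * (C1 * N2)) il j0 with hβ
    obtain ⟨y, hy1, -, -⟩ := h4 ((α - β) / l20) 0 0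
    set Y : Matrix (Fin m) (Fin k) F := Matrix.single il j0 y with hY
    set C2 := comp m f * Y + C1 - Y * A' with hC2
    set Cn := (A1⁻¹).1 * (vecMulVec g φ - C2 * N2) with hCn
    have hAinv : (A1⁻¹).1 * comp m f = 1 := by rw [← hA1, Units.inv_mul]
    have hlast : (A1⁻¹).1 il il = 0 := by
      set ip : Fin m := ⟨m - 2, by omega⟩ with hip
      have h1 : (A1⁻¹).1 *ᵥ Pi.single il 1 = Pi.single ip 1 := by
        rw [← comp_single f (i := ip) (j := il) (by simp [hip, hil]; omega), mulVec_mulVec, hAinv, one_mulVec]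
      have h2 := congrFun h1 il
      rw [mulVec_single_one, Matrix.col_apply] at h2
      rw [h2, Pi.single_apply, if_neg]
      intro e
      have := congrArg Fin.val e
      simp [hip, hil] at this
      omega
    have hjun : Cn il j0 = α - β - y * l20 := by
      rw [hCn, hC2, Matrix.mul_sub, Matrix.sub_mul, Matrix.add_mul, Matrix.mul_sub, Matrix.mul_add,
        ← Matrix.mul_assoc (A1⁻¹).1 (comp m f * Y) N2, ← Matrix.mul_assoc (A1⁻¹).1 (comp m f) Y, hAinv,
        Matrix.one_mul]
      have h1 : (Y * N2) il j0 = y * l20 := by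
        rw [hY, Matrix.single_mul_apply_same, hN2d, hl20]
      have h2 : ((A1⁻¹).1 * (Y * A' * N2)) il j0 = 0 := by
        rw [Matrix.mul_apply, Finset.sum_eq_single il]
        · rw [hlast, zero_mul]
        · intro x _ hx
          rw [Matrix.mul_assoc, hY, Matrix.single_mul_apply_of_ne (h := hx), mul_zero]
        · simp
      simp only [Matrix.sub_apply, Matrix.add_apply, h1, h2, hα, hβ]
      ring
    have hjun0 : Cn il j0 ≠ 0 := by
      rw [hjun]
      intro e
      refine hy1 ?_
      rw [eq_div_iff (hl _)]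
      linear_combination -e
    set v : ℕ → F := fun j => if j + 1 < m then 1 else if j + 1 = m then Cn il j0 else v2 (j - m) with hv
    refine ⟨PG * diagGL 1 P2 * shiftGL Y, glue (comp m f) C2 A', v, ?_, fun j => ?_, fun a ha => ?_⟩
    · rw [Units.val_mul, Units.val_mul, hPG]
      simp only [shiftGL, diagGL]
      rw [← mul_assoc, ← mul_assoc, hAP, mul_assoc P, mul_assoc P, mul_assoc P, mul_assoc P]
      congr 1
      simp only [glue_mul, Units.val_one, mul_one, one_mul, Matrix.mul_zero, Matrix.zero_mul, add_zero,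
        zero_add, Matrix.one_mul, Matrix.mul_one]
      rw [hAP2]
      congr 1
      · rw [hC2, hC1, sub_eq_add_neg]
        abel_nf


    · simp only [hv]
      split_ifs
      exacts [one_ne_zero, hjun0, hv2 _]
    · set N1 := bd l1 fun j => if j = 0 then a else 1 with hN1
      refine ⟨glue N1 Cn N2, glue_upper _ _ _ (bd_lower _ _) hN2z, fun i => ?_, fun i j h => ?_, ?_⟩
      · refine Fin.addCases (fun i => ?_) (fun i => ?_) i
        · rw [glue_castAdd]; simp [hN1, bd, hl1]
        · rw [glue_natAdd, hN2d]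
      · revert h
        refine Fin.addCases (fun i => ?_) (fun i => ?_) i <;> refine Fin.addCases (fun j => ?_) (fun j => ?_) j <;>
          intro h <;> simp only [Fin.val_castAdd, Fin.val_natAdd] at h
        · rw [glue_castAdd]
          simp [hN1, bd, hv, h, show i ≠ j from fun e => by rw [e] at h; omega, show i.val + 1 < m by
            have := j.isLt; omega]
        · have hi := i.isLt
          have ei : i = il := Fin.ext (by simp [hil]; omega)
          have ej : j = j0 := Fin.ext (by simp [hj0]; omega)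
          subst ei ej
          rw [glue_castAdd_natAdd]
          simp only [Fin.val_castAdd, hv]
          rw [if_neg (by omega), if_neg (by omega), if_pos (by omega)]
        · have := j.isLt; omega
        · rw [glue_natAdd, hN2s' i j (by omega)]
          simp only [Fin.val_natAdd, hv]
          rw [if_neg (by omega), if_neg (by omega), if_neg (by omega), Nat.add_sub_cancel_left]
      · refine ⟨Fin.append 0 w2, ?_⟩
        rw [glue_mul]
        have hc : comp m f * Cn + C2 * N2 = vecMulVec g φ := by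
          rw [hCn, ← Matrix.mul_assoc, ← hA1, Units.mul_inv, Matrix.one_mul, sub_add_cancel]
        rw [hc]
        exact hφ _ _ (hH1 _)

/-- Three conjugates can be cyclic. -/
theorem link [Fintype F] (h4 : 4 ≤ Fintype.card F) (hn : 2 ≤ n) {K : Subgroup Fˣ} {A X : GL (Fin n) F}
    (hK : KerLine A.1) (hX : One K A 2 X) (hXc : ∃ w, Cyc X.1 w) {l : Fin n → F} (hl : Contig l)
    (hXp : X.1.charpoly = ∏ i, (Polynomial.X - C (l i))) :
    ∃ Y : GL (Fin n) F, One K A 3 Y ∧ ∃ w, Cyc Y.1 w := by
  classical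
  have h4F : Four F := fun a b c => by
    obtain ⟨t, ht0, ha, -, -⟩ := avoid_pm h4 a 0
    by_contra h
    push Not at h
    have hsub : (Finset.univ : Finset F) ⊆ {a, b, c} := fun t _ => by
      simp only [Finset.mem_insert, Finset.mem_singleton]
      by_cases h1 : t = a
      · exact Or.inl h1
      by_cases h2 : t = b
      · exact Or.inr (Or.inl h2)
      · exact Or.inr (Or.inr (h t h1 h2))
    have h1 := Finset.card_le_card hsub
    have h2 : ({a, b, c} : Finset F).card ≤ 3 := Finset.card_le_three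
    rw [Finset.card_univ] at h1
    omega
  have hdiag : (Matrix.diagonal l).charpoly = ∏ i, (Polynomial.X - C (l i)) :=
    charpoly_upper (fun a b h => Matrix.diagonal_apply_ne _ (ne_of_lt h).symm) fun a => Matrix.diagonal_apply_eq _ _
  have hl0 : ∀ i, l i ≠ 0 := fun i e => GeneralLinearGroup.det_ne_zero X (by
    rw [Matrix.det_eq_sign_charpoly_coeff, hXp, ← hdiag, ← Matrix.det_eq_sign_charpoly_coeff, det_diagonal]
    exact Finset.prod_eq_zero (Finset.mem_univ i) e)
  obtain ⟨P, A', v, hAP, hv, hall⟩ := exists_link h4F n A.1 hn (GeneralLinearGroup.det_ne_zero A) hK l hl0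
  set B : GL (Fin n) F := P⁻¹ * A * P with hB
  have hBv : B.1 = A' := by
    rw [hB, Units.val_mul, Units.val_mul, mul_assoc, hAP, ← mul_assoc, Units.inv_mul, one_mul]
  have hX' := hX.transport P⁻¹
  rw [inv_inv, ← hB] at hX'
  obtain ⟨w, hw⟩ := hXc
  obtain ⟨Bl, hBl⟩ := exists_GL (S := bd l fun _ => (1 : F)) (by
    rw [Matrix.det_of_isUpperTriangular (fun a b h => bd_lower _ _ a b h)]
    exact Finset.prod_ne_zero_iff.2 fun i _ => by simpa [bd] using hl0 i)
  have hbd1 : ∀ a b : Fin n, a.val + 1 = b.val → Bl.1 a b = 1 := fun a b h => by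
    rw [hBl]; simp [bd, h, show a ≠ b from fun e => by rw [e] at h; omega]
  have hBz : ∀ a b : Fin n, b < a → Bl.1 a b = 0 := fun a b h => by rw [hBl]; exact bd_lower _ _ a b h
  have hBd : ∀ a, Bl.1 a a = l a := fun a => by rw [hBl]; simp [bd]
  obtain ⟨w0, hw0⟩ := cyc_upper hBz hBd hl fun a b h _ => by rw [hbd1 a b h]; exact one_ne_zero
  have hXw := cyc_conj P⁻¹ X hw
  rw [inv_inv] at hXw
  obtain ⟨S0, hS0, -⟩ := exists_similar (X := P⁻¹ * X * P) (Y := Bl) hXw hw0 (by
    rw [Units.val_mul, Units.val_mul, Matrix.charpoly_mul_comm, ← mul_assoc, Units.mul_inv, one_mul, hXp,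
      charpoly_upper hBz hBd])
  set r : F := ∏ k ∈ Finset.range (n - 2), v (k + 1) ^ (k + 1 + 1) with hr
  have hr0 : r ≠ 0 := Finset.prod_ne_zero_iff.2 fun k _ => pow_ne_zero _ (hv _)
  have ha : (GeneralLinearGroup.det S0 : F) / r ≠ 0 := div_ne_zero (Units.ne_zero _) hr0
  obtain ⟨N, hNz, hNd, hNs, wN, hwN⟩ := hall _ ha
  set vN : ℕ → F := fun j => if j = 0 then (GeneralLinearGroup.det S0 : F) / r else v j with hvN
  obtain ⟨Sv, hSv, hSvd⟩ := upper_normal (N := N) (v := vN) hNz hNd hl hNs (fun j _ => by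
    simp only [hvN]; split_ifs
    exacts [ha, hv _])
  have hdetS : GeneralLinearGroup.det Sv = GeneralLinearGroup.det S0 := by
    refine Units.ext (hSvd.trans ?_)
    rw [show n - 1 = n - 2 + 1 by omega, Finset.prod_range_succ']
    simp only [hvN, Nat.succ_ne_zero, if_false, if_true, zero_add, pow_one, ← hr]
    rw [mul_comm, div_mul_cancel₀ _ hr0]
  obtain ⟨NG, hNG⟩ := exists_GL (S := N) (by
    rw [Matrix.det_of_isUpperTriangular (fun a b h => hNz a b h)]
    exact Finset.prod_ne_zero_iff.2 fun i _ => by rw [hNd]; exact hl0 i)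
  have hN : NG = (Sv * S0⁻¹) * (P⁻¹ * X * P) * (Sv * S0⁻¹)⁻¹ := by
    rw [hS0, show NG = Sv * Bl * Sv⁻¹ from eq_conj_of_mul (by rw [hNG, hBl]; exact hSv)]
    group
  have hX'' := hX'.conj (S := Sv * S0⁻¹) (by
    rw [map_mul, map_inv, hdetS, mul_inv_cancel]; exact K.one_mem)
  rw [← hN] at hX''
  have hY := (One.mul (one_one_iff.2 (Fac.self K B)) hX'').transport P
  rw [show P * B * P⁻¹ = A by rw [hB]; group] at hY
  refine ⟨_, hY, _, cyc_conj P (B * NG) (w := wN) ?_⟩
  rw [Units.val_mul, hBv, hNG]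
  exact hwN

end Cfsg.Agent.Lib.LevCover
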