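import Cfsg.Agent.Lib.LevCover.Top1

/-!
Fewer conjugates of a transvection do not give everything.
-/

set_option autoImplicit false

namespace Cfsg.Agent.Lib.LevCover

open Matrix Polynomial

variable {F : Type*} [Field F] {n : ℕ}

/-- An element of determinant one without eigenvector. -/
theorem exists_noEig_sl [Fintype F] (hn : 2 ≤ n) :
    ∃ G : Matrix.SpecialLinearGroup (Fin n) F, NoEig G.1 := by
  classical
  set δ : F := (-1) ^ n with hδ
  have hδ0 : δ ≠ 0 := pow_ne_zero _ (neg_ne_zero.2 one_ne_zero)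
  obtain ⟨c, hc⟩ : ∃ c : F, ∀ x : Fˣ, -((x : F) ^ n + δ) / (x : F) ≠ c := by
    by_contra h
    push Not at h
    have h1 := Fintype.card_le_of_surjective _ h
    rw [Fintype.card_units] at h1
    have := Fintype.card_pos (α := F)
    omega
  set f : F[X] := Polynomial.X ^ n + (C c * Polynomial.X + C δ) with hf
  have hdeg : (C c * Polynomial.X + C δ).degree < (n : WithBot ℕ) :=
    lt_of_le_of_lt degree_linear_le (by exact_mod_cast (show 1 < n by omega))
  have hfm : f.Monic := monic_X_pow_add hdeg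
  have hfd : f.natDegree = n := by
    refine natDegree_eq_of_degree_eq_some ?_
    rw [hf, degree_add_eq_left_of_degree_lt (by rwa [degree_X_pow]), degree_X_pow]
  have hf0 : f.coeff 0 = δ := by
    rw [hf, coeff_zero_eq_eval_zero]
    simp [show n ≠ 0 by omega]
  have hcd : (comp n f).det = 1 := by
    rw [Matrix.det_eq_sign_charpoly_coeff, comp_charpoly hfm hfd, hf0, Fintype.card_fin, hδ, ← mul_pow,
      neg_one_mul, neg_neg, one_pow]
  refine ⟨⟨comp n f, hcd⟩, fun b u hu => by_contra fun hu0 => ?_⟩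
  have h0 : (Matrix.scalar (Fin n) b - comp n f).det = 0 :=
    Matrix.exists_mulVec_eq_zero_iff.1 ⟨u, hu0, by
      have hs : Matrix.scalar (Fin n) b *ᵥ u = b • u := by
        funext i; simp [Matrix.scalar_apply, Matrix.mulVec_diagonal]
      rw [sub_mulVec, hs, hu, sub_self]⟩
  rw [← Matrix.eval_charpoly, comp_charpoly hfm hfd, hf] at h0
  simp at h0
  rcases eq_or_ne b 0 with rfl | hb
  · rw [zero_pow (by omega), zero_add, mul_zero, zero_add] at h0
    exact hδ0 h0
  · refine hc (Units.mk0 b hb) ?_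
    rw [Units.val_mk0, div_eq_iff hb]
    linear_combination -h0

/-- A product of fewer than `n` conjugates of a transvection fixes a vector. -/
theorem exists_fixed {k : ℕ} (hk : k < n) {u v : Fin n → F} {X : Matrix.SpecialLinearGroup (Fin n) F}
    (hX : X.1 = 1 + vecMulVec u v) (S : Fin k → Matrix.SpecialLinearGroup (Fin n) F) :
    ∃ w : Fin n → F, w ≠ 0 ∧ (List.ofFn fun i => S i * X * (S i)⁻¹).prod.1 *ᵥ w = w := by
  set L : (Fin n → F) →ₗ[F] (Fin k → F) :=
    (Matrix.of fun i => v ᵥ* ((S i)⁻¹).1).mulVecLin with hL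
  have hker : LinearMap.ker L ≠ ⊥ := fun e => by
    have h1 := LinearMap.finrank_range_add_finrank_ker L
    rw [e, finrank_bot, Module.finrank_fin_fun] at h1
    have h2 := Submodule.finrank_le (LinearMap.range L)
    rw [Module.finrank_fin_fun] at h2
    omega
  obtain ⟨w, hw, hw0⟩ := (Submodule.ne_bot_iff _).1 hker
  refine ⟨w, hw0, ?_⟩
  have hfix : ∀ i, (S i * X * (S i)⁻¹).1 *ᵥ w = w := by
    intro i
    have h1 : v ⬝ᵥ (((S i)⁻¹).1 *ᵥ w) = 0 := by
      rw [dotProduct_mulVec]
      exact congrFun hw i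
    rw [Matrix.SpecialLinearGroup.coe_mul, Matrix.SpecialLinearGroup.coe_mul, ← mulVec_mulVec, ← mulVec_mulVec, hX,
      add_mulVec, one_mulVec, vecMulVec_mulVec, h1, MulOpposite.op_zero, zero_smul, add_zero, mulVec_mulVec,
      ← Matrix.SpecialLinearGroup.coe_mul, mul_inv_cancel, Matrix.SpecialLinearGroup.coe_one, one_mulVec]
  have key : ∀ l : List (Matrix.SpecialLinearGroup (Fin n) F), (∀ B ∈ l, B.1 *ᵥ w = w) → l.prod.1 *ᵥ w = w := by
    intro l hl
    induction l with
    | nil => simp
    | cons B l ih =>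
      rw [List.prod_cons, Matrix.SpecialLinearGroup.coe_mul, ← mulVec_mulVec,
        ih fun C hC => hl C (List.mem_cons_of_mem _ hC), hl B List.mem_cons_self]
  exact key _ fun B hB => by
    rw [List.mem_ofFn] at hB
    obtain ⟨i, rfl⟩ := hB
    exact hfix i

/-- The factors of a list read in the special linear group. -/
theorem One.to_sl {X : Matrix.SpecialLinearGroup (Fin n) F} {j : ℕ} {g : GL (Fin n) F}
    (h : One ⊥ (Matrix.SpecialLinearGroup.toGL X) j g) :
    ∃ S : Fin j → Matrix.SpecialLinearGroup (Fin n) F,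
      Matrix.SpecialLinearGroup.toGL (List.ofFn fun i => S i * X * (S i)⁻¹).prod = g := by
  induction h with
  | nil => exact ⟨Fin.elim0, by simp⟩
  | @cons j B g hB _ ih =>
    obtain ⟨T, hT, rfl⟩ := hB
    obtain ⟨S, hS⟩ := ih
    rw [Subgroup.mem_bot] at hT
    set T0 : Matrix.SpecialLinearGroup (Fin n) F := ⟨T.1, by rw [← det_val, hT, Units.val_one]⟩ with hT0
    have hTT : Matrix.SpecialLinearGroup.toGL T0 = T := Units.ext rfl
    refine ⟨Fin.cons T0 S, ?_⟩
    rw [List.ofFn_succ, List.prod_cons]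
    simp only [Fin.cons_zero, Fin.cons_succ]
    rw [map_mul, map_mul, map_mul, map_inv, hTT, hS]

end Cfsg.Agent.Lib.LevCover
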