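import Cfsg.Agent.Lib.LevCover.FullCrit

/-!
Degree four without eigenvectors, the minimal polynomial a square.
-/

set_option autoImplicit false

namespace Cfsg.Agent.Lib.LevCover

open Matrix Polynomial
open Cfsg.Agent.Lib.Sourour (four_of_fintype)

variable {F : Type*} [Field F]

/-- The block form of a square. -/
def sqForm (t d : F) : Matrix (Fin (2 + 2)) (Fin (2 + 2)) F := glue (cmp2 t d) (Matrix.single 0 1 1) (cmp2 t d)

theorem sqForm_eq (t d : F) :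
    (sqForm t d : Matrix (Fin 4) (Fin 4) F) = !![0, -d, 0, 1; 1, t, 0, 0; 0, 0, 0, -d; 0, 0, 1, t] := by
  ext i j
  fin_cases i <;> fin_cases j <;> rfl

theorem split_form {A : GL (Fin 4) F} {p : F[X]} (hpm : p.Monic) (hpd : p.natDegree = 2)
    (h : aeval A.1 (p * p) = 0) {v : Fin 4 → F} (hv : Cyc A.1 v) :
    ∃ P : GL (Fin 4) F, A.1 * P.1 = P.1 * sqForm (-p.coeff 1) (p.coeff 0) := by
  set t := -p.coeff 1 with ht
  set d := p.coeff 0 with hd
  set w := aeval A.1 p *ᵥ v with hw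
  have hN : ∀ u, aeval A.1 p *ᵥ u = A.1 *ᵥ (A.1 *ᵥ u) - t • (A.1 *ᵥ u) + d • u := fun u => by
    rw [aeval_quad A.1 hpd hpm, add_mulVec, add_mulVec, smul_mulVec, smul_mulVec, one_mulVec, ← mulVec_mulVec, ht,
      neg_smul, sub_neg_eq_add]
  have hpw : aeval A.1 p *ᵥ w = 0 := by rw [hw, mulVec_mulVec, ← map_mul, h, zero_mulVec]
  have hind : LinearIndependent F ![w, A.1 *ᵥ w, v, A.1 *ᵥ v] := by
    refine Fintype.linearIndependent_iff.2 fun l hl => ?_
    simp only [Fin.sum_univ_four, Matrix.cons_val] at hl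
    set q : F[X] := (C (l 0) + C (l 1) * Polynomial.X) * p + (C (l 2) + C (l 3) * Polynomial.X) with hq
    have hqv : aeval A.1 q *ᵥ v = 0 := by
      rw [← hl, hq]
      simp only [map_add, map_mul, aeval_C, aeval_X, Algebra.algebraMap_eq_smul_one, add_mulVec, smul_mulVec,
        one_mulVec, Matrix.smul_mul, one_mul, ← mulVec_mulVec, ← hw]
      abel
    have hq0 : q = 0 := by
      refine hv.eq_zero ?_ hqv
      have h1 : ((C (l 0) + C (l 1) * Polynomial.X) * p).natDegree ≤ 3 := by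
        refine le_trans natDegree_mul_le ?_
        have : (C (l 0) + C (l 1) * Polynomial.X : F[X]).natDegree ≤ 1 := by compute_degree
        omega
      have h2 : (C (l 2) + C (l 3) * Polynomial.X : F[X]).natDegree ≤ 1 := by compute_degree
      have := natDegree_add_le ((C (l 0) + C (l 1) * Polynomial.X) * p) (C (l 2) + C (l 3) * Polynomial.X)
      rw [← hq] at this
      omega
    have hp' : p = Polynomial.X ^ 2 + C (p.coeff 1) * Polynomial.X + C (p.coeff 0) := by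
      ext m
      rcases (show m = 0 ∨ m = 1 ∨ m = 2 ∨ 3 ≤ m by omega) with rfl | rfl | rfl | hm
      · simp
      · simp [coeff_C]
      · simpa [coeff_C, coeff_X] using (hpd ▸ hpm.coeff_natDegree : p.coeff 2 = 1)
      · rw [coeff_eq_zero_of_natDegree_lt (by omega)]
        simp [coeff_C, coeff_X, show m ≠ 2 by omega, show m ≠ 1 by omega, show m ≠ 0 by omega,
          show (1 : ℕ) ≠ m by omega]
    rw [hq, hp'] at hq0
    have c3 := congrArg (coeff · 3) hq0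
    have c2 := congrArg (coeff · 2) hq0
    have c1 := congrArg (coeff · 1) hq0
    have c0 := congrArg (coeff · 0) hq0
    simp [add_mul, mul_add, mul_assoc, coeff_C, coeff_X, coeff_mul_X, Polynomial.coeff_C_mul] at c3 c2 c1 c0
    have e1 : l 1 = 0 := by simpa [coeff_X_pow, pow_succ] using c3
    simp [e1, pow_succ] at c2 c1 c0
    have e0 : l 0 = 0 := by simpa using c2
    simp [e0] at c1 c0
    intro i
    fin_cases i <;> assumption
  obtain ⟨P, hP⟩ := extend_cols (le_refl 4) ![w, A.1 *ᵥ w, v, A.1 *ᵥ v] hind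
  have hP' : ∀ i, P.1 *ᵥ Pi.single i 1 = ![w, A.1 *ᵥ w, v, A.1 *ᵥ v] i := fun i => hP i
  refine ⟨P, Matrix.ext_of_mulVec_single fun j => ?_⟩
  rw [← mulVec_mulVec, ← mulVec_mulVec, hP' j, sqForm_eq]
  have hcol : ∀ j, (!![0, -d, 0, 1; 1, t, 0, 0; 0, 0, 0, -d; 0, 0, 1, t] : Matrix (Fin 4) (Fin 4) F) *ᵥ
      Pi.single j 1 = ![Pi.single 1 1, t • Pi.single 1 1 - d • Pi.single 0 1, Pi.single 3 1,
        Pi.single 0 1 + t • Pi.single 3 1 - d • Pi.single 2 1] j := fun j => by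
    funext i
    fin_cases j <;> fin_cases i <;> simp [mulVec_single_one]
  rw [hcol j]
  fin_cases j
  · exact (hP' 1).symm
  · show A.1 *ᵥ (A.1 *ᵥ w) = P.1 *ᵥ (t • Pi.single 1 1 - d • Pi.single 0 1)
    rw [mulVec_sub, mulVec_smul, mulVec_smul, hP' 1, hP' 0]
    simp only [Matrix.cons_val_zero, Matrix.cons_val_one]
    rw [← sub_eq_zero, ← hpw, hN]
    abel
  · exact (hP' 3).symm
  · show A.1 *ᵥ (A.1 *ᵥ v) = P.1 *ᵥ (Pi.single 0 1 + t • Pi.single 3 1 - d • Pi.single 2 1)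
    rw [mulVec_sub, mulVec_add, mulVec_smul, mulVec_smul, hP' 3, hP' 2, hP' 0]
    simp only [Matrix.cons_val]
    rw [hw, hN]
    abel

theorem glue_aeval_diag {m k : ℕ} (A1 : Matrix (Fin m) (Fin m) F) (C0 : Matrix (Fin m) (Fin k) F)
    (A2 : Matrix (Fin k) (Fin k) F) (q : F[X]) :
    ∃ C, aeval (glue A1 C0 A2) q = glue (aeval A1 q) C (aeval A2 q) := by
  induction q using Polynomial.induction_on with
  | C a =>
    refine ⟨0, ?_⟩
    simp only [aeval_C, Algebra.algebraMap_eq_smul_one]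
    rw [← glue_one]
    ext i j
    refine Fin.addCases (fun i => ?_) (fun i => ?_) i <;> refine Fin.addCases (fun j => ?_) (fun j => ?_) j <;>
      simp [glue_castAdd, glue_natAdd, glue_castAdd_natAdd, glue_natAdd_castAdd]
  | add p r hp hr =>
    obtain ⟨C1, h1⟩ := hp
    obtain ⟨C2, h2⟩ := hr
    refine ⟨C1 + C2, ?_⟩
    rw [map_add, map_add, map_add, h1, h2]
    ext i j
    refine Fin.addCases (fun i => ?_) (fun i => ?_) i <;> refine Fin.addCases (fun j => ?_) (fun j => ?_) j <;>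
      simp [glue_castAdd, glue_natAdd, glue_castAdd_natAdd, glue_natAdd_castAdd]
  | monomial m a ih =>
    obtain ⟨C1, h1⟩ := ih
    refine ⟨aeval A1 (Polynomial.C a * Polynomial.X ^ m) * C0 + C1 * A2, ?_⟩
    rw [pow_succ, ← mul_assoc, map_mul, map_mul _ (_ * _) Polynomial.X, map_mul _ (_ * _) Polynomial.X, aeval_X,
      aeval_X, aeval_X, h1, glue_mul]

/-- The centralizer reaches every square. -/
theorem exists_sq [Finite F] {A P : GL (Fin 4) F} {t d : F} (hP : A.1 * P.1 = P.1 * sqForm t d)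
    (hirr : ∀ a : F, a * a - t * a + d ≠ 0) (s : Fˣ) :
    ∃ Z : GL (Fin 4) F, Z * A = A * Z ∧ GeneralLinearGroup.det Z = s ^ 2 := by
  set p : F[X] := Polynomial.X ^ 2 - C t * Polynomial.X + C d with hp
  have hpd : p.natDegree = 2 := by rw [hp]; compute_degree!
  have hpm : p.Monic := by rw [hp]; monicity!
  have hpi : Irreducible p := by
    rw [Monic.irreducible_iff_roots_eq_zero_of_degree_le_three hpm hpd.ge (by omega)]
    refine Multiset.eq_zero_of_forall_notMem fun a ha => hirr a ?_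
    rw [mem_roots hpm.ne_zero, IsRoot.def, hp] at ha
    simp at ha
    linear_combination ha
  obtain ⟨q, hq⟩ := comp_norm hpi hpm hpd (s : F)
  have hc : comp 2 p = cmp2 t d := by
    rw [cmp2_eq hpm hpd]
    congr 1 <;> simp [hp, coeff_C]
  rw [hc] at hq
  obtain ⟨C, hC⟩ := glue_aeval_diag (cmp2 t d) (Matrix.single 0 1 1) (cmp2 t d) q
  have hd2 : (aeval A.1 q).det = (s : F) * s := by
    have h1 := congrArg Matrix.det (aeval_conj A.1 P.1 (sqForm t d) hP q)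
    rw [det_mul, det_mul, sqForm, hC, glue_det, hq, mul_comm] at h1
    exact mul_left_cancel₀ (GeneralLinearGroup.det_ne_zero P) h1
  obtain ⟨Z, hZ⟩ := exists_GL (S := aeval A.1 q) (by rw [hd2]; exact mul_ne_zero s.ne_zero s.ne_zero)
  refine ⟨Z, Units.ext ?_, Units.ext ?_⟩
  · rw [Units.val_mul, Units.val_mul, hZ]
    have h1 := congrArg (aeval A.1) (mul_comm q Polynomial.X)
    rwa [map_mul, map_mul, aeval_X] at h1
  · rw [det_val, hZ, hd2, Units.val_pow_eq_pow_val, sq]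

/-- A split pair with a simple value and a symmetric list. -/
theorem finish_four [Fintype F] (h4 : 4 ≤ Fintype.card F) {A X g : GL (Fin 4) F} (hX : One ⊥ A 2 X)
    (hXc : ∃ w, Cyc X.1 w) {l : Fin 4 → F} (hl : Contig l) (hl0 : ∀ i, l i ≠ 0)
    (hXp : X.1.charpoly = ∏ i, (Polynomial.X - C (l i)))
    (hsym : ∏ i, (Polynomial.X - C (1 * (l i)⁻¹)) = ∏ i, (Polynomial.X - C (l i))) {i0 : Fin 4}
    (hs : ∀ i, i ≠ i0 → l i ≠ l i0) (hdet : GeneralLinearGroup.det g = 1)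
    (hg : (∀ c : F, g.1 ≠ c • 1) ∨ g = 1) : One ⊥ A 4 g := by
  have hg' : (∀ c : F, g.1 ≠ c • 1) ∨ g.1 = (1 : F) • 1 := hg.imp_right fun e => by rw [e, one_smul]; rfl
  obtain ⟨L, U, rfl, hLc, hLp, hUc, hUp⟩ := split_any h4 (by norm_num) g one_ne_zero
    (by rw [hdet, Units.val_one, one_pow]) hg' hl hl0
  have hC := hX.cls (full_list X hXc hXp i0 hs ⊥)
  exact One.mul (similar_list hC hXc hLc (hLp.trans hXp.symm)).self
    (similar_list hC hXc hUc (hUp.trans (hsym.trans hXp.symm))).self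

/-- A pair whose conjugator has square determinant. -/
theorem pair_sq {A P T : GL (Fin 4) F} {B : GL (Fin 4) F} (hA : A = P * B * P⁻¹)
    (hZ : ∀ s : Fˣ, ∃ Z : GL (Fin 4) F, Z * A = A * Z ∧ GeneralLinearGroup.det Z = s ^ 2) (s : Fˣ)
    (hT : GeneralLinearGroup.det T = s ^ 2) : One ⊥ A 2 (P * (T * B * T⁻¹ * B) * P⁻¹) := by
  obtain ⟨Z, hZc, hZd⟩ := hZ s⁻¹
  have h1 : Fac ⊥ A (P * T * P⁻¹ * Z * A * (P * T * P⁻¹ * Z)⁻¹) := by
    refine ⟨P * T * P⁻¹ * Z, Subgroup.mem_bot.2 ?_, rfl⟩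
    rw [map_mul, map_mul, map_mul, map_inv, hT, hZd, mul_comm (GeneralLinearGroup.det P), mul_inv_cancel_right,
      ← mul_pow, mul_inv_cancel, one_pow]
  have h2 := One.mul (one_one_iff.2 h1) (one_one_iff.2 (Fac.self ⊥ A))
  have e : P * T * P⁻¹ * Z * A * (P * T * P⁻¹ * Z)⁻¹ = P * T * P⁻¹ * A * (P * T * P⁻¹)⁻¹ := by
    rw [_root_.mul_inv_rev, mul_assoc (P * T * P⁻¹) Z A, hZc]; group
  rw [e, hA, show P * T * P⁻¹ * (P * B * P⁻¹) * (P * T * P⁻¹)⁻¹ * (P * B * P⁻¹) = P * (T * B * T⁻¹ * B) * P⁻¹ by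
    group, ← hA] at h2
  exact h2

theorem five_table : ∀ t d : ZMod 5, d * d = 1 → (∀ a : ZMod 5, a * a - t * a + d ≠ 0) →
    ∃ T Ti P : Matrix (Fin 4) (Fin 4) (ZMod 5), T * Ti = 1 ∧ (T.det = 1 ∨ T.det = 2 * 2) ∧ P.det ≠ 0 ∧
      T * !![0, -d, 0, 1; 1, t, 0, 0; 0, 0, 0, -d; 0, 0, 1, t] * Ti *
        !![0, -d, 0, 1; 1, t, 0, 0; 0, 0, 0, -d; 0, 0, 1, t] * P =
      P * !![1, 1, 0, 0; 0, 1, 1, 0; 0, 0, 2, 1; 0, 0, 0, 3] := by
  intro t d h1 h2
  have h : (t = 1 ∧ d = 1) ∨ (t = 4 ∧ d = 1) ∨ (t = 2 ∧ d = 4) ∨ (t = 3 ∧ d = 4) := by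
    revert t d; decide +kernel
  rcases h with ⟨rfl, rfl⟩ | ⟨rfl, rfl⟩ | ⟨rfl, rfl⟩ | ⟨rfl, rfl⟩
  · exact ⟨!![0, 1, 4, 2; 0, 1, 2, 3; 4, 1, 2, 0; 3, 0, 0, 2], !![0, 4, 1, 4; 4, 1, 1, 2; 3, 4, 3, 1; 0, 4, 1, 2],
      !![1, 0, 0, 1; 0, 3, 3, 0; 1, 3, 0, 4; 4, 3, 0, 4], by decide +kernel⟩
  · exact ⟨!![4, 1, 4, 0; 3, 1, 3, 0; 0, 0, 0, 1; 3, 2, 2, 2], !![4, 4, 3, 1; 2, 4, 0, 0; 2, 0, 2, 4; 0, 0, 1, 0],
      !![1, 0, 0, 1; 1, 3, 1, 0; 0, 0, 3, 4; 1, 3, 3, 2], by decide +kernel⟩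
  · exact ⟨!![0, 2, 0, 3; 0, 0, 3, 0; 1, 3, 0, 0; 2, 0, 0, 0], !![0, 0, 0, 3; 0, 0, 2, 4; 0, 2, 0, 0; 2, 0, 2, 4],
      !![1, 0, 0, 1; 0, 0, 4, 0; 0, 2, 1, 2; 0, 1, 2, 0], by decide +kernel⟩
  · exact ⟨!![0, 2, 0, 2; 0, 0, 2, 0; 3, 2, 0, 0; 0, 2, 3, 0], !![0, 3, 2, 3; 0, 3, 0, 3; 0, 3, 0, 0; 3, 2, 0, 2],
      !![1, 0, 0, 0; 1, 3, 3, 4; 0, 4, 3, 4; 3, 3, 1, 4], by decide +kernel⟩

theorem five_facts :
    ((1 : ZMod 5) ≠ 0 ∧ (2 : ZMod 5) ≠ 0 ∧ (2 * 2 : ZMod 5) ≠ 0) ∧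
    (!![1, 1, 0, 0; 0, 1, 1, 0; 0, 0, 2, 1; 0, 0, 0, 3] : Matrix (Fin 4) (Fin 4) (ZMod 5)).det ≠ 0 ∧
    (∀ i j k : Fin 4, i ≤ j → j ≤ k → (![1, 1, 2, 3] : Fin 4 → ZMod 5) i = ![1, 1, 2, 3] k →
      (![1, 1, 2, 3] : Fin 4 → ZMod 5) j = ![1, 1, 2, 3] i) ∧
    (∀ i : Fin 4, (![1, 1, 2, 3] : Fin 4 → ZMod 5) i ≠ 0) ∧
    (∀ i : Fin 4, (![1, 1, 2, 3] : Fin 4 → ZMod 5) i = ![1, 1, 2, 3] 2 → i = 2) ∧ (2 * 3 : ZMod 5) = 1 := by
  decide +kernel

/-- Five elements. -/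
theorem ne4_five [Fintype F] (h5 : Fintype.card F = 5) {A P : GL (Fin 4) F} {t d : F}
    (hP : A.1 * P.1 = P.1 * sqForm t d) (hirr : ∀ a : F, a * a - t * a + d ≠ 0) (hd : d * d = 1)
    {g : GL (Fin 4) F} (hdet : GeneralLinearGroup.det g = 1) (hg : (∀ c : F, g.1 ≠ c • 1) ∨ g = 1) :
    One ⊥ A 4 g := by
  haveI : Fact (Nat.Prime 5) := ⟨by norm_num⟩
  set φ : ZMod 5 ≃+* F := ZMod.ringEquivOfPrime F (by norm_num) h5 with hφ
  obtain ⟨t', rfl⟩ := φ.surjective t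
  obtain ⟨d', rfl⟩ := φ.surjective d
  obtain ⟨T, Ti, Q, h1, h2, h3, h4'⟩ := five_table t' d' (φ.injective (by rw [map_mul, map_one]; exact hd))
    (fun a ha => hirr (φ a) (by rw [← map_mul, ← map_mul, ← map_sub, ← map_add, ha, map_zero]))
  set f : ZMod 5 →+* F := φ.toRingHom with hf
  have hG : (!![0, -d', 0, 1; 1, t', 0, 0; 0, 0, 0, -d'; 0, 0, 1, t'] : Matrix (Fin 4) (Fin 4) (ZMod 5)).map f =
      (sqForm (φ t') (φ d') : Matrix (Fin 4) (Fin 4) F) := by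
    rw [sqForm_eq]
    ext i j
    fin_cases i <;> fin_cases j <;> simp [hf]
  have hdf : ∀ M : Matrix (Fin 4) (Fin 4) (ZMod 5), (M.map f).det = f M.det := fun M => by
    rw [RingHom.map_det]; rfl
  have hne : ∀ x : ZMod 5, x ≠ 0 → f x ≠ 0 := fun x hx e => hx (f.injective (e.trans (map_zero f).symm))
  obtain ⟨TG, hTG⟩ := exists_GL (S := T.map f) (by
    rw [hdf]; exact hne _ (by rcases h2 with h | h <;> rw [h]; exacts [five_facts.1.1, five_facts.1.2.2]))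
  obtain ⟨QG, hQG⟩ := exists_GL (S := Q.map f) (by rw [hdf]; exact hne _ h3)
  have hTi : Ti.map f = (TG⁻¹).1 := by
    refine (Units.mul_right_inj TG).1 ?_
    rw [Units.mul_inv, hTG, ← Matrix.map_mul, h1, Matrix.map_one f (map_zero f) (map_one f)]
  obtain ⟨s, hs⟩ : ∃ s : Fˣ, GeneralLinearGroup.det TG = s ^ 2 := by
    rcases h2 with h | h
    · exact ⟨1, Units.ext (by rw [det_val, hTG, hdf, h, map_one, one_pow, Units.val_one])⟩
    · exact ⟨Units.mk0 (f 2) (hne _ five_facts.1.2.1), Units.ext (by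
        rw [det_val, hTG, hdf, h, map_mul, Units.val_pow_eq_pow_val, Units.val_mk0, sq])⟩
  set B := P⁻¹ * A * P with hB
  have hBv : B.1 = sqForm (φ t') (φ d') := by
    rw [hB, Units.val_mul, Units.val_mul, mul_assoc, hP, ← mul_assoc, Units.inv_mul, one_mul]
  set X0 := TG * B * TG⁻¹ * B with hX0
  have hX := pair_sq (P := P) (T := TG) (B := B) (by rw [hB]; group) (exists_sq hP hirr) s hs
  obtain ⟨UG, hUG⟩ := exists_GL
    (S := (!![1, 1, 0, 0; 0, 1, 1, 0; 0, 0, 2, 1; 0, 0, 0, 3] : Matrix (Fin 4) (Fin 4) (ZMod 5)).map f)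
    (by rw [hdf]; exact hne _ five_facts.2.1)
  have hXU : X0 = QG * UG * QG⁻¹ := by
    refine eq_conj_of_mul ?_
    rw [hX0, Units.val_mul, Units.val_mul, Units.val_mul, hBv, ← hG, hTG, ← hTi, hQG, hUG, ← Matrix.map_mul,
      ← Matrix.map_mul, ← Matrix.map_mul, ← Matrix.map_mul, h4', Matrix.map_mul]
  set l : Fin 4 → F := fun i => f (![1, 1, 2, 3] i) with hl
  have hz : ∀ i j : Fin 4, j < i → UG.1 i j = 0 := by
    intro i j h
    rw [hUG]
    fin_cases i <;> fin_cases j <;> first | (exact absurd h (by decide)) | simp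
  have hd' : ∀ i, UG.1 i i = l i := fun i => by rw [hUG]; fin_cases i <;> simp [hl]
  have hinj : ∀ i j, l i = l j → (![1, 1, 2, 3] : Fin 4 → ZMod 5) i = ![1, 1, 2, 3] j := fun i j h => f.injective h
  have hc : Contig l := by
    intro i j k hij hjk e
    exact congrArg f (five_facts.2.2.1 i j k hij hjk (hinj _ _ e))
  obtain ⟨w, hw⟩ := cyc_upper hz hd' hc (fun i j h _ => by
    rw [hUG]
    fin_cases i <;> fin_cases j <;> simp at h ⊢)
  refine finish_four (by omega) hX (l := l) (i0 := 2) ⟨_, cyc_conj P _ (show Cyc X0.1 _ by rw [hXU]; exact cyc_conj QG UG hw)⟩ hc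
    (fun i => hne _ (five_facts.2.2.2.1 i)) ?_ ?_ (fun i hi e => hi (five_facts.2.2.2.2.1 i (hinj _ _ e))) hdet hg
  · rw [Units.val_mul, Units.val_mul, Matrix.charpoly_mul_comm, ← mul_assoc, Units.inv_mul, one_mul, ← hX0, hXU,
      Units.val_mul, Units.val_mul, Matrix.charpoly_mul_comm, ← mul_assoc, Units.inv_mul, one_mul,
      charpoly_upper hz hd']
  · have h23 : f 2 * f 3 = 1 := by rw [← map_mul, five_facts.2.2.2.2.2, map_one]
    have e2 : (f 2)⁻¹ = f 3 := inv_eq_of_mul_eq_one_right h23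
    have e3 : (f 3)⁻¹ = f 2 := inv_eq_of_mul_eq_one_left h23
    simp only [hl, one_mul, Fin.prod_univ_four, Matrix.cons_val, map_one, inv_one, e2, e3]
    ring

/-- The result. -/
theorem ne4_exact [Fintype F] (h4 : 4 ≤ Fintype.card F) {A : GL (Fin 4) F} (hNE : NoEig A.1)
    (hc : ∃ w, Cyc A.1 w) {p : F[X]} (hpi : Irreducible p) (hpm : p.Monic) (hpd : p.natDegree = 2)
    (hpA : aeval A.1 (p * p) = 0) (hdA : GeneralLinearGroup.det A = 1) {g : GL (Fin 4) F}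
    (hdet : GeneralLinearGroup.det g = 1) (hg : (∀ c : F, g.1 ≠ c • 1) ∨ g = 1) : One ⊥ A 4 g := by
  classical
  by_cases h2 : (2 : F) = 0
  · exact One.of_full (full_of_pow A (fourth_powers h2) ⊥) (weak_four h4 hNE (by rw [hdet, hdA, one_pow])
      (hg.imp_right fun e => by rw [hdA, Units.val_one, one_smul, e]; rfl))
  obtain ⟨v, hv⟩ := hc
  obtain ⟨P, hP⟩ := split_form hpm hpd hpA hv
  set t := -p.coeff 1 with ht
  set d := p.coeff 0 with hd
  have hirr : ∀ a : F, a * a - t * a + d ≠ 0 := by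
    intro a ha
    refine absurd ((Monic.irreducible_iff_roots_eq_zero_of_degree_le_three hpm hpd.ge (by omega)).1 hpi) ?_
    refine fun e => Multiset.notMem_zero a (e ▸ (mem_roots hpm.ne_zero).2 ?_)
    rw [IsRoot.def, eval_eq_sum_range' (n := 3) (by omega), Finset.sum_range_succ, Finset.sum_range_succ,
      Finset.sum_range_one, show p.coeff 2 = 1 from hpd ▸ hpm.coeff_natDegree]
    rw [ht, hd] at ha
    linear_combination ha
  have hdd : d * d = 1 := by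
    have h1 := congrArg Matrix.det hP
    rw [det_mul, det_mul, sqForm, glue_det, ← det_val, hdA, Units.val_one, one_mul, cmp2, det_fin_two_of] at h1
    refine mul_left_cancel₀ (GeneralLinearGroup.det_ne_zero P) ((Eq.trans ?_ h1.symm).trans (mul_one _).symm)
    ring
  rcases (show Fintype.card F = 4 ∨ Fintype.card F = 5 ∨ 6 ≤ Fintype.card F by omega) with h | h | h
  · exfalso
    refine h2 ?_
    have h' := FiniteField.cast_card_eq_zero F
    rw [h] at h'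
    exact mul_self_eq_zero.1 (by push_cast at h' ⊢; linear_combination h')
  · exact ne4_five h hP hirr hdd hdet hg
  obtain ⟨u, hu0, hu4⟩ : ∃ u : F, u ≠ 0 ∧ u ^ 4 ≠ 1 := by
    by_contra hno
    push Not at hno
    have hsub : (Finset.univ : Finset F) ⊆ insert 0 (nthRoots 4 (1 : F)).toFinset := fun x _ => by
      rw [Finset.mem_insert, Multiset.mem_toFinset, mem_nthRoots (by norm_num)]
      rcases eq_or_ne x 0 with hx | hx
      exacts [Or.inl hx, Or.inr (hno x hx)]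
    have h1 := (Finset.card_le_card hsub).trans (Finset.card_insert_le _ _)
    have h2' := (Multiset.toFinset_card_le _).trans (card_nthRoots 4 (1 : F))
    rw [Finset.card_univ] at h1
    omega
  set f := A.1.charpoly with hf
  have hfd : f.natDegree = 4 := by rw [hf, Matrix.charpoly_natDegree_eq_dim, Fintype.card_fin]
  have hf0 : f.coeff 0 ≠ 0 := fun h => GeneralLinearGroup.det_ne_zero A (by
    rw [Matrix.det_eq_sign_charpoly_coeff, ← hf, h, mul_zero])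
  have hcd : (comp 4 f).det = A.1.det := by
    rw [Matrix.det_eq_sign_charpoly_coeff, comp_charpoly A.1.charpoly_monic hfd,
      ← Matrix.det_eq_sign_charpoly_coeff]
  obtain ⟨B, hB⟩ := exists_GL (S := comp 4 f) (hcd ▸ GeneralLinearGroup.det_ne_zero A)
  obtain ⟨P', hP', -⟩ := exists_similar (X := A) (Y := B) hv (w := Pi.single (0 : Fin 4) 1)
    (by rw [hB]; exact comp_cyc f (by omega)) (by rw [hB, comp_charpoly A.1.charpoly_monic hfd])
  obtain ⟨D, hD, ⟨κ, hκ, hDκ⟩, hblk⟩ := block_big (four_of_fintype h4) 1 hf0 (x0 := 1) one_ne_zero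
  have hD1 : D = 1 ∨ D = -1 := by simpa [hDκ] using hκ
  set x := D * (u * u) with hx
  obtain ⟨T, X, hdT, hX, hz, hd0, hd1, hKX, -, -⟩ := hblk x (mul_ne_zero hD (mul_ne_zero hu0 hu0))
  have hT : GeneralLinearGroup.det T = (Units.mk0 u⁻¹ (inv_ne_zero hu0)) ^ 2 := by
    refine Units.ext ?_
    rw [Units.val_pow_eq_pow_val, Units.val_mk0]
    rw [hx] at hdT
    apply mul_right_cancel₀ (mul_ne_zero hD (mul_ne_zero hu0 hu0))
    rw [hdT]
    field_simp
  have hXX := pair_sq (P := P') (T := T) (B := B) hP' (exists_sq hP hirr) _ hT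
  have hXv : (T * B * T⁻¹ * B).1 = X := by rw [hX, Units.val_mul, Units.val_mul, Units.val_mul, hB]
  obtain ⟨w, hw⟩ := exists_cyc_of_ker 4 X hz hKX
  have h00 : X 0 0 = 1 := hd0 0 (by simp)
  have h11 : X 1 1 = 1 := hd0 1 (by simp)
  have h22 : X 2 2 = x := hd1
  have hx0 : x ≠ 0 := mul_ne_zero hD (mul_ne_zero hu0 hu0)
  have h33 : X 3 3 = x⁻¹ := by
    have hdet' : X.det = 1 := by
      rw [hX, det_mul, det_mul, det_mul, mul_right_comm T.1.det, ← det_mul, Units.mul_inv, det_one, one_mul, hcd,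
        ← det_val, hdA, Units.val_one, one_mul]
    rw [det_four hz, h00, h11, h22, one_mul, one_mul] at hdet'
    exact eq_inv_of_mul_eq_one_right hdet'
  have hxx : x * x ≠ 1 := fun e => hu4 (by
    rcases hD1 with h | h <;> rw [hx, h] at e <;> linear_combination e)
  have hx1 : x ≠ 1 := fun e => hxx (by rw [e, one_mul])
  have hxi : x⁻¹ ≠ x := fun e => hxx (by
    nth_rw 1 [← e]
    exact inv_mul_cancel₀ hx0)
  refine finish_four h4 hXX (l := ![1, 1, x, x⁻¹]) (i0 := 2) ⟨_, cyc_conj P' _ (hXv ▸ hw)⟩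
    (contig_two_one 1 x x⁻¹ hx1 (Or.inl (inv_ne_one.2 hx1))) (fun i => by fin_cases i <;> simp [hx0]) ?_ ?_
    (fun i hi => by fin_cases i <;> simp [Ne.symm hx1, hxi] at hi ⊢) hdet hg
  · rw [Units.val_mul, Units.val_mul, Matrix.charpoly_mul_comm, ← mul_assoc, Units.inv_mul, one_mul, hXv,
      charpoly_upper hz (l := fun i => X i i) fun _ => rfl, Fin.prod_univ_four, Fin.prod_univ_four, h00, h11, h22,
      h33]
    rfl
  · simp [Fin.prod_univ_four]
    ring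

end Cfsg.Agent.Lib.LevCover
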