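import Cfsg.Agent.Lib.LevCover.Spread

/-!
Factorizations whose factors share no eigenvector with one value.
-/

set_option autoImplicit false

namespace Cfsg.Agent.Lib.LevCover

open Matrix

variable {F : Type*} [Field F] {n : ℕ}

/-- The list has the product `g`, consists of conjugates, and shares no eigenvector with one value. -/
def NF (A : GL (Fin n) F) (j : ℕ) (g : GL (Fin n) F) : Prop :=
  ∃ l : List (GL (Fin n) F), l.length = j ∧ (∀ B ∈ l, ∃ S : GL (Fin n) F, B = S * A * S⁻¹) ∧ l.prod = g ∧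
    ∀ (a : F) (w : Fin n → F), w ≠ 0 → ∃ B ∈ l, B.1 *ᵥ w ≠ a • w

theorem One.exists_list {K : Subgroup Fˣ} {A g : GL (Fin n) F} {j : ℕ} (h : One K A j g) :
    ∃ l : List (GL (Fin n) F), l.length = j ∧ (∀ B ∈ l, Fac K A B) ∧ l.prod = g := by
  induction h with
  | nil => exact ⟨[], rfl, fun B hB => by simp at hB, rfl⟩
  | @cons j B g hB _ ih =>
    obtain ⟨l, h1, h2, h3⟩ := ih
    exact ⟨B :: l, by simp [h1], fun C hC => by
      rcases List.mem_cons.1 hC with rfl | hC
      exacts [hB, h2 C hC], by simp [h3]⟩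

theorem One.of_list {K : Subgroup Fˣ} {A : GL (Fin n) F} : ∀ l : List (GL (Fin n) F), (∀ B ∈ l, Fac K A B) →
    One K A l.length l.prod
  | [], _ => by simpa using One.nil
  | B :: l, h => by
    rw [List.length_cons, List.prod_cons]
    exact One.cons (h B List.mem_cons_self) (One.of_list l fun C hC => h C (List.mem_cons_of_mem _ hC))

theorem NF.one {A g : GL (Fin n) F} {j : ℕ} (h : NF A j g) : One ⊤ A j g := by
  obtain ⟨l, h1, h2, h3, -⟩ := h
  subst h1 h3
  exact One.of_list l fun B hB => by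
    obtain ⟨S, hS⟩ := h2 B hB
    exact ⟨S, Subgroup.mem_top _, hS⟩

theorem conj_eig {A S : GL (Fin n) F} {a : F} {w : Fin n → F} (h : (S * A * S⁻¹).1 *ᵥ w = a • w) :
    A.1 *ᵥ ((S⁻¹).1 *ᵥ w) = a • ((S⁻¹).1 *ᵥ w) := by
  have h1 := congrArg ((S⁻¹).1 *ᵥ ·) h
  simp only [mulVec_smul, mulVec_mulVec] at h1 ⊢
  rw [← h1, ← Units.val_mul, ← Units.val_mul]
  congr 2
  group

theorem NF.of_noEig {A g : GL (Fin n) F} {j : ℕ} (hA : NoEig A.1) (hj : 0 < j) (h : One ⊤ A j g) : NF A j g := by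
  obtain ⟨l, h1, h2, h3⟩ := h.exists_list
  refine ⟨l, h1, fun B hB => ?_, h3, fun a w hw => ?_⟩
  · obtain ⟨S, -, hS⟩ := h2 B hB
    exact ⟨S, hS⟩
  · cases l with
    | nil => simp at h1; omega
    | cons B l =>
      obtain ⟨S, -, rfl⟩ := h2 B List.mem_cons_self
      refine ⟨_, List.mem_cons_self, fun e => hw ?_⟩
      have h0 := congrArg (S.1 *ᵥ ·) (hA a _ (conj_eig e))
      simpa [mulVec_mulVec] using h0

end Cfsg.Agent.Lib.LevCover
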