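import Cfsg.Agent.Lib.LevCover.NF
import Cfsg.Agent.Lib.Sourour.Cov

/-!
Peeling one dimension off a matrix with an eigenvector.
-/

set_option autoImplicit false

namespace Cfsg.Agent.Lib.LevCover

open Matrix Polynomial
open Cfsg.Agent.Lib.Sourour (blk blk_mul blk_mulVec blk_one blk_00 blk_0s blk_s0 blk_ss eq_blk det_blk_upper
  cons_tail_eq exists_dot)

variable {F : Type*} [Field F] {n m : ℕ}

/-- A basis starting with given columns. -/
theorem extend_cols {k : ℕ} (hk : k ≤ n) (Q : Fin k → Fin n → F) (hQ : LinearIndependent F Q) :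
    ∃ P : GL (Fin n) F, ∀ i : Fin k, P.1 *ᵥ Pi.single (Fin.castLE hk i) 1 = Q i := by
  classical
  obtain ⟨W, hW⟩ := Submodule.exists_isCompl (Submodule.span F (Set.range Q))
  obtain ⟨r, rfl⟩ : ∃ r, n = k + r := ⟨n - k, by omega⟩
  have hr : Module.finrank F W = r := by
    have h1 := Submodule.finrank_add_eq_of_isCompl hW
    rw [finrank_span_eq_card hQ, Fintype.card_fin, Module.finrank_fin_fun] at h1
    omega
  let b := Module.finBasisOfFinrankEq F W hr
  let P : Matrix (Fin (k + r)) (Fin (k + r)) F :=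
    Matrix.of fun i => Fin.append (fun j => Q j i) fun j => (b j : Fin (k + r) → F) i
  have hP : P.det ≠ 0 := by
    intro h
    obtain ⟨z, hz0, hz⟩ := Matrix.exists_mulVec_eq_zero_iff.2 h
    have e : P *ᵥ z = (∑ j, z (Fin.castAdd r j) • Q j) + ∑ j, z (Fin.natAdd k j) • (b j : Fin (k + r) → F) := by
      funext i
      simp [P, Matrix.mulVec, dotProduct, Fin.sum_univ_add, Finset.sum_apply, mul_comm]
    rw [e] at hz
    have h1 : ∑ j, z (Fin.natAdd k j) • (b j : Fin (k + r) → F) ∈ W :=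
      Submodule.sum_mem _ fun j _ => W.smul_mem _ (b j).2
    have h2 : ∑ j, z (Fin.natAdd k j) • (b j : Fin (k + r) → F) ∈ Submodule.span F (Set.range Q) := by
      rw [eq_neg_of_add_eq_zero_right hz]
      exact Submodule.neg_mem _ (Submodule.sum_mem _ fun j _ => Submodule.smul_mem _ _
        (Submodule.subset_span ⟨j, rfl⟩))
    have h3 := Submodule.disjoint_def.1 hW.disjoint _ h2 h1
    rw [h3, add_zero] at hz
    have h4 := Fintype.linearIndependent_iff.1 hQ _ hz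
    have h5 := Fintype.linearIndependent_iff.1 b.linearIndependent (fun j => z (Fin.natAdd k j))
      (Subtype.ext (by simpa using h3))
    exact hz0 (funext fun i => by refine Fin.addCases (fun i => ?_) (fun i => ?_) i <;> simp [h4, h5])
  obtain ⟨PG, hPG⟩ := exists_GL (S := P) hP
  refine ⟨PG, fun i => ?_⟩
  rw [hPG, mulVec_single_one, show Fin.castLE hk i = Fin.castAdd r i from rfl]
  funext x
  simp [P]

/-- Scaling one basis vector. -/
theorem scale_col (P : GL (Fin n) F) (j : Fin n) {d : F} (hd : d ≠ 0) :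
    ∃ P' : GL (Fin n) F, (GeneralLinearGroup.det P' : F) = d ∧
      ∀ i, i ≠ j → P'.1 *ᵥ Pi.single i 1 = P.1 *ᵥ Pi.single i 1 := by
  set c := d / (GeneralLinearGroup.det P : F) with hc
  obtain ⟨D, hD⟩ := exists_GL (S := Matrix.diagonal fun i : Fin n => if i = j then c else 1) (by
    rw [det_diagonal, Finset.prod_ite_eq' Finset.univ j (fun _ => c)]
    simp [hc, hd, GeneralLinearGroup.det_ne_zero])
  refine ⟨P * D, ?_, fun i hi => ?_⟩
  · rw [map_mul, Units.val_mul, det_val D, hD, det_diagonal, Finset.prod_ite_eq' Finset.univ j (fun _ => c)]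
    simp only [Finset.mem_univ, if_true, hc, det_val P]
    rw [mul_div_cancel₀ _ (GeneralLinearGroup.det_ne_zero P)]
  · rw [Units.val_mul, ← mulVec_mulVec, hD]
    congr 1
    rw [mulVec_single_one]
    funext x
    by_cases h : x = i
    · subst h; simp [hi]
    · simp [Matrix.diagonal_apply_ne _ h, Pi.single_eq_of_ne h]

/-- Transitivity on independent pairs. -/
theorem exists_map_pair (hn : 3 ≤ n) {u u' v w : Fin n → F} (hu : LinearIndependent F ![u, u'])
    (hv : LinearIndependent F ![v, w]) :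
    ∃ T : GL (Fin n) F, GeneralLinearGroup.det T = 1 ∧ T.1 *ᵥ u = v ∧ T.1 *ᵥ u' = w := by
  obtain ⟨P, hP⟩ := extend_cols (show 2 ≤ n by omega) ![u, u'] hu
  obtain ⟨P', hP'⟩ := extend_cols (show 2 ≤ n by omega) ![v, w] hv
  obtain ⟨Q, hQd, hQ⟩ := scale_col P' ⟨2, by omega⟩ (Units.ne_zero (GeneralLinearGroup.det P))
  have key : ∀ i : Fin 2, (Q * P⁻¹).1 *ᵥ ![u, u'] i = ![v, w] i := by
    intro i
    rw [← hP i, Units.val_mul, mulVec_mulVec, Matrix.mul_assoc, Units.inv_mul, Matrix.mul_one, hQ _ (fun e => by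
      have := congrArg Fin.val e
      have := i.isLt
      simp at *
      omega)]
    exact hP' i
  refine ⟨Q * P⁻¹, Units.ext ?_, key 0, key 1⟩
  rw [map_mul, map_inv, Units.val_mul, hQd, ← Units.val_mul, mul_inv_cancel]

theorem pair_indep {v w : Fin n → F} (hv : v ≠ 0) (h : ∀ c : F, w ≠ c • v) : LinearIndependent F ![v, w] := by
  rw [LinearIndependent.pair_iff]
  intro s t hst
  by_cases ht : t = 0
  · subst ht
    rw [zero_smul, add_zero, smul_eq_zero] at hst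
    exact ⟨hst.resolve_right hv, rfl⟩
  · exfalso
    refine h (-(s / t)) ?_
    have h1 := congrArg (t⁻¹ • ·) hst
    simp only [smul_add, smul_smul, inv_mul_cancel₀ ht, one_smul, smul_zero] at h1
    rw [eq_neg_of_add_eq_zero_right h1, neg_smul, div_eq_inv_mul]

theorem exists_not_eig {M : Matrix (Fin n) (Fin n) F} (h : ∀ c : F, M ≠ c • 1) :
    ∃ v : Fin n → F, v ≠ 0 ∧ ∀ c : F, M *ᵥ v ≠ c • v := by
  by_contra hno
  push Not at hno
  rcases Nat.eq_zero_or_pos n with rfl | hn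
  · exact h 0 (Subsingleton.elim _ _)
  have he : ∀ i : Fin n, ∃ c : F, M *ᵥ Pi.single i 1 = c • Pi.single i 1 := fun i => hno _ (by simp)
  choose c hc using he
  set i0 : Fin n := ⟨0, hn⟩
  refine h (c i0) (Matrix.ext_of_mulVec_single fun i => ?_)
  rw [smul_mulVec, one_mulVec, hc i]
  congr 1
  rcases eq_or_ne i i0 with rfl | hi
  · rfl
  have hne : (Pi.single i (1 : F) + Pi.single i0 1 : Fin n → F) ≠ 0 := fun e => by
    simpa [Ne.symm hi] using congrFun e i0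
  obtain ⟨d, hd⟩ := hno _ hne
  rw [mulVec_add, hc, hc, smul_add] at hd
  have h1 := congrFun hd i
  have h2 := congrFun hd i0
  simp [hi, Ne.symm hi] at h1 h2
  rw [h1, h2]

/-- The data of a lift: first row and conjugator. -/
theorem lift_one {A : GL (Fin (m + 1)) F} {Q : GL (Fin (m + 1)) F} {a : F} {x : Fin m → F} {A' S : GL (Fin m) F}
    (hA : A.1 * Q.1 = Q.1 * blk a x 0 A'.1) (P : GL (Fin (m + 1)) F) :
    ∃ ρ0 : Fin m → F, ∀ w : Fin m → F, ∃ C : GL (Fin (m + 1)) F,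
      C.1 = blk a (ρ0 + w ᵥ* ((S * A' * S⁻¹).1 - a • 1)) 0 (S * A' * S⁻¹).1 ∧
      Fac ⊥ A (P * C * P⁻¹) := by
  set t : F := (GeneralLinearGroup.det Q : F) / ((GeneralLinearGroup.det P : F) * (GeneralLinearGroup.det S : F))
    with ht
  have ht0 : t ≠ 0 := div_ne_zero (Units.ne_zero _) (mul_ne_zero (Units.ne_zero _) (Units.ne_zero _))
  refine ⟨t • (x ᵥ* (S⁻¹).1), fun w => ?_⟩
  obtain ⟨T, hT⟩ := exists_GL (S := blk t (w ᵥ* S.1) 0 S.1) (by
    rw [det_blk_upper]; exact mul_ne_zero ht0 (GeneralLinearGroup.det_ne_zero S))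
  obtain ⟨C, hC⟩ : ∃ C : GL (Fin (m + 1)) F, C = T * (Q⁻¹ * A * Q) * T⁻¹ := ⟨_, rfl⟩
  have hQ : (Q⁻¹ * A * Q).1 = blk a x 0 A'.1 := by
    rw [Units.val_mul, Units.val_mul, mul_assoc, hA, ← mul_assoc, Units.inv_mul, one_mul]
  refine ⟨C, ?_, ⟨P * T * Q⁻¹, ?_, by rw [hC]; group⟩⟩
  · have h1 : C.1 * T.1 = T.1 * blk a x 0 A'.1 := by
      rw [hC, ← hQ, ← Units.val_mul, ← Units.val_mul]
      congr 1
      group
    have h2 : blk a (t • (x ᵥ* (S⁻¹).1) + w ᵥ* ((S * A' * S⁻¹).1 - a • 1)) 0 (S * A' * S⁻¹).1 * T.1 =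
        T.1 * blk a x 0 A'.1 := by
      have hSA : (S * A' * S⁻¹).1 * S.1 = S.1 * A'.1 := by
        rw [← Units.val_mul, ← Units.val_mul]; congr 1; group
      rw [hT, blk_mul, blk_mul]
      simp only [smul_zero, zero_add, mulVec_zero, dotProduct_zero, add_zero, vecMulVec_zero, zero_vecMulVec,
        hSA, mul_comm a t]
      congr 1
      rw [add_vecMul, smul_vecMul, vecMul_vecMul x, Units.inv_mul, vecMul_one, vecMul_vecMul w, sub_mul, hSA,
        smul_mul_assoc, one_mul, vecMul_sub, vecMul_smul, ← vecMul_vecMul]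
      abel
    exact (Units.mul_left_inj T).1 (h1.trans h2.symm)
  · rw [Subgroup.mem_bot]
    refine Units.ext ?_
    rw [map_mul, map_mul, map_inv, Units.val_mul, Units.val_mul, det_val T, hT, det_blk_upper, ← det_val,
      Units.val_one, ht, Units.val_inv_eq_inv_val]
    field_simp
    exact div_self (mul_ne_zero (mul_ne_zero (Units.ne_zero _) (Units.ne_zero _)) (Units.ne_zero _))

/-- Lifting a list: the first row is arbitrary when nothing common is fixed. -/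
theorem lift_list {A : GL (Fin (m + 1)) F} {Q : GL (Fin (m + 1)) F} {a : F} {x : Fin m → F} {A' : GL (Fin m) F}
    (hA : A.1 * Q.1 = Q.1 * blk a x 0 A'.1) (ha : a ≠ 0) (P : GL (Fin (m + 1)) F) :
    ∀ l : List (GL (Fin m) F), (∀ B ∈ l, ∃ S : GL (Fin m) F, B = S * A' * S⁻¹) →
      ∃ (r0 : Fin m → F) (I : Submodule F (Fin m → F)),
        (∀ z, (∀ r ∈ I, r ⬝ᵥ z = 0) → ∀ B ∈ l, B.1 *ᵥ z = a • z) ∧
        ∀ r ∈ I, ∃ L : List (GL (Fin (m + 1)) F), L.length = l.length ∧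
          (∀ C ∈ L, Fac ⊥ A (P * C * P⁻¹)) ∧ (L.prod).1 = blk (a ^ l.length) (r0 + r) 0 (l.prod).1 ∧
          ∀ (w : Fin m → F) (s : F) (b : F), (∀ C ∈ L, C.1 *ᵥ Fin.cons s w = b • Fin.cons s w) →
            (∀ B ∈ l, B.1 *ᵥ w = b • w) ∧ (w = 0 → s ≠ 0 → l ≠ [] → b = a) := by
  intro l
  induction l with
  | nil =>
    intro _
    refine ⟨0, ⊥, fun z _ B hB => by simp at hB, fun r hr => ⟨[], rfl, fun C hC => by simp at hC, ?_, fun w s b _ =>
      ⟨fun B hB => by simp at hB, fun _ _ h => absurd rfl h⟩⟩⟩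
    rw [Submodule.mem_bot] at hr
    simp [hr, blk_one]
  | cons B l ih =>
    intro hl
    obtain ⟨S, rfl⟩ := hl B List.mem_cons_self
    obtain ⟨r0, I, hI, hall⟩ := ih fun C hC => hl C (List.mem_cons_of_mem _ hC)
    obtain ⟨ρ0, hρ⟩ := lift_one hA P (S := S)
    set N := ((S * A' * S⁻¹).1 - a • 1) * (l.prod).1 with hN
    refine ⟨a • r0 + ρ0 ᵥ* (l.prod).1, LinearMap.range N.vecMulLinear ⊔ I, fun z hz => ?_, fun r hr => ?_⟩
    · have h1 := hI z fun r hr => hz r (Submodule.mem_sup_right hr)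
      have h2 : ∀ k : List (GL (Fin m) F), (∀ C ∈ k, C.1 *ᵥ z = a • z) → (k.prod).1 *ᵥ z = a ^ k.length • z := by
        intro k hk
        induction k with
        | nil => simp
        | cons C k ihk =>
          rw [List.prod_cons, Units.val_mul, ← mulVec_mulVec, ihk fun D hD => hk D (List.mem_cons_of_mem _ hD),
            mulVec_smul, hk C List.mem_cons_self, smul_smul, List.length_cons, pow_succ]
      have h3 : N *ᵥ z = 0 := by
        funext i
        have := hz (Pi.single i 1 ᵥ* N) (Submodule.mem_sup_left ⟨Pi.single i 1, rfl⟩)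
        rw [← dotProduct_mulVec] at this
        simpa using this
      rw [hN, ← mulVec_mulVec, h2 l h1, mulVec_smul, smul_eq_zero, or_iff_right (pow_ne_zero _ ha), sub_mulVec,
        smul_mulVec, one_mulVec, sub_eq_zero] at h3
      intro C hC
      rcases List.mem_cons.1 hC with rfl | hC
      exacts [h3, h1 C hC]
    · obtain ⟨r1, ⟨w, rfl⟩, r2, hr2, rfl⟩ := Submodule.mem_sup.1 hr
      obtain ⟨L, hL1, hL2, hL3, hL4⟩ := hall (a⁻¹ • r2) (I.smul_mem _ hr2)
      obtain ⟨C, hC, hCf⟩ := hρ w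
      refine ⟨C :: L, by simp [hL1], fun D hD => ?_, ?_, fun u s b hb => ⟨fun D hD => ?_, fun hu hs _ => ?_⟩⟩
      · rcases List.mem_cons.1 hD with rfl | hD
        exacts [hCf, hL2 D hD]
      · rw [List.prod_cons, Units.val_mul, hC, hL3, blk_mul, List.prod_cons, Units.val_mul, List.length_cons]
        simp only [smul_zero, zero_add, mulVec_zero, dotProduct_zero, add_zero, zero_vecMulVec, pow_succ']
        congr 1
        rw [hN, Matrix.vecMulLinear_apply, ← vecMul_vecMul, add_vecMul, smul_add, smul_smul, mul_inv_cancel₀ ha,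
          one_smul]
        abel
      · have h1 := (hL4 u s b fun E hE => hb E (List.mem_cons_of_mem _ hE)).1
        rcases List.mem_cons.1 hD with rfl | hD
        · have h2 := hb C List.mem_cons_self
          rw [hC, blk_mulVec] at h2
          funext i
          simpa using congrFun h2 i.succ
        · exact h1 D hD
      · subst hu
        have h2 := congrFun (hb C List.mem_cons_self) 0
        rw [hC, blk_mulVec] at h2
        simp at h2
        exact h2.resolve_right hs |>.symm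

/-- The peeling step. -/
theorem peel {A : GL (Fin (m + 1)) F} {Q : GL (Fin (m + 1)) F} {a : F} {x : Fin m → F} {A' : GL (Fin m) F}
    (hA : A.1 * Q.1 = Q.1 * blk a x 0 A'.1) (hm : 0 < m) {g B P : GL (Fin (m + 1)) F} (hB : Fac ⊥ A B)
    {r : Fin m → F} {M : GL (Fin m) F} (hh : (P⁻¹ * (B⁻¹ * g) * P).1 = blk (a ^ m) r 0 M.1)
    (hv : ∀ c : F, (P⁻¹ * B * P).1 *ᵥ Pi.single 0 1 ≠ c • Pi.single 0 1) (hM : NF A' m M) :
    NF A (m + 1) g ∧ One ⊥ A (m + 1) g := by
  classical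
  have ha : a ≠ 0 := fun h => by
    have h1 := congrArg Matrix.det hA
    rw [det_mul, det_mul, det_blk_upper, h, zero_mul, mul_zero, mul_eq_zero] at h1
    exact h1.elim (GeneralLinearGroup.det_ne_zero A) (GeneralLinearGroup.det_ne_zero Q)
  obtain ⟨l, hl1, hl2, hl3, hl4⟩ := hM
  obtain ⟨r0, I, hI, hall⟩ := lift_list hA ha P l hl2
  have hItop : r - r0 ∈ I := by
    by_contra hno
    obtain ⟨z, hz, hz'⟩ := exists_dot hno
    have h0 : ∀ s ∈ I, s ⬝ᵥ z = 0 := fun s hs => by rw [dotProduct_comm]; exact hz s hs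
    have hz0 : z ≠ 0 := fun e => hz' (by rw [e, zero_dotProduct])
    obtain ⟨C, hC, hC'⟩ := hl4 a z hz0
    exact hC' (hI z h0 C hC)
  obtain ⟨L, hL1, hL2, hL3, hL4⟩ := hall _ hItop
  have hLp : L.prod = P⁻¹ * (B⁻¹ * g) * P := Units.ext (by rw [hL3, hh, hl1, hl3, add_sub_cancel])
  set f : GL (Fin (m + 1)) F → GL (Fin (m + 1)) F := fun C => P * C * P⁻¹ with hf
  have hmap : ∀ k : List (GL (Fin (m + 1)) F), (k.map f).prod = P * k.prod * P⁻¹ := by
    intro k
    induction k with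
    | nil => simp
    | cons C k ih => rw [List.map_cons, List.prod_cons, ih, List.prod_cons, hf]; group
  have hprod : (B :: L.map f).prod = g := by
    rw [List.prod_cons, hmap, hLp]; group
  have hfac : ∀ C ∈ B :: L.map f, Fac ⊥ A C := by
    intro C hC
    rcases List.mem_cons.1 hC with rfl | hC
    · exact hB
    · obtain ⟨D, hD, rfl⟩ := List.mem_map.1 hC
      exact hL2 D hD
  have hlen : (B :: L.map f).length = m + 1 := by simp [hL1, hl1]
  refine ⟨⟨_, hlen, fun C hC => ?_, hprod, fun b w hw => ?_⟩, ?_⟩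
  · obtain ⟨S, -, hS⟩ := hfac C hC
    exact ⟨S, hS⟩
  · by_contra hno
    push Not at hno
    obtain ⟨z, hz⟩ : ∃ z, z = (P⁻¹).1 *ᵥ w := ⟨_, rfl⟩
    have hz0 : z ≠ 0 := fun e => hw (by
      have h1 := congrArg (P.1 *ᵥ ·) hz
      rwa [e, mulVec_zero, mulVec_mulVec, Units.mul_inv, one_mulVec, eq_comm] at h1)
    have hall' : ∀ C ∈ L, C.1 *ᵥ z = b • z := fun C hC => by
      have h1 : ((P * C * P⁻¹).1 *ᵥ w) = b • w := hno _ (List.mem_cons_of_mem _ (List.mem_map.2 ⟨C, hC, rfl⟩))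
      have h2 := conj_eig h1
      rwa [← hz] at h2
    rw [← cons_tail_eq z] at hall'
    obtain ⟨h1, -⟩ := hL4 _ _ _ hall'
    have htail : (fun i : Fin m => z i.succ) = 0 := by
      by_contra hne
      obtain ⟨D, hD, hD'⟩ := hl4 b _ hne
      exact hD' (h1 D hD)
    have hze : z = z 0 • Pi.single 0 1 := by
      funext i
      induction i using Fin.cases with
      | zero => simp
      | succ i => simpa [Pi.single_apply, Fin.succ_ne_zero] using congrFun htail i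
    have hs : z 0 ≠ 0 := fun e => hz0 (by rw [hze, e, zero_smul])
    have hBw : (P⁻¹ * B * P).1 *ᵥ z = b • z := by
      rw [hz, Units.val_mul, Units.val_mul, mulVec_mulVec, Matrix.mul_assoc, Units.mul_inv, Matrix.mul_one,
        ← mulVec_mulVec, hno B List.mem_cons_self, mulVec_smul]
    rw [hze, mulVec_smul, smul_comm b] at hBw
    exact hv b (smul_right_injective _ hs hBw)
  · have := One.of_list _ hfac
    rwa [hprod, hlen] at this

/-- An eigenvector puts the matrix in block form. -/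
theorem exists_quot {A : GL (Fin (m + 1)) F} {a : F} {v : Fin (m + 1) → F} (hv : v ≠ 0) (hAv : A.1 *ᵥ v = a • v) :
    ∃ (Q : GL (Fin (m + 1)) F) (x : Fin m → F) (A' : GL (Fin m) F), Q.1 *ᵥ Pi.single 0 1 = v ∧
      A.1 * Q.1 = Q.1 * blk a x 0 A'.1 := by
  obtain ⟨Q, hQ⟩ := extend_cols (show 1 ≤ m + 1 by omega) ![v]
    ((LinearIndependent.of_subsingleton (i := (0 : Fin 1))) (by simpa using hv))
  have h0 : Q.1 *ᵥ Pi.single 0 1 = v := by simpa using hQ 0
  set B := (Q⁻¹ * A * Q).1 with hB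
  have hB0 : B *ᵥ Pi.single 0 1 = a • Pi.single 0 1 := by
    rw [hB, Units.val_mul, Units.val_mul, ← mulVec_mulVec, ← mulVec_mulVec, h0, hAv, mulVec_smul, ← h0,
      mulVec_mulVec, Units.inv_mul, one_mulVec]
  have hcol : ∀ i, B i 0 = if i = 0 then a else 0 := fun i => by
    have := congrFun hB0 i
    rw [mulVec_single_one, Matrix.col_apply] at this
    rw [this]; simp [Pi.single_apply]
  have hblk : B = blk a (fun j => B 0 j.succ) 0 (Matrix.of fun i j => B i.succ j.succ) := by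
    conv_lhs => rw [eq_blk B]
    congr 1
    · simp [hcol]
    · funext i; simp [hcol, Fin.succ_ne_zero]
  obtain ⟨A', hA'⟩ := exists_GL (S := Matrix.of fun i j : Fin m => B i.succ j.succ) (fun e => by
    have h1 := congrArg Matrix.det hblk
    rw [det_blk_upper, e, mul_zero] at h1
    exact GeneralLinearGroup.det_ne_zero (Q⁻¹ * A * Q) h1)
  refine ⟨Q, fun j => B 0 j.succ, A', h0, ?_⟩
  rw [hA', ← hblk, hB, ← Units.val_mul, ← Units.val_mul]
  congr 1
  group

/-- The first factor: it sends `v` where it must, and in a basis from `v` the rest is triangular. -/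
theorem first_factor (hm : 2 ≤ m) {A g : GL (Fin (m + 1)) F} (hA : ∀ c : F, A.1 ≠ c • 1)
    (hg : ∀ c : F, g.1 ≠ c • 1) {a : F} (ha : a ≠ 0) :
    ∃ (B P : GL (Fin (m + 1)) F) (r : Fin m → F) (M : GL (Fin m) F), Fac ⊥ A B ∧
      (P⁻¹ * (B⁻¹ * g) * P).1 = blk (a ^ m) r 0 M.1 ∧ (∀ c : F, M.1 ≠ c • 1) ∧
      ∀ c : F, (P⁻¹ * B * P).1 *ᵥ Pi.single 0 1 ≠ c • Pi.single 0 1 := by
  classical
  obtain ⟨v, hv0, hgv⟩ := exists_not_eig hg
  obtain ⟨u, hu0, hAu⟩ := exists_not_eig hA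
  set Λ := a ^ m with hΛ
  have hΛ0 : Λ ≠ 0 := pow_ne_zero _ ha
  set w := Λ⁻¹ • (g.1 *ᵥ v) with hw
  have hvw : ∀ c : F, w ≠ c • v := fun c e => hgv (Λ * c) (by
    rw [← smul_smul, ← e, hw, smul_smul, mul_inv_cancel₀ hΛ0, one_smul])
  obtain ⟨T, hTd, hTu, hTu'⟩ := exists_map_pair (by omega) (pair_indep hu0 hAu) (pair_indep hv0 hvw)
  have core : ∀ T : GL (Fin (m + 1)) F, GeneralLinearGroup.det T = 1 → T.1 *ᵥ u = v → T.1 *ᵥ (A.1 *ᵥ u) = w →
      Fac ⊥ A (T * A * T⁻¹) ∧ ((T * A * T⁻¹)⁻¹ * g).1 *ᵥ v = Λ • v ∧ (T * A * T⁻¹).1 *ᵥ v = w := by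
    intro T hTd hTu hTu'
    have h1 : (T * A * T⁻¹).1 *ᵥ v = w := by
      rw [← hTu, mulVec_mulVec, ← Units.val_mul, inv_mul_cancel_right, Units.val_mul, ← mulVec_mulVec, hTu']
    refine ⟨⟨T, by rw [hTd]; exact Subgroup.one_mem _, rfl⟩, ?_, h1⟩
    have h2 := congrArg ((T * A * T⁻¹)⁻¹.1 *ᵥ ·) h1
    simp only [mulVec_mulVec, Units.inv_mul, one_mulVec] at h2
    rw [Units.val_mul, ← mulVec_mulVec, show g.1 *ᵥ v = Λ • w by
      rw [hw, smul_smul, mul_inv_cancel₀ hΛ0, one_smul], mulVec_smul, ← h2]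
  obtain ⟨P, hP⟩ := extend_cols (show 1 ≤ m + 1 by omega) ![v]
    ((LinearIndependent.of_subsingleton (i := (0 : Fin 1))) (by simpa using hv0))
  have hP0 : P.1 *ᵥ Pi.single 0 1 = v := by simpa using hP 0
  have finish : ∀ T : GL (Fin (m + 1)) F, GeneralLinearGroup.det T = 1 → T.1 *ᵥ u = v → T.1 *ᵥ (A.1 *ᵥ u) = w →
      (∀ μ : F, ∃ y, ∀ c : F, ((T * A * T⁻¹)⁻¹ * g).1 *ᵥ y ≠ μ • y + c • v) →
      ∃ (B P : GL (Fin (m + 1)) F) (r : Fin m → F) (M : GL (Fin m) F), Fac ⊥ A B ∧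
        (P⁻¹ * (B⁻¹ * g) * P).1 = blk Λ r 0 M.1 ∧ (∀ c : F, M.1 ≠ c • 1) ∧
        ∀ c : F, (P⁻¹ * B * P).1 *ᵥ Pi.single 0 1 ≠ c • Pi.single 0 1 := by
    intro T hTd hTu hTu' hns
    obtain ⟨hf, hh, hBv⟩ := core T hTd hTu hTu'
    set B := T * A * T⁻¹
    set H := (P⁻¹ * (B⁻¹ * g) * P).1 with hH
    have hH0 : H *ᵥ Pi.single 0 1 = Λ • Pi.single 0 1 := by
      rw [hH, Units.val_mul, Units.val_mul, ← mulVec_mulVec, ← mulVec_mulVec, hP0, hh, mulVec_smul, ← hP0,
        mulVec_mulVec, Units.inv_mul, one_mulVec]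
    have hcol : ∀ i, H i 0 = if i = 0 then Λ else 0 := fun i => by
      have := congrFun hH0 i
      rw [mulVec_single_one, Matrix.col_apply] at this
      rw [this]; simp [Pi.single_apply]
    have hblk : H = blk Λ (fun j => H 0 j.succ) 0 (Matrix.of fun i j => H i.succ j.succ) := by
      conv_lhs => rw [eq_blk H]
      congr 1
      · simp [hcol]
      · funext i; simp [hcol, Fin.succ_ne_zero]
    obtain ⟨M, hM⟩ := exists_GL (S := Matrix.of fun i j : Fin m => H i.succ j.succ) (fun e => by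
      have h1 := congrArg Matrix.det hblk
      rw [det_blk_upper, e, mul_zero] at h1
      exact GeneralLinearGroup.det_ne_zero (P⁻¹ * (B⁻¹ * g) * P) h1)
    refine ⟨B, P, fun j => H 0 j.succ, M, hf, by rw [hM]; exact hblk, fun μ hμ => ?_, fun c e => ?_⟩
    · obtain ⟨y, hy⟩ := hns μ
      obtain ⟨z, hz⟩ : ∃ z, z = (P⁻¹).1 *ᵥ y := ⟨_, rfl⟩
      have hy' : y = P.1 *ᵥ z := by rw [hz, mulVec_mulVec, Units.mul_inv, one_mulVec]
      have hHz : H *ᵥ z = μ • z + ((Λ - μ) * z 0 + (fun j : Fin m => H 0 j.succ) ⬝ᵥ (fun i : Fin m => z i.succ)) • Pi.single 0 1 := by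
        rw [hM] at hμ
        conv_lhs => rw [hblk, hμ, ← cons_tail_eq z, blk_mulVec]
        funext i
        induction i using Fin.cases with
        | zero => simp; ring
        | succ i => simp [smul_mulVec, Fin.succ_ne_zero]
      refine hy ((Λ - μ) * z 0 + (fun j : Fin m => H 0 j.succ) ⬝ᵥ (fun i : Fin m => z i.succ)) ?_
      rw [← hP0, hy', ← mulVec_smul, ← mulVec_smul, ← mulVec_add, ← hHz, hH, mulVec_mulVec, mulVec_mulVec,
        ← Units.val_mul, ← Units.val_mul]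
      congr 2
      group
    · refine hvw c ?_
      have h1 := congrArg (P.1 *ᵥ ·) e
      simp only [mulVec_smul, hP0, mulVec_mulVec] at h1
      rw [← hBv, ← h1, ← Units.val_mul]
      rw [show P * (P⁻¹ * B * P) = B * P by group, Units.val_mul B P, ← mulVec_mulVec _ B.1, hP0]
  by_cases hns : ∀ μ : F, ∃ y, ∀ c : F, ((T * A * T⁻¹)⁻¹ * g).1 *ᵥ y ≠ μ • y + c • v
  · exact finish T hTd hTu hTu' hns
  push Not at hns
  obtain ⟨μ, hμ⟩ := hns
  -- the twist
  obtain ⟨Pw, hPw⟩ := extend_cols (show 2 ≤ m + 1 by omega) ![v, w] (pair_indep hv0 hvw)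
  set η : Fin (m + 1) → F := fun i => (Pw⁻¹).1 ⟨2, by omega⟩ i with hη
  have hηy : ∀ y, η ⬝ᵥ y = ((Pw⁻¹).1 *ᵥ y) ⟨2, by omega⟩ := fun y => rfl
  have hPv : (Pw⁻¹).1 *ᵥ v = Pi.single (Fin.castLE (show 2 ≤ m + 1 by omega) 0) 1 := by
    rw [show v = Pw.1 *ᵥ Pi.single (Fin.castLE (show 2 ≤ m + 1 by omega) 0) 1 from (hPw 0).symm, mulVec_mulVec,
      Units.inv_mul, one_mulVec]
  have hPww : (Pw⁻¹).1 *ᵥ w = Pi.single (Fin.castLE (show 2 ≤ m + 1 by omega) 1) 1 := by
    rw [show w = Pw.1 *ᵥ Pi.single (Fin.castLE (show 2 ≤ m + 1 by omega) 1) 1 from (hPw 1).symm, mulVec_mulVec,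
      Units.inv_mul, one_mulVec]
  have hηv : η ⬝ᵥ v = 0 := by rw [hηy, hPv]; simp [Pi.single_apply, Fin.ext_iff]
  have hηw : η ⬝ᵥ w = 0 := by rw [hηy, hPww]; simp [Pi.single_apply, Fin.ext_iff]
  obtain ⟨Z, hZ⟩ := exists_GL (S := 1 + vecMulVec v η) (by
    rw [Cfsg.Agent.Lib.Sourour.det_one_add_vecMulVec', hηv, add_zero]; exact one_ne_zero)
  have hZy : ∀ y, Z.1 *ᵥ y = y + (η ⬝ᵥ y) • v := fun y => by
    rw [hZ, add_mulVec, one_mulVec, vecMulVec_mulVec, op_smul_eq_smul]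
  have hZd : GeneralLinearGroup.det Z = 1 := Units.ext (by
    rw [det_val, hZ, Cfsg.Agent.Lib.Sourour.det_one_add_vecMulVec', hηv, add_zero, Units.val_one])
  refine finish (Z * T) (by rw [map_mul, hZd, hTd, mul_one]) ?_ ?_ ?_
  · rw [Units.val_mul, ← mulVec_mulVec, hTu, hZy, hηv, zero_smul, add_zero]
  · rw [Units.val_mul, ← mulVec_mulVec, hTu', hZy, hηw, zero_smul, add_zero]
  intro μ'
  obtain ⟨hf, hh, hBv⟩ := core T hTd hTu hTu'
  set B := T * A * T⁻¹ with hB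
  set h := B⁻¹ * g with hhdef
  by_contra hno
  push Not at hno
  have hZi : ∀ y, (Z⁻¹).1 *ᵥ y = y - (η ⬝ᵥ y) • v := fun y => by
    have h1 : Z.1 *ᵥ (y - (η ⬝ᵥ y) • v) = y := by
      rw [hZy, dotProduct_sub, dotProduct_smul, hηv, smul_zero, sub_zero, sub_add_cancel]
    conv_lhs => rw [← h1, mulVec_mulVec, Units.inv_mul, one_mulVec]
  have hnew : ∀ y, ((Z * T * A * (Z * T)⁻¹)⁻¹ * g).1 *ᵥ y =
      Z.1 *ᵥ ((B⁻¹).1 *ᵥ ((Z⁻¹).1 *ᵥ (g.1 *ᵥ y))) := fun y => by
    rw [mulVec_mulVec, mulVec_mulVec, mulVec_mulVec, ← Units.val_mul, ← Units.val_mul, ← Units.val_mul]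
    congr 2
    rw [hB]; group
  obtain ⟨bv, hbv⟩ : ∃ bv, bv = (B⁻¹).1 *ᵥ v := ⟨_, rfl⟩
  have key : ∀ y, ∃ c : F, (μ - μ') • y = (η ⬝ᵥ (g.1 *ᵥ y)) • bv + c • v := by
    intro y
    obtain ⟨c1, hc1⟩ := hμ y
    obtain ⟨c2, hc2⟩ := hno y
    rw [hnew, hZi, mulVec_sub, mulVec_smul, ← hbv, mulVec_mulVec _ (B⁻¹).1 g.1, ← Units.val_mul, ← hhdef, hc1,
      hZy] at hc2
    refine ⟨c2 - c1 - η ⬝ᵥ (μ • y + c1 • v - (η ⬝ᵥ (g.1 *ᵥ y)) • bv), ?_⟩
    rw [sub_smul, sub_smul, sub_smul, eq_sub_of_add_eq hc2.symm]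
    module
  have hbvv : ∀ c : F, bv ≠ c • v := by
    intro c e
    have h1 := congrArg (B.1 *ᵥ ·) e
    simp only [hbv, mulVec_mulVec, Units.mul_inv, one_mulVec, mulVec_smul, hBv] at h1
    rcases eq_or_ne c 0 with rfl | hc
    · exact hv0 (by rw [h1, zero_smul])
    · exact hvw c⁻¹ (by rw [h1, smul_smul, inv_mul_cancel₀ hc, one_smul])
  obtain ⟨z, hz⟩ : ∃ z : Fin (m + 1) → F, η ⬝ᵥ (g.1 *ᵥ z) ≠ 0 := by
    refine ⟨(g⁻¹).1 *ᵥ (Pw.1 *ᵥ Pi.single ⟨2, by omega⟩ 1), ?_⟩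
    rw [mulVec_mulVec _ g.1, Units.mul_inv, one_mulVec, hηy, mulVec_mulVec, Units.inv_mul, one_mulVec,
      Pi.single_eq_same]
    exact one_ne_zero
  obtain ⟨c, hc⟩ := key z
  by_cases hd : μ - μ' = 0
  · rw [hd, zero_smul] at hc
    refine hbvv (-(η ⬝ᵥ (g.1 *ᵥ z))⁻¹ * c) ?_
    have h1 := congrArg ((η ⬝ᵥ (g.1 *ᵥ z))⁻¹ • ·) hc
    simp only [smul_zero, smul_add, smul_smul, inv_mul_cancel₀ hz, one_smul] at h1
    rw [eq_neg_of_add_eq_zero_left h1.symm, ← neg_smul, neg_mul]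
  · -- a scalar map of rank two
    have hspan : ∀ y, y ∈ Submodule.span F (Set.range ![bv, v]) := fun y => by
      obtain ⟨c, hc⟩ := key y
      have h1 := congrArg ((μ - μ')⁻¹ • ·) hc
      simp only [smul_smul, inv_mul_cancel₀ hd, one_smul, smul_add] at h1
      rw [h1]
      exact Submodule.add_mem _ (Submodule.smul_mem _ _ (Submodule.subset_span ⟨0, rfl⟩))
        (Submodule.smul_mem _ _ (Submodule.subset_span ⟨1, rfl⟩))
    have h1 : Module.finrank F (Submodule.span F (Set.range ![bv, v])) ≤ 2 :=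
      (finrank_range_le_card ![bv, v]).trans (by simp)
    rw [Submodule.eq_top_iff'.2 hspan, finrank_top, Module.finrank_fin_fun] at h1
    omega

end Cfsg.Agent.Lib.LevCover
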