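import Cfsg.Agent.Lib.LevCover.FullCrit
import Cfsg.Agent.Lib.Sourour.Product

/-!
A scalar plus a map of rank one.
-/

set_option autoImplicit false

namespace Cfsg.Agent.Lib.LevCover

open Matrix Polynomial
open Cfsg.Agent.Lib.Sourour (R1 Good four_of_fintype)

variable {F : Type*} [Field F] {n : ℕ}

/-- A map of rank at most one is an outer product. -/
theorem R1.exists_vecMulVec {N : Matrix (Fin n) (Fin n) F} (h : R1 N) : ∃ u v, N = vecMulVec u v := by
  obtain ⟨r, hr⟩ := h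
  choose c hc using hr
  refine ⟨r, fun i => c (Pi.single i 1), Matrix.ext fun l i => ?_⟩
  have h := congrFun (hc (Pi.single i 1)) l
  rw [mulVec_single_one] at h
  simp [vecMulVec] at h ⊢
  linear_combination h

theorem R1.of_vecMulVec (u v : Fin n → F) : R1 (vecMulVec u v) :=
  ⟨u, fun w => ⟨v ⬝ᵥ w, by rw [vecMulVec_mulVec, op_smul_eq_smul]⟩⟩

/-- A basis adapted to an outer product. -/
theorem one_form (hn : 2 ≤ n) {u v : Fin n → F} (hu : u ≠ 0) (hv : v ≠ 0) :
    ∃ P : GL (Fin n) F, P.1 *ᵥ Pi.single ⟨0, by omega⟩ 1 = u ∧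
      (v ⬝ᵥ u = 0 → v ᵥ* P.1 = Pi.single (⟨1, by omega⟩ : Fin n) (1 : F)) ∧
      (v ⬝ᵥ u ≠ 0 → v ᵥ* P.1 = (v ⬝ᵥ u) • Pi.single (⟨0, by omega⟩ : Fin n) (1 : F)) := by
  classical
  set c := v ⬝ᵥ u with hc
  have key : ∀ (i : Fin n) (e : Fin n → F) (P : GL (Fin n) F) (k : F), k ≠ 0 → P.1 *ᵥ Pi.single ⟨0, by omega⟩ 1 = u →
      (v ᵥ* P.1) i = k → (v ᵥ* P.1) ⟨0, by omega⟩ = e ⟨0, by omega⟩ → e i = k →
      ∃ P' : GL (Fin n) F, P'.1 *ᵥ Pi.single ⟨0, by omega⟩ 1 = u ∧ v ᵥ* P'.1 = e := by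
    intro i e P k hk hP hi h0 hei
    set w := k⁻¹ • (e - v ᵥ* P.1) with hw
    have hwi : w i = 0 := by rw [hw, Pi.smul_apply, Pi.sub_apply, hi, hei, sub_self, smul_zero]
    have hw0 : w ⟨0, by omega⟩ = 0 := by rw [hw, Pi.smul_apply, Pi.sub_apply, h0, sub_self, smul_zero]
    obtain ⟨W, hW⟩ := exists_GL (S := 1 + vecMulVec (Pi.single i (1 : F)) w) (by
      rw [Cfsg.Agent.Lib.Sourour.det_one_add_vecMulVec', dotProduct_single, hwi]
      simp)
    refine ⟨P * W, ?_, ?_⟩
    · rw [Units.val_mul, ← mulVec_mulVec, hW, add_mulVec, one_mulVec, vecMulVec_mulVec, dotProduct_single, hw0]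
      simp [hP]
    · rw [Units.val_mul, ← vecMul_vecMul, hW, vecMul_add, vecMul_one, vecMul_vecMulVec, dotProduct_single, hi,
        mul_one, hw, smul_smul, mul_inv_cancel₀ hk, one_smul, add_sub_cancel]
  have hPu : ∀ P : GL (Fin n) F, P.1 *ᵥ Pi.single ⟨0, by omega⟩ 1 = u → (v ᵥ* P.1) ⟨0, by omega⟩ = c := by
    intro P hP
    rw [hc, ← hP, dotProduct_mulVec, dotProduct_single, mul_one]
  by_cases h : c = 0
  · obtain ⟨j, hj⟩ : ∃ j, v j ≠ 0 := by
      by_contra hno
      push Not at hno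
      exact hv (funext hno)
    set u' : Fin n → F := Pi.single j (v j)⁻¹ with hu'
    have hvu : v ⬝ᵥ u' = 1 := by simp [hu', dotProduct_single, hj]
    obtain ⟨P, hP⟩ := extend_cols (show 2 ≤ n by omega) ![u, u'] (pair_indep hu fun e he => by
      rw [he, dotProduct_smul, ← hc, h, smul_zero] at hvu
      exact zero_ne_one hvu)
    have hP0 : P.1 *ᵥ Pi.single ⟨0, by omega⟩ 1 = u := hP 0
    have hP1 : P.1 *ᵥ Pi.single ⟨1, by omega⟩ 1 = u' := hP 1
    obtain ⟨P', h1, h2⟩ := key ⟨1, by omega⟩ (Pi.single ⟨1, by omega⟩ 1) P 1 one_ne_zero hP0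
      (by rw [← hvu, ← hP1, dotProduct_mulVec, dotProduct_single, mul_one])
      (by rw [hPu P hP0, h, Pi.single_eq_of_ne]; simp [Fin.ext_iff])
      (Pi.single_eq_same _ _)
    exact ⟨P', h1, fun _ => h2, fun e => absurd h e⟩
  · obtain ⟨P, hP⟩ := extend_cols (show 1 ≤ n by omega) ![u]
      ((LinearIndependent.of_subsingleton (i := (0 : Fin 1))) (by simpa using hu))
    have hP0 : P.1 *ᵥ Pi.single ⟨0, by omega⟩ 1 = u := hP 0
    obtain ⟨P', h1, h2⟩ := key ⟨0, by omega⟩ (c • Pi.single ⟨0, by omega⟩ 1) P c h hP0 (hPu P hP0)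
      (by rw [hPu P hP0]; simp) (by simp)
    exact ⟨P', h1, fun e => absurd e h, fun _ => h2⟩

/-- Two outer products with one trace are similar. -/
theorem sim_rank_one (hn : 2 ≤ n) {u v x f : Fin n → F} (hu : u ≠ 0) (hv : v ≠ 0) (hx : x ≠ 0) (hf : f ≠ 0)
    (h : v ⬝ᵥ u = f ⬝ᵥ x) :
    ∃ S : GL (Fin n) F, vecMulVec x f = S.1 * vecMulVec u v * (S⁻¹).1 := by
  obtain ⟨P, hP, hPv0, hPv⟩ := one_form hn hu hv
  obtain ⟨Q, hQ, hQv0, hQv⟩ := one_form hn hx hf
  have e : v ᵥ* P.1 = f ᵥ* Q.1 := by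
    by_cases h0 : v ⬝ᵥ u = 0
    · rw [hPv0 h0, hQv0 (h ▸ h0)]
    · rw [hPv h0, hQv (h ▸ h0), h]
  refine ⟨Q * P⁻¹, ?_⟩
  rw [_root_.mul_inv_rev, inv_inv, Matrix.mul_vecMulVec, Matrix.vecMulVec_mul, Units.val_mul, Units.val_mul,
    ← vecMul_vecMul, e, ← mulVec_mulVec, show (P⁻¹).1 *ᵥ u = Pi.single ⟨0, by omega⟩ 1 by
      rw [← hP, mulVec_mulVec, Units.inv_mul, one_mulVec], hQ, vecMul_vecMul, Units.mul_inv, vecMul_one]

theorem sub_smul_one {A : Matrix (Fin n) (Fin n) F} {b : F} (hb : b ≠ 0) {u v : Fin n → F}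
    (h : A - b • 1 = vecMulVec (b • u) v) : A = b • (1 + vecMulVec u v) := by
  rw [eq_add_of_sub_eq h, smul_add, smul_vecMulVec, add_comm]

/-- The centralizer of a scalar plus a map of rank one. -/
theorem full_pseudo [Finite F] (hn : 3 ≤ n) (A : GL (Fin n) F) {b : F} (hs : A.1 ≠ b • 1) (hR : R1 (A.1 - b • 1))
    (K : Subgroup Fˣ) : Full K A := by
  obtain ⟨u, v, huv⟩ := R1.exists_vecMulVec hR
  have hu : u ≠ 0 := fun e => hs (sub_eq_zero.1 (by rw [huv, e, zero_vecMulVec]))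
  have hv : v ≠ 0 := fun e => hs (sub_eq_zero.1 (by rw [huv, e, vecMulVec_zero]))
  obtain ⟨P, hP, hPv0, hPv⟩ := one_form (by omega) hu hv
  set z := P.1 *ᵥ Pi.single (⟨2, by omega⟩ : Fin n) 1 with hz
  have hvz : v ⬝ᵥ z = 0 := by
    rw [hz, dotProduct_mulVec, dotProduct_single, mul_one]
    by_cases h0 : v ⬝ᵥ u = 0
    · rw [hPv0 h0]; simp [Fin.ext_iff]
    · rw [hPv h0]; simp [Fin.ext_iff]
  refine full_of_eig A (a := b) (v := z) ?_ (fun w hw => ?_) K
  · rw [← sub_eq_zero, ← one_mulVec z, ← smul_mulVec, one_mulVec, ← sub_mulVec, huv, vecMulVec_mulVec, hvz]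
    simp
  · rw [← one_mulVec w, ← smul_mulVec, one_mulVec, ← sub_mulVec, huv, vecMulVec_mulVec, op_smul_eq_smul, hz, ← hP,
      ← mulVec_smul] at hw
    have h1 := congrArg ((P⁻¹).1 *ᵥ ·) hw
    simp only [mulVec_mulVec, Units.inv_mul, one_mulVec] at h1
    have h2 := congrFun h1 ⟨2, by omega⟩
    simp [Fin.ext_iff] at h2

/-- Rows replaced one after another. -/
theorem prod_rows (X Y S : Matrix (Fin n) (Fin n) F) (hS : ∀ i j, i < j → X i j = S i j)
    (hS0 : ∀ i j, ¬i < j → S i j = 0) (hY : Y = X + Y * S) :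
    (List.ofFn fun i : Fin n => 1 + vecMulVec (fun r => X r i) (Pi.single i 1)).prod = 1 + Y := by
  set f := fun i : Fin n => 1 + vecMulVec (fun r => X r i) (Pi.single i (1 : F)) with hf
  suffices h : ∀ k, k ≤ n → ((List.ofFn f).take k).prod =
      1 + Y * Matrix.diagonal fun i : Fin n => if i.val < k then (1 : F) else 0 by
    have h1 := h n le_rfl
    rw [List.take_of_length_le (by simp)] at h1
    rw [h1, show (fun i : Fin n => if i.val < n then (1 : F) else 0) = fun _ => 1 from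
      funext fun i => if_pos i.isLt, Matrix.diagonal_one, mul_one]
  intro k
  induction k with
  | zero => intro _; simp
  | succ k ih =>
    intro hk
    have hk' : k < (List.ofFn f).length := by simp; omega
    set K : Fin n := ⟨k, by omega⟩ with hK
    rw [List.prod_take_succ _ _ hk', ih (by omega), List.getElem_ofFn]
    show (1 + _) * (1 + vecMulVec (fun r => X r K) (Pi.single K 1)) = _
    rw [mul_add, mul_one, add_mul, one_mul, Matrix.mul_vecMulVec, add_assoc, ← add_vecMulVec]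
    congr 1
    have hcol : (fun r => X r K) + (Y * Matrix.diagonal fun i : Fin n => if i.val < k then (1 : F) else 0) *ᵥ
        (fun r => X r K) = fun r => Y r K := by
      rw [← mulVec_mulVec]
      funext r
      conv_rhs => rw [hY]
      rw [Pi.add_apply, Matrix.add_apply, Matrix.mul_apply]
      congr 1
      simp only [Matrix.mulVec, dotProduct]
      refine Finset.sum_congr rfl fun s _ => ?_
      rw [show ∑ x, Matrix.diagonal (fun i : Fin n => if i.val < k then (1 : F) else 0) s x * X x K =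
        (if s.val < k then (1 : F) else 0) * X s K from Matrix.mulVec_diagonal _ (fun r => X r K) s]
      by_cases hs : s.val < k
      · rw [if_pos hs, one_mul, hS s K hs]
      · rw [if_neg hs, zero_mul, mul_zero, hS0 s K hs, mul_zero]
    rw [hcol]
    ext r s
    rw [Matrix.add_apply, Matrix.mul_diagonal, Matrix.mul_diagonal, vecMulVec_apply]
    by_cases hs : s = K
    · subst hs; simp [hK]
    · have : s.val ≠ k := fun e => hs (Fin.ext e)
      rw [Pi.single_eq_of_ne hs, mul_zero, add_zero]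
      simp only [show s.val < k + 1 ↔ s.val < k by omega]

/-- Factors of rank one make a product. -/
theorem one_of_rows {A g : GL (Fin n) F} (hn : 2 ≤ n) {b : F} (hb : b ≠ 0) {u v : Fin n → F} (hu : u ≠ 0)
    (hv : v ≠ 0) (hA : A.1 = b • (1 + vecMulVec u v)) (x f : Fin n → Fin n → F) (hx : ∀ i, x i ≠ 0)
    (hf : ∀ i, f i ≠ 0) (hpair : ∀ i, f i ⬝ᵥ x i = v ⬝ᵥ u)
    (hg : g.1 = b ^ n • (List.ofFn fun i => 1 + vecMulVec (x i) (f i)).prod) :
    One ⊤ A n g ∧ ∃ l : List (GL (Fin n) F), l.length = n ∧ (∀ B ∈ l, ∃ S : GL (Fin n) F, B = S * A * S⁻¹) ∧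
      l.prod = g ∧ ∀ B : GL (Fin n) F, B ∈ l ↔ ∃ i, B.1 = b • (1 + vecMulVec (x i) (f i)) := by
  have hS : ∀ i, ∃ S : GL (Fin n) F, (S * A * S⁻¹).1 = b • (1 + vecMulVec (x i) (f i)) := fun i => by
    obtain ⟨S, hS⟩ := sim_rank_one hn hu hv (hx i) (hf i) (hpair i).symm
    refine ⟨S, ?_⟩
    rw [Units.val_mul, Units.val_mul, hA, Matrix.mul_smul, Matrix.smul_mul, mul_add, add_mul, mul_one,
      Units.mul_inv, hS]
  choose S hS using hS
  set l := List.ofFn fun i => S i * A * (S i)⁻¹ with hl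
  have hl' : ∀ B ∈ l, ∃ T : GL (Fin n) F, B = T * A * T⁻¹ := fun B hB => by
    rw [hl, List.mem_ofFn] at hB
    obtain ⟨i, rfl⟩ := hB
    exact ⟨S i, rfl⟩
  have hp : l.prod = g := by
    refine Units.ext ?_
    rw [hg, ← Units.coeHom_apply, map_list_prod, hl, List.map_ofFn]
    have : ∀ (k : ℕ) (M : Fin k → Matrix (Fin n) (Fin n) F),
        (List.ofFn fun i => b • M i).prod = b ^ k • (List.ofFn M).prod := by
      intro k
      induction k with
      | zero => intro M; simp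
      | succ k ih =>
        intro M
        rw [List.ofFn_succ, List.prod_cons, ih, List.ofFn_succ, List.prod_cons, Matrix.smul_mul, Matrix.mul_smul,
          smul_smul, ← pow_succ']
    rw [← this]
    congr 1
    exact congrArg List.ofFn (funext fun i => hS i)
  have hlen : l.length = n := by simp [hl]
  refine ⟨?_, l, hlen, hl', hp, fun B => ?_⟩
  · have := One.of_list (K := (⊤ : Subgroup Fˣ)) l fun B hB => by
      obtain ⟨T, hT⟩ := hl' B hB
      exact ⟨T, Subgroup.mem_top _, hT⟩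
    rwa [hlen, hp] at this
  · rw [hl, List.mem_ofFn]
    constructor
    · rintro ⟨i, rfl⟩; exact ⟨i, hS i⟩
    · rintro ⟨i, hi⟩; exact ⟨i, Units.ext ((hS i).trans hi.symm)⟩

theorem det_pseudo {A : Matrix (Fin n) (Fin n) F} {b : F} {u v : Fin n → F}
    (hA : A = b • (1 + vecMulVec u v)) : A.det = b ^ n * (1 + v ⬝ᵥ u) := by
  rw [hA, det_smul, Fintype.card_fin, Cfsg.Agent.Lib.Sourour.det_one_add_vecMulVec']

/-- The triangular factorisation gives the factors. -/
theorem pseudo_good [Fintype F] (h4 : 4 ≤ Fintype.card F) (hn : 3 ≤ n) {A g : GL (Fin n) F} {b : F}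
    {u v : Fin n → F} (hu : u ≠ 0) (hv : v ≠ 0) (hA : A.1 = b • (1 + vecMulVec u v))
    (hdet : GeneralLinearGroup.det g = GeneralLinearGroup.det A ^ n)
    (hg : Good (((b ^ n * (1 + v ⬝ᵥ u))⁻¹) • g.1)) :
    One ⊤ A n g ∧ (v ⬝ᵥ u = 0 → NF A n g) := by
  classical
  obtain ⟨m, rfl⟩ : ∃ m, n = m + 1 := ⟨n - 1, by omega⟩
  set ε := 1 + v ⬝ᵥ u with hε
  have hAd := det_pseudo hA
  have hb : b ≠ 0 := fun e => GeneralLinearGroup.det_ne_zero A (by rw [hAd, e, zero_pow (by omega), zero_mul])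
  have hε0 : ε ≠ 0 := fun e => GeneralLinearGroup.det_ne_zero A (by rw [hAd, ← hε, e, mul_zero])
  set c := b ^ (m + 1) * ε with hc
  have hc0 : c ≠ 0 := mul_ne_zero (pow_ne_zero _ hb) hε0
  set g0 := c⁻¹ • g.1 with hg0
  have hd0 : g0.det = 1 := by
    have h1 := congrArg Units.val hdet
    rw [Units.val_pow_eq_pow_val, det_val, det_val, hAd] at h1
    rw [hg0, det_smul, Fintype.card_fin, h1, inv_pow, inv_mul_cancel₀ (pow_ne_zero _ hc0)]
  have h0 : (Pi.single 0 1 : Fin (m + 1) → F) ≠ 0 := by simp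
  obtain ⟨P, P', L, U, hPP, hLU, hL, hU, -, -⟩ :=
    Cfsg.Agent.Lib.Sourour.lu (four_of_fintype h4) m g0 hd0 (fun _ => hg) _ _ h0 h0 (fun _ => 1) (fun _ => one_ne_zero)
  have hPP' : P * P' = 1 := mul_eq_one_comm.1 hPP
  obtain ⟨Y', hUY, hYU, hYz, hYd, hYn⟩ :=
    Cfsg.Agent.Lib.Sourour.up_inv (γ := fun _ => (1 : F)) (fun _ => one_ne_zero) hU.zero
      (fun i => (hU.diag i).trans inv_one)
  set X := ε • L - Y' with hX
  set S := 1 - Y' with hS
  set Y := X * U with hY
  have hdiag : ∀ i, X i i = v ⬝ᵥ u := fun i => by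
    rw [hX, Matrix.sub_apply, Matrix.smul_apply, hL.diag, hYd, inv_one, smul_eq_mul, mul_one, hε]; ring
  have hprod := prod_rows X Y S (fun i j h => by
      rw [hX, hS, Matrix.sub_apply, Matrix.sub_apply, Matrix.smul_apply, hL.zero i j h, Matrix.one_apply_ne h.ne,
        smul_zero])
    (fun i j h => by
      rcases eq_or_lt_of_le (not_lt.1 h) with e | e
      · subst e; rw [hS, Matrix.sub_apply, Matrix.one_apply_eq, hYd, inv_one, sub_self]
      · rw [hS, Matrix.sub_apply, hYz i j e, Matrix.one_apply_ne e.ne', sub_zero])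
    (by rw [hY, hS, mul_sub, mul_one, Matrix.mul_assoc, hUY, Matrix.mul_one]; abel)
  have h1Y : 1 + Y = ε • (P' * g0 * P) := by
    rw [hLU, hY, hX, sub_mul, Matrix.smul_mul, hYU]; abel
  have hx : ∀ i : Fin (m + 1), (fun r => X r i) ≠ 0 := by
    intro i e
    by_cases hi : i.val + 1 < m + 1
    · have h1 := congrFun e ⟨i.val + 1, hi⟩
      have h2 : i < (⟨i.val + 1, hi⟩ : Fin (m + 1)) := Fin.lt_def.2 (by simp)
      simp only [hX, Matrix.sub_apply, Matrix.smul_apply, hYz _ _ h2, sub_zero, smul_eq_mul, Pi.zero_apply,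
        mul_eq_zero] at h1
      exact hL.next _ _ (by simp) (h1.resolve_left hε0)
    · set j : Fin (m + 1) := ⟨i.val - 1, by omega⟩ with hj
      have hji : j.val + 1 = i.val := by have := i.isLt; rw [hj]; simp; omega
      have h1 := congrFun e j
      have h2 : j < i := Fin.lt_def.2 (by omega)
      simp only [hX, Matrix.sub_apply, Matrix.smul_apply, hL.zero _ _ h2, smul_zero, zero_sub, Pi.zero_apply,
        neg_eq_zero, hYn _ _ hji, inv_one, one_mul, mul_one] at h1
      exact hU.next _ _ hji h1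
  set x : Fin (m + 1) → Fin (m + 1) → F := fun i => P *ᵥ fun r => X r i with hxdef
  set f : Fin (m + 1) → Fin (m + 1) → F := fun i => Pi.single i 1 ᵥ* P' with hfdef
  have hfx : ∀ i (w : Fin (m + 1) → F), f i ⬝ᵥ w = (P' *ᵥ w) i := fun i w => by
    rw [hfdef]
    show (Pi.single i 1 ᵥ* P') ⬝ᵥ w = _
    rw [← dotProduct_mulVec, single_dotProduct, one_mul]
  obtain ⟨hone, l, hl1, hl2, hl3, hl4⟩ := one_of_rows (g := g) (by omega) hb hu hv hA x f (fun i e => hx i (by
      have h1 := congrArg (P' *ᵥ ·) e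
      simpa [hxdef, mulVec_mulVec, hPP] using h1)) (fun i e => by
      have h1 := congrArg (· ᵥ* P) e
      simp only [hfdef, vecMul_vecMul, hPP, vecMul_one, zero_vecMul] at h1
      have h2 := congrFun h1 i
      simp at h2)
    (fun i => by rw [hfx, hxdef, mulVec_mulVec, hPP, one_mulVec]; exact hdiag i) (by
      have : ∀ k (M : Fin k → Matrix (Fin (m + 1)) (Fin (m + 1)) F),
          (List.ofFn fun i => P * M i * P').prod = P * (List.ofFn M).prod * P' := by
        intro k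
        induction k with
        | zero => intro M; simp [hPP']
        | succ k ih =>
          intro M
          rw [List.ofFn_succ, List.prod_cons, ih, List.ofFn_succ, List.prod_cons]
          simp only [Matrix.mul_assoc, ← Matrix.mul_assoc P' P, hPP, Matrix.one_mul]
      have hM : (fun i => 1 + vecMulVec (x i) (f i)) =
          fun i => P * (1 + vecMulVec (fun r => X r i) (Pi.single i 1)) * P' := funext fun i => by
        rw [mul_add, add_mul, Matrix.mul_one, hPP', Matrix.mul_vecMulVec, Matrix.vecMulVec_mul]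
      rw [hM, this, hprod, h1Y, Matrix.mul_smul, Matrix.smul_mul, smul_smul, ← hc, ← Matrix.mul_assoc,
        ← Matrix.mul_assoc, hPP', Matrix.one_mul, Matrix.mul_assoc, hPP', Matrix.mul_one, hg0, smul_smul,
        mul_inv_cancel₀ hc0, one_smul])
  refine ⟨hone, fun h0 => ⟨l, hl1, hl2, hl3, fun a w hw => ?_⟩⟩
  by_contra hno
  push Not at hno
  obtain ⟨z, hz⟩ : ∃ z, z = P' *ᵥ w := ⟨_, rfl⟩
  have hw' : P *ᵥ z = w := by rw [hz, mulVec_mulVec, hPP', one_mulVec]
  have key : ∀ i, (b - a) • z + (b * z i) • (fun r => X r i) = 0 := by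
    intro i
    obtain ⟨B, hB⟩ : ∃ B : GL (Fin (m + 1)) F, B ∈ l ∧ B.1 = b • (1 + vecMulVec (x i) (f i)) := by
      obtain ⟨B, hB⟩ := exists_GL (S := b • (1 + vecMulVec (x i) (f i))) (by
        rw [det_pseudo rfl, hfx, hxdef, mulVec_mulVec, hPP, one_mulVec, hdiag]
        exact mul_ne_zero (pow_ne_zero _ hb) hε0)
      exact ⟨B, (hl4 B).2 ⟨i, hB⟩, hB⟩
    have h1 := congrArg (P' *ᵥ ·) (hno B hB.1)
    simp only [hB.2, smul_mulVec, add_mulVec, one_mulVec, vecMulVec_mulVec, op_smul_eq_smul, mulVec_smul,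
      mulVec_add, hfx, ← hz, hxdef, mulVec_mulVec, hPP] at h1
    rw [sub_smul, ← sub_eq_zero.2 h1, smul_add, smul_smul]
    abel
  obtain ⟨i, hi⟩ : ∃ i, z i ≠ 0 := by
    by_contra hall
    push Not at hall
    exact hw (by rw [← hw', show z = 0 from funext hall, mulVec_zero])
  have h1 := congrFun (key i) i
  simp only [Pi.add_apply, Pi.smul_apply, smul_eq_mul, Pi.zero_apply, hdiag, h0, mul_zero, add_zero,
    mul_eq_zero] at h1
  have h2 := key i
  rw [h1.resolve_right hi, zero_smul, zero_add, smul_eq_zero] at h2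
  exact hx i (h2.resolve_left (mul_ne_zero hb hi))

theorem exists_sum_list [Fintype F] (h4 : 4 ≤ Fintype.card F) : ∀ (k : ℕ) (σ : F), 2 ≤ k →
    ∃ s : Fin k → F, (∀ i, s i ≠ 0) ∧ ∑ i, s i = σ := by
  intro k
  induction k with
  | zero => intro σ h; omega
  | succ k ih =>
    intro σ hk
    by_cases h2 : k = 1
    · subst h2
      obtain ⟨t, h0, h1, -, -⟩ := avoid_pm h4 σ 0
      exact ⟨![t, σ - t], fun i => by fin_cases i <;> simp [h0, sub_eq_zero, Ne.symm h1], by simp⟩
    · obtain ⟨s, hs, hsum⟩ := ih (σ - 1) (by omega)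
      exact ⟨Fin.cons 1 s, fun i => by induction i using Fin.cases <;> simp [hs],
        by rw [Fin.sum_univ_succ]; simp [hsum]⟩

/-- Every nonscalar element of determinant one. -/
theorem pseudo_exact [Fintype F] (h4 : 4 ≤ Fintype.card F) (hn : 3 ≤ n) {A g : GL (Fin n) F} {b : F}
    (hs : ∀ c : F, A.1 ≠ c • 1) (hR : R1 (A.1 - b • 1)) (hdA : GeneralLinearGroup.det A = 1)
    (hdet : GeneralLinearGroup.det g = 1) (hg : ∀ c : F, g.1 ≠ c • 1) : One ⊥ A n g := by
  classical
  refine One.of_full (full_pseudo hn A (hs b) hR ⊥) ?_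
  have hb : b ≠ 0 := by
    rintro rfl
    rw [zero_smul, sub_zero] at hR
    obtain ⟨u, v, huv⟩ := R1.exists_vecMulVec hR
    obtain ⟨m, rfl⟩ : ∃ m, n = m + 1 := ⟨n - 1, by omega⟩
    refine GeneralLinearGroup.det_ne_zero A ?_
    rw [huv]
    haveI : Nontrivial (Fin (m + 1)) := ⟨⟨0, by omega⟩, ⟨1, by omega⟩, by simp⟩
    rw [Matrix.det_vecMulVec]
  obtain ⟨u', v, huv⟩ := R1.exists_vecMulVec hR
  set u := b⁻¹ • u' with hu'
  have hA : A.1 = b • (1 + vecMulVec u v) := sub_smul_one hb (by rw [huv, hu', smul_smul, mul_inv_cancel₀ hb, one_smul])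
  have hu : u ≠ 0 := fun e => hs b (by rw [hA, e, zero_vecMulVec, add_zero])
  have hv : v ≠ 0 := fun e => hs b (by rw [hA, e, vecMulVec_zero, add_zero])
  have hone : b ^ n * (1 + v ⬝ᵥ u) = 1 := by
    rw [← det_pseudo hA, ← det_val, hdA, Units.val_one]
  by_cases hG : Good g.1
  · exact (pseudo_good h4 hn hu hv hA (by rw [hdet, hdA, one_pow]) (by rwa [hone, inv_one, one_smul])).1
  -- a transvection
  have hgR : R1 (g.1 - 1) := by
    by_contra h
    exact hG ⟨hg, h⟩
  obtain ⟨p, q, hpq⟩ := R1.exists_vecMulVec hgR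
  have hg' : g.1 = 1 + vecMulVec p q := by rw [← hpq, add_sub_cancel]
  have hp : p ≠ 0 := fun e => hg 1 (by rw [hg', e, zero_vecMulVec, add_zero, one_smul])
  have hq : q ≠ 0 := fun e => hg 1 (by rw [hg', e, vecMulVec_zero, add_zero, one_smul])
  have hqp : q ⬝ᵥ p = 0 := by
    have h1 : g.1.det = 1 := by rw [← det_val, hdet, Units.val_one]
    rw [hg', Cfsg.Agent.Lib.Sourour.det_one_add_vecMulVec'] at h1
    linear_combination h1
  set i0 : Fin n := ⟨0, by omega⟩
  set i1 : Fin n := ⟨1, by omega⟩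
  have h01 : i0 ≠ i1 := by simp [i0, i1]
  obtain ⟨T, hT⟩ := exists_GL (S := 1 + vecMulVec (Pi.single i0 (1 : F)) (Pi.single i1 1)) (by
    rw [Cfsg.Agent.Lib.Sourour.det_one_add_vecMulVec', dotProduct_single]
    simp [Pi.single_eq_of_ne h01])
  obtain ⟨R, hR'⟩ := sim_rank_one (by omega) (u := Pi.single i0 (1 : F)) (v := Pi.single i1 1) (x := p) (f := q)
    (by simp) (by simp) hp hq (by rw [hqp, dotProduct_single]; simp [Pi.single_eq_of_ne h01])
  have hgT : g = R * T * R⁻¹ := Units.ext (by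
    rw [Units.val_mul, Units.val_mul, hT, mul_add, add_mul, mul_one, Units.mul_inv, hg', hR'])
  rw [hgT]
  refine One.conj ?_ (Subgroup.mem_top _)
  by_cases hε : v ⬝ᵥ u = 0
  · have hbn : b ^ n = 1 := by rw [← hone, hε, add_zero, mul_one]
    obtain ⟨s, hs0, hsum⟩ := exists_sum_list h4 n 1 (by omega)
    refine (one_of_rows (by omega) hb hu hv hA (fun i => s i • Pi.single i0 1) (fun _ => Pi.single i1 1)
      (fun i => by simp [hs0 i]) (fun _ => by simp)
      (fun i => by simp [hε, h01, Pi.single_eq_of_ne]) ?_).1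
    have : ∀ k (s : Fin k → F), (List.ofFn fun i => (1 : Matrix (Fin n) (Fin n) F) +
        vecMulVec (s i • Pi.single i0 (1 : F)) (Pi.single i1 (1 : F))).prod =
        1 + vecMulVec ((∑ i, s i) • Pi.single i0 (1 : F)) (Pi.single i1 (1 : F)) := by
      intro k
      induction k with
      | zero => intro s; simp
      | succ k ih =>
        intro s
        rw [List.ofFn_succ, List.prod_cons, ih, mul_add, mul_one, add_mul, one_mul, vecMulVec_mul_vecMulVec,
          Fin.sum_univ_succ, add_smul, add_vecMulVec]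
        have : Pi.single i1 (1 : F) ⬝ᵥ ((∑ i : Fin k, s i.succ) • Pi.single i0 (1 : F)) = 0 := by
          rw [dotProduct_smul, dotProduct_single, Pi.single_eq_of_ne h01, zero_mul, smul_zero]
        rw [this]
        simp
        abel
    rw [this, hsum, hbn, one_smul, one_smul, hT]
  · set δ := v ⬝ᵥ u with hδ
    set S : Matrix (Fin n) (Fin n) F := Matrix.single i0 i1 1 with hS
    set X : Matrix (Fin n) (Fin n) F := δ • 1 + S with hX
    set Y : Matrix (Fin n) (Fin n) F := δ • 1 + (1 + δ) • S with hY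
    have hSS : S * S = 0 := by rw [hS, Matrix.single_mul_single_of_ne (h := Ne.symm h01)]
    have hlt : i0 < i1 := Fin.lt_def.2 (by simp [i0, i1])
    refine (one_of_rows (by omega) hb hu hv hA (fun i r => X r i) (fun i => Pi.single i 1) (fun i e => hε ?_)
      (fun _ => by simp) (fun i => ?_) ?_).1
    · have h1 := congrFun e i
      simpa [hX, hS, Matrix.single, show ¬(i0 = i ∧ i1 = i) from fun h => h01 (h.1.trans h.2.symm)] using h1
    · rw [single_dotProduct, one_mul]
      simp [hX, hS, Matrix.single, show ¬(i0 = i ∧ i1 = i) from fun h => h01 (h.1.trans h.2.symm)]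
      exact hδ
    · rw [prod_rows X Y S (fun i j h => by simp [hX, Matrix.one_apply_ne h.ne]) (fun i j h => by
          rw [hS, Matrix.single_apply_of_ne]
          rintro ⟨rfl, rfl⟩
          exact h hlt)
        (by rw [hY, hX, add_mul, Matrix.smul_mul, Matrix.smul_mul, one_mul, hSS]; simp [add_smul]; abel),
        hT, hY, show (1 : Matrix (Fin n) (Fin n) F) + (δ • 1 + (1 + δ) • S) = (1 + δ) • (1 + S) by
          rw [smul_add, add_smul 1 δ (1 : Matrix (Fin n) (Fin n) F), one_smul, add_assoc], smul_smul, hone, one_smul,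
        hS]
      congr 1
      ext r s
      simp [vecMulVec_apply, Matrix.single, Pi.single_apply]
      aesop

end Cfsg.Agent.Lib.LevCover
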