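import Cfsg.Agent.Lib.LevCover.Rel
import Cfsg.Agent.Lib.Sourour.Comm

/-!
The scalar target for a minimal polynomial of degree two.
-/

set_option autoImplicit false

namespace Cfsg.Agent.Lib.LevCover

open Matrix Polynomial
open Cfsg.Agent.Lib.Sourour (R1)

variable {F : Type*} [Field F] {n : ℕ}

theorem quad_of_R1 {A : Matrix (Fin n) (Fin n) F} {b : F} (h : R1 (A - b • 1)) :
    ∃ t d : F, A * A = t • A - d • 1 := by
  obtain ⟨u, v, huv⟩ := R1.exists_vecMulVec h
  refine ⟨b + b + v ⬝ᵥ u, b * b + b * (v ⬝ᵥ u), ?_⟩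
  have hA : A = b • 1 + vecMulVec u v := by rw [← huv, add_sub_cancel]
  rw [hA]
  simp only [add_mul, mul_add, Matrix.smul_mul, Matrix.mul_smul, one_mul, mul_one, smul_smul, vecMulVec_mul_vecMulVec,
    smul_add, vecMulVec_smul]
  module

/-- Two eigenvalues: permuted diagonals. -/
theorem exact_two_roots [Fintype F] (hn : 0 < n) (A : GL (Fin n) F) {a b : F} (hab : a ≠ b)
    (hq : (A.1 - a • 1) * (A.1 - b • 1) = 0) (hA : A.1 ≠ b • 1) (hdA : GeneralLinearGroup.det A = 1) :
    One ⊥ A n 1 := by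
  classical
  haveI : NeZero n := ⟨by omega⟩
  have hq' : (A.1 - b • 1) * (A.1 - a • 1) = 0 := by
    rw [← hq]
    simp only [sub_mul, mul_sub, Matrix.smul_mul, Matrix.mul_smul, one_mul, mul_one, smul_smul]
    rw [mul_comm b a]; abel
  -- a basis of eigenvectors
  set s : Set (Fin n → F) := {u | A.1 *ᵥ u = a • u} ∪ {u | A.1 *ᵥ u = b • u} with hs
  have htop : ⊤ ≤ Submodule.span F s := by
    intro u _
    have h1 : ∀ (c d : F), (A.1 - c • 1) * (A.1 - d • 1) = 0 →
        A.1 *ᵥ ((A.1 - d • 1) *ᵥ u) = c • ((A.1 - d • 1) *ᵥ u) := fun c d h => by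
      rw [← sub_eq_zero, ← one_mulVec (c • _), mulVec_smul, ← smul_mulVec, ← sub_mulVec, mulVec_mulVec, h,
        zero_mulVec]
    have e : u = (a - b)⁻¹ • ((A.1 - b • 1) *ᵥ u) - (a - b)⁻¹ • ((A.1 - a • 1) *ᵥ u) := by
      rw [← smul_sub, ← sub_mulVec, sub_sub_sub_cancel_left, ← sub_smul, smul_mulVec, one_mulVec, smul_smul,
        inv_mul_cancel₀ (sub_ne_zero.2 hab), one_smul]
    rw [e]
    exact Submodule.sub_mem _ (Submodule.smul_mem _ _ (Submodule.subset_span (Or.inl (h1 a b hq))))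
      (Submodule.smul_mem _ _ (Submodule.subset_span (Or.inr (h1 b a hq'))))
  set bas := Module.Basis.ofSpan htop with hbas
  haveI := Module.Finite.finite_basis bas
  haveI := Fintype.ofFinite (LinearIndepOn.extend (linearIndepOn_empty F id) (Set.empty_subset s))
  have hcard : Fintype.card (LinearIndepOn.extend (linearIndepOn_empty F id) (Set.empty_subset s)) = n := by
    rw [← Module.finrank_eq_card_basis bas, Module.finrank_fin_fun]
  set e := Fintype.equivFinOfCardEq hcard with he
  have heig : ∀ i, ∃ c : F, A.1 *ᵥ (bas.reindex e i) = c • bas.reindex e i := by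
    intro i
    have h1 := Module.Basis.ofSpan_subset htop ⟨e.symm i, rfl⟩
    rw [Module.Basis.reindex_apply]
    rcases h1 with h | h
    exacts [⟨a, h⟩, ⟨b, h⟩]
  choose l hl using heig
  obtain ⟨P, hP⟩ := extend_cols (le_refl n) (fun i => bas.reindex e i) (bas.reindex e).linearIndependent
  have hP' : ∀ i, P.1 *ᵥ Pi.single i 1 = bas.reindex e i := fun i => hP i
  have hAP : A.1 * P.1 = P.1 * Matrix.diagonal l := by
    refine Matrix.ext_of_mulVec_single fun i => ?_
    rw [← mulVec_mulVec, hP', hl, ← mulVec_mulVec, show Matrix.diagonal l *ᵥ Pi.single i 1 = l i • Pi.single i 1 by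
      funext j
      rw [Matrix.mulVec_diagonal]
      by_cases h : j = i
      · subst h; simp
      · simp [h], mulVec_smul, hP']
  have hprod : ∏ i, l i = 1 := by
    have h1 := congrArg Matrix.det hAP
    rw [det_mul, det_mul, det_diagonal, ← det_val A, hdA, Units.val_one, one_mul] at h1
    exact (mul_left_cancel₀ (GeneralLinearGroup.det_ne_zero P) ((mul_one _).trans h1)).symm
  -- the shifts
  have shift : ∀ i : Fin n, ∃ B : GL (Fin n) F, Fac ⊤ A B ∧
      B.1 = P.1 * Matrix.diagonal (fun r => l (r + i)) * (P⁻¹).1 := by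
    intro i
    set S : Matrix (Fin n) (Fin n) F := Matrix.of fun r c => if c = r + i then 1 else 0 with hS
    have hSz : ∀ z, S *ᵥ z = fun r => z (r + i) := fun z => by
      funext r; simp [hS, Matrix.mulVec, dotProduct]
    obtain ⟨SG, hSG⟩ := exists_GL (S := S) (fun e => by
      obtain ⟨z, hz0, hz⟩ := Matrix.exists_mulVec_eq_zero_iff.2 e
      rw [hSz] at hz
      exact hz0 (funext fun r => by simpa using congrFun hz (r - i)))
    have hSd : S * Matrix.diagonal l = Matrix.diagonal (fun r => l (r + i)) * S := by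
      ext r c
      rw [Matrix.mul_diagonal, Matrix.diagonal_mul]
      simp only [hS, Matrix.of_apply]
      by_cases h : c = r + i
      · subst h; simp
      · simp [h]
    refine ⟨P * SG * P⁻¹ * A * (P * SG * P⁻¹)⁻¹, ⟨_, Subgroup.mem_top _, rfl⟩, ?_⟩
    have h1 : (P⁻¹ * A * P).1 = Matrix.diagonal l := by
      rw [Units.val_mul, Units.val_mul, mul_assoc, hAP, ← mul_assoc, Units.inv_mul, one_mul]
    rw [show P * SG * P⁻¹ * A * (P * SG * P⁻¹)⁻¹ = P * (SG * (P⁻¹ * A * P) * SG⁻¹) * P⁻¹ by group,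
      Units.val_mul, Units.val_mul, Units.val_mul, Units.val_mul, h1, hSG, hSd, mul_assoc (Matrix.diagonal _) S,
      ← hSG, Units.mul_inv, mul_one]
  choose B hB hBv using shift
  have hlist := One.of_list (K := (⊤ : Subgroup Fˣ)) (List.ofFn B) (fun C hC => by
    rw [List.mem_ofFn] at hC; obtain ⟨i, rfl⟩ := hC; exact hB i)
  have hone : (List.ofFn B).prod = 1 := by
    refine Units.ext ?_
    rw [← Units.coeHom_apply, map_list_prod, List.map_ofFn, Units.val_one]
    have key : ∀ k (f : Fin k → Fin n → F), (List.ofFn fun i => P.1 * Matrix.diagonal (f i) * (P⁻¹).1).prod =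
        P.1 * Matrix.diagonal (fun r => ∏ i, f i r) * (P⁻¹).1 := by
      intro k
      induction k with
      | zero => intro f; simp
      | succ k ih =>
        intro f
        rw [List.ofFn_succ, List.prod_cons, ih]
        simp only [mul_assoc, ← mul_assoc (P⁻¹).1 P.1, Units.inv_mul, one_mul, Fin.prod_univ_succ]
        rw [← mul_assoc (Matrix.diagonal _) (Matrix.diagonal _), Matrix.diagonal_mul_diagonal]
    rw [show (⇑(Units.coeHom _) ∘ B) = fun i => P.1 * Matrix.diagonal (fun r => l (r + i)) * (P⁻¹).1 from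
      funext hBv, key]
    have : (fun r => ∏ i, l (r + i)) = fun _ => (1 : F) := funext fun r => by
      rw [← hprod]
      exact Fintype.prod_equiv (Equiv.addLeft r) _ _ fun i => rfl
    rw [this, Matrix.diagonal_one, mul_one, Units.mul_inv]
  rw [List.length_ofFn, hone] at hlist
  refine One.of_full ?_ hlist
  obtain ⟨u, hu⟩ : ∃ u, (A.1 - b • 1) *ᵥ u ≠ 0 := by
    by_contra hno
    push Not at hno
    exact hA (sub_eq_zero.1 (mext fun u => by rw [hno u, zero_mulVec]))
  refine full_of_eig A (a := a) (v := (A.1 - b • 1) *ᵥ u) ?_ (fun w hw => hu ?_) ⊥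
  · rw [← sub_eq_zero, ← one_mulVec (a • _), mulVec_smul, ← smul_mulVec, ← sub_mulVec, mulVec_mulVec, hq,
      zero_mulVec]
  · have h1 : (A.1 - a • 1) *ᵥ ((A.1 - b • 1) *ᵥ u) = 0 := by rw [mulVec_mulVec, hq, zero_mulVec]
    have h2 : (A.1 - b • 1) *ᵥ ((A.1 - b • 1) *ᵥ u) = 0 := by
      conv_lhs => arg 2; rw [← hw, ← one_mulVec w, ← smul_mulVec, one_mulVec, ← sub_mulVec]
      rw [mulVec_mulVec, hq', zero_mulVec]
    have h3 : (a - b) • ((A.1 - b • 1) *ᵥ u) = 0 := by
      rw [← sub_eq_zero.2 (h2.trans h1.symm), ← sub_mulVec (A.1 - b • 1) (A.1 - a • 1), sub_sub_sub_cancel_left,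
        ← sub_smul, smul_mulVec, one_mulVec]
    exact (smul_eq_zero.1 h3).resolve_left (sub_ne_zero.2 hab)

theorem exists_split_one [Fintype F] (h4 : 4 ≤ Fintype.card F) (hi : ∀ i : F, i * i ≠ -1) :
    ∃ u v : F, u ≠ 0 ∧ v ≠ 0 ∧ u * u + v * v = 1 := by
  classical
  have h2 : (2 : F) ≠ 0 := fun e => hi 1 (by linear_combination e)
  obtain ⟨t, h0, h1, h1', -⟩ := avoid_pm h4 1 (-1)
  have hd : 1 + t * t ≠ 0 := fun e => hi t (by linear_combination e)
  refine ⟨2 * t / (1 + t * t), (1 - t * t) / (1 + t * t), div_ne_zero (mul_ne_zero h2 h0) hd,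
    div_ne_zero (fun e => ?_) hd, by
      rw [div_mul_div_comm, div_mul_div_comm, ← add_div, div_eq_one_iff_eq (mul_ne_zero hd hd)]; ring⟩
  rcases mul_self_eq_one_iff.1 (show t * t = 1 by linear_combination -e) with h | h
  exacts [h1 h, h1' h]

theorem exists_squares [Fintype F] (h4 : 4 ≤ Fintype.card F) {r : ℕ} (hr : 3 ≤ 2 * r) :
    ∃ u : Fin (2 * r) → F, (∀ i, u i ≠ 0) ∧ ∑ i, u i * u i = 0 := by
  by_cases hi : ∃ i : F, i * i = -1
  · obtain ⟨i, hi⟩ := hi
    have hi0 : i ≠ 0 := fun e => by rw [e, mul_zero, eq_comm, neg_eq_zero] at hi; exact one_ne_zero hi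
    clear hr
    induction r with
    | zero => exact ⟨fun j => j.elim0, fun j => j.elim0, by simp⟩
    | succ r ih =>
      obtain ⟨u, hu, hs⟩ := ih
      exact ⟨Fin.cons 1 (Fin.cons i u), fun j => by
        induction j using Fin.cases with
        | zero => simp
        | succ j => induction j using Fin.cases <;> simp [hi0, hu], by
        show ∑ j : Fin (2 * r + 1 + 1), (Fin.cons 1 (Fin.cons i u) : Fin (2 * r + 1 + 1) → F) j *
          (Fin.cons 1 (Fin.cons i u) : Fin (2 * r + 1 + 1) → F) j = 0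
        rw [Fin.sum_univ_succ, Fin.sum_univ_succ]
        simp [hs, hi]⟩
  · push Not at hi
    obtain ⟨u, v, hu, hv, huv⟩ := exists_split_one h4 hi
    suffices h : ∀ k, 3 ≤ k → ∃ s : Fin k → F, (∀ i, s i ≠ 0) ∧ ∑ i, s i * s i = 0 from h _ hr
    intro k hk
    induction k with
    | zero => omega
    | succ k ih =>
      by_cases h2 : k = 2
      · subst h2
        obtain ⟨x, y, hxy⟩ := Cfsg.Agent.Lib.Sourour.exists_norm_neg_one (F := F) (γ := -1) (by norm_num)
        refine ⟨![1, x, y], fun j => ?_, by simp [Fin.sum_univ_three]; linear_combination hxy⟩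
        fin_cases j
        · simp
        · simp; intro e; exact hi y (by rw [e] at hxy; linear_combination hxy)
        · simp; intro e; exact hi x (by rw [e] at hxy; linear_combination hxy)
      · obtain ⟨s, hs0, hs⟩ := ih (by omega)
        obtain ⟨j, rfl⟩ : ∃ j, k = j + 1 := ⟨k - 1, by omega⟩
        refine ⟨Fin.cons (s 0 * u) (Fin.cons (s 0 * v) fun i => s i.succ), fun i => ?_, ?_⟩
        · induction i using Fin.cases with
          | zero => simp [hs0, hu]
          | succ i => induction i using Fin.cases <;> simp [hs0, hv]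
        · rw [Fin.sum_univ_succ] at hs
          rw [Fin.sum_univ_succ, Fin.sum_univ_succ]
          simp
          linear_combination hs + (s 0 * s 0) * huv

/-- One eigenvalue: commuting square zero maps. -/
theorem exact_one_root [Fintype F] (h4 : 4 ≤ Fintype.card F) (hn : 3 ≤ n) (A : GL (Fin n) F) {a : F}
    (hq : (A.1 - a • 1) * (A.1 - a • 1) = 0) (hdA : GeneralLinearGroup.det A = 1) : One ⊥ A n 1 := by
  classical
  have ha : a ≠ 0 := by
    rintro rfl
    rw [zero_smul, sub_zero] at hq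
    haveI : Nonempty (Fin n) := ⟨⟨0, by omega⟩⟩
    exact GeneralLinearGroup.det_ne_zero A (mul_self_eq_zero.1 (by rw [← det_mul, hq]; exact det_zero))
  set N : Matrix (Fin n) (Fin n) F := a⁻¹ • (A.1 - a • 1) with hN
  have hAN : A.1 = a • (1 + N) := by rw [hN, smul_add, smul_smul, mul_inv_cancel₀ ha, one_smul, add_sub_cancel]
  have hNN : N * N = 0 := by rw [hN, Matrix.smul_mul, Matrix.mul_smul, hq, smul_zero, smul_zero]
  set R := LinearMap.range N.mulVecLin with hR
  set r := Module.finrank F R with hr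
  have hrn := rank_pair hNN
  have han : a ^ n = 1 := by
    have hnil : N.charpoly = Polynomial.X ^ n := by
      have h5 := (Matrix.isNilpotent_charpoly_sub_pow_of_isNilpotent (M := N) ⟨2, by rw [sq, hNN]⟩).eq_zero
      rwa [sub_eq_zero, Fintype.card_fin] at h5
    have h5 : (1 + N).det = 1 := by
      have h6 := Matrix.eval_charpoly N (-1)
      rw [hnil, eval_pow, eval_X, show Matrix.scalar (Fin n) (-1 : F) - N = -(1 + N) by
        rw [map_neg, map_one]; abel, Matrix.det_neg, Fintype.card_fin] at h6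
      exact (mul_eq_left₀ (pow_ne_zero n (neg_ne_zero.2 one_ne_zero))).1 h6.symm
    have h6 := congrArg Matrix.det hAN
    rw [det_smul, h5, mul_one, ← det_val, hdA, Units.val_one, Fintype.card_fin] at h6
    exact h6.symm
  -- the conjugators
  let bR := Module.finBasis F R
  let Φ : Matrix (Fin n) (Fin r) F := Matrix.of fun i j => (bR j : Fin n → F) i
  have hΦz : ∀ z, Φ *ᵥ z = ∑ j, z j • (bR j : Fin n → F) := fun z => by
    funext i; simp [Φ, Matrix.mulVec, dotProduct, Finset.sum_apply, mul_comm]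
  have hΦinj : LinearMap.ker Φ.mulVecLin = ⊥ := by
    rw [Submodule.eq_bot_iff]
    intro z hz
    rw [LinearMap.mem_ker, Matrix.mulVecLin_apply, hΦz] at hz
    exact funext (Fintype.linearIndependent_iff.1 bR.linearIndependent z (Subtype.ext (by simpa using hz)))
  obtain ⟨g, hg⟩ := Φ.mulVecLin.exists_leftInverse_of_injective hΦinj
  set Ψ := LinearMap.toMatrix' g with hΨ
  have hΨΦ : Ψ * Φ = 1 := by
    have h1 := congrArg LinearMap.toMatrix' hg
    rwa [LinearMap.toMatrix'_comp, LinearMap.toMatrix'_id, ← Matrix.toLin'_apply', LinearMap.toMatrix'_toLin'] at h1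
  have hEN : Φ * Ψ * N = N := mext fun u => by
    obtain ⟨z, hz⟩ : ∃ z, N *ᵥ u = Φ *ᵥ z := by
      refine ⟨fun j => bR.repr ⟨N *ᵥ u, ⟨u, rfl⟩⟩ j, ?_⟩
      rw [hΦz]
      have h1 := congrArg Subtype.val (bR.sum_repr ⟨N *ᵥ u, ⟨u, rfl⟩⟩)
      rw [Submodule.coe_sum] at h1
      exact h1.symm
    rw [← mulVec_mulVec, hz, mulVec_mulVec, Matrix.mul_assoc, hΨΦ, Matrix.mul_one]
  have hNΦ : N * Φ = 0 := Matrix.ext_of_mulVec_single fun j => by
    obtain ⟨w, hw⟩ := (bR j).2
    have e : Φ *ᵥ Pi.single j 1 = N *ᵥ w := by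
      rw [Matrix.mulVecLin_apply] at hw
      rw [hw]; funext i; simp [Φ, mulVec_single_one]
    rw [← mulVec_mulVec, e, mulVec_mulVec, hNN, zero_mulVec, zero_mulVec]
  have conj : ∀ (K : Subgroup Fˣ) (s : F), s ≠ 0 → (∀ S : GL (Fin n) F, (GeneralLinearGroup.det S : F) = s ^ r →
      ∃ Z : GL (Fin n) F, Z * A = A * Z ∧ GeneralLinearGroup.det (S * Z) ∈ K) →
      ∃ B : GL (Fin n) F, Fac K A B ∧ B.1 = a • (1 + s • N) := by
    intro K s hs hK
    set S := 1 + Φ * ((s - 1) • Ψ) with hS
    have hSd : S.det = s ^ r := by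
      rw [hS, Matrix.det_one_add_mul_comm, Matrix.smul_mul, hΨΦ,
        show (1 : Matrix (Fin r) (Fin r) F) + (s - 1) • 1 = s • 1 by rw [sub_smul, one_smul, add_sub_cancel],
        det_smul, det_one, mul_one, Fintype.card_fin]
    obtain ⟨SG, hSG⟩ := exists_GL (S := S) (by rw [hSd]; exact pow_ne_zero _ hs)
    have hSN : S * N = (s • N) * S := by
      rw [hS, add_mul, one_mul, mul_add, mul_one, Matrix.mul_assoc Φ, Matrix.smul_mul (s - 1) Ψ N,
        Matrix.mul_smul Φ (s - 1) (Ψ * N), ← Matrix.mul_assoc, hEN, Matrix.smul_mul s N (Φ * ((s - 1) • Ψ)),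
        ← Matrix.mul_assoc N Φ, hNΦ, Matrix.zero_mul, smul_zero, add_zero, sub_smul, one_smul, add_sub_cancel]
    obtain ⟨Z, hZ, hd⟩ := hK SG (by rw [det_val, hSG, hSd])
    refine ⟨SG * Z * A * (SG * Z)⁻¹, ⟨_, hd, rfl⟩, ?_⟩
    rw [show SG * Z * A * (SG * Z)⁻¹ = SG * A * SG⁻¹ by rw [_root_.mul_inv_rev, mul_assoc SG Z A, hZ]; group,
      Units.val_mul, Units.val_mul, hAN, Matrix.mul_smul, Matrix.smul_mul, mul_add, add_mul, mul_one, Units.mul_inv,
      hSG, hSN, ← hSG, Matrix.mul_assoc, Units.mul_inv, Matrix.mul_one]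
  have prod : ∀ (K : Subgroup Fˣ) (s : Fin n → F), ∑ i, s i = 0 →
      (∀ i, ∃ B : GL (Fin n) F, Fac K A B ∧ B.1 = a • (1 + s i • N)) → One K A n 1 := by
    intro K s hs hB
    choose B hB hBv using hB
    have h1 := One.of_list (K := K) (List.ofFn B) (fun C hC => by
      rw [List.mem_ofFn] at hC; obtain ⟨i, rfl⟩ := hC; exact hB i)
    rw [List.length_ofFn] at h1
    rwa [show (List.ofFn B).prod = 1 from Units.ext (by
      rw [← Units.coeHom_apply, map_list_prod, List.map_ofFn, Units.val_one]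
      have key : ∀ k (f : Fin k → F), (List.ofFn fun i => a • (1 + f i • N)).prod = a ^ k • (1 + (∑ i, f i) • N) := by
        intro k
        induction k with
        | zero => intro f; simp
        | succ k ih =>
          intro f
          rw [List.ofFn_succ, List.prod_cons, ih, Matrix.smul_mul, Matrix.mul_smul, smul_smul, ← pow_succ',
            Fin.sum_univ_succ]
          congr 1
          simp only [add_mul, mul_add, one_mul, mul_one, Matrix.smul_mul, Matrix.mul_smul, hNN, smul_zero, add_zero,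
            add_smul]
          abel
      rw [show (⇑(Units.coeHom _) ∘ B) = fun i => a • (1 + s i • N) from funext hBv, key, hs, han, one_smul,
        zero_smul, add_zero])] at h1
  by_cases h2r : 2 * r = n
  · have gen : ∀ k, 2 * r = k → 3 ≤ k → ∃ u : Fin k → F, (∀ i, u i ≠ 0) ∧ ∑ i, u i * u i = 0 := by
      intro k e hk
      subst e
      exact exists_squares h4 hk
    obtain ⟨u, hu, hus⟩ := gen n h2r hn
    refine prod ⊥ (fun i => u i * u i) hus fun i => conj ⊥ _ (mul_ne_zero (hu i) (hu i)) fun S hS => ?_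
    obtain ⟨Z, hZ⟩ := exists_GL (S := (u i)⁻¹ • (1 : Matrix (Fin n) (Fin n) F)) (by
      rw [det_smul, det_one, mul_one]; exact pow_ne_zero _ (inv_ne_zero (hu i)))
    refine ⟨Z, Units.ext (by simp [Units.val_mul, hZ]), Subgroup.mem_bot.2 (Units.ext ?_)⟩
    rw [map_mul, Units.val_mul, hS, det_val, hZ, det_smul, det_one, mul_one, Fintype.card_fin, Units.val_one,
      ← sq, ← pow_mul, h2r, inv_pow, mul_inv_cancel₀ (pow_ne_zero _ (hu i))]
  · obtain ⟨s, hs0, hs⟩ := exists_sum_list h4 n 0 (by omega)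
    refine One.of_full ?_ (prod ⊤ s hs fun i => conj ⊤ _ (hs0 i) fun S _ => ⟨1, by group, Subgroup.mem_top _⟩)
    have hnle : ¬LinearMap.ker N.mulVecLin ≤ R := fun h => by
      have h1 := LinearMap.finrank_range_add_finrank_ker N.mulVecLin
      rw [Module.finrank_fin_fun, ← hR] at h1
      have h2 := Submodule.finrank_mono h
      simp only [hr] at h2r
      rw [← hR] at hrn
      omega
    obtain ⟨v, hv, hvR⟩ := SetLike.not_le_iff_exists.1 hnle
    rw [LinearMap.mem_ker, Matrix.mulVecLin_apply] at hv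
    refine full_of_eig A (a := a) (v := v) (by rw [hAN, smul_mulVec, add_mulVec, one_mulVec, hv, add_zero])
      (fun w hw => hvR ⟨a • w, ?_⟩) ⊥
    rw [hAN, smul_mulVec, add_mulVec, one_mulVec, smul_add, add_sub_cancel_left] at hw
    rw [Matrix.mulVecLin_apply, mulVec_smul, hw]

/-- A quadratic class with an eigenvalue. -/
theorem exact_quad_one [Fintype F] (h4 : 4 ≤ Fintype.card F) (hn : 3 ≤ n) (A : GL (Fin n) F)
    (hA : ∀ c : F, A.1 ≠ c • 1) (hdA : GeneralLinearGroup.det A = 1) {t d : F}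
    (hq : A.1 * A.1 = t • A.1 - d • 1) (hNE : ¬NoEig A.1) : One ⊥ A n 1 := by
  obtain ⟨a, v, hv0, hv⟩ := exists_eigvec hNE
  have hroot : a * a - t * a + d = 0 := by
    have h1 : (A.1 * A.1) *ᵥ v = (a * a) • v := by rw [← mulVec_mulVec, hv, mulVec_smul, hv, smul_smul]
    rw [hq, sub_mulVec, smul_mulVec, smul_mulVec, one_mulVec, hv, smul_smul, ← sub_eq_zero, ← sub_smul,
      ← sub_smul, smul_eq_zero] at h1
    linear_combination -(h1.resolve_right hv0)
  have hfac := quad_roots hq hroot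
  by_cases hab : t - a = a
  · rw [hab] at hfac
    exact exact_one_root h4 hn A hfac hdA
  · exact exact_two_roots (by omega) A (Ne.symm hab) hfac (hA _) hdA

end Cfsg.Agent.Lib.LevCover
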