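import Cfsg.Agent.Lib.LevCover.Top

/-!
The scalar target: the relation case and degree three.
-/

set_option autoImplicit false

namespace Cfsg.Agent.Lib.LevCover

open Matrix Polynomial
open Cfsg.Agent.Lib.Sourour (blk blk_mul blk_mulVec blk_one det_blk_upper R1 exists_dot)

variable {F : Type*} [Field F] {n m : ℕ}

/-- Peeling, the exact part alone. -/
theorem peel_one {A : GL (Fin (m + 1)) F} {Q : GL (Fin (m + 1)) F} {a : F} {x : Fin m → F} {A' : GL (Fin m) F}
    (hA : A.1 * Q.1 = Q.1 * blk a x 0 A'.1) (ha : a ≠ 0) {g B P : GL (Fin (m + 1)) F} (hB : Fac ⊥ A B)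
    {r : Fin m → F} {M : GL (Fin m) F} (hh : (P⁻¹ * (B⁻¹ * g) * P).1 = blk (a ^ m) r 0 M.1) (hM : NF A' m M) :
    One ⊥ A (m + 1) g := by
  classical
  obtain ⟨l, hl1, hl2, hl3, hl4⟩ := hM
  obtain ⟨r0, I, hI, hall⟩ := lift_list hA ha P l hl2
  have hItop : r - r0 ∈ I := by
    by_contra hno
    obtain ⟨z, hz, hz'⟩ := exists_dot hno
    have h0 : ∀ s ∈ I, s ⬝ᵥ z = 0 := fun s hs => by rw [dotProduct_comm]; exact hz s hs
    have hz0 : z ≠ 0 := fun e => hz' (by rw [e, zero_dotProduct])
    obtain ⟨C, hC, hC'⟩ := hl4 a z hz0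
    exact hC' (hI z h0 C hC)
  obtain ⟨L, hL1, hL2, hL3, -⟩ := hall _ hItop
  have hLp : L.prod = P⁻¹ * (B⁻¹ * g) * P := Units.ext (by rw [hL3, hh, hl1, hl3, add_sub_cancel])
  set f : GL (Fin (m + 1)) F → GL (Fin (m + 1)) F := fun C => P * C * P⁻¹ with hf
  have hmap : ∀ k : List (GL (Fin (m + 1)) F), (k.map f).prod = P * k.prod * P⁻¹ := by
    intro k
    induction k with
    | nil => simp
    | cons C k ih => rw [List.map_cons, List.prod_cons, ih, List.prod_cons, hf]; group
  have hprod : (B :: L.map f).prod = g := by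
    rw [List.prod_cons, hmap, hLp]; group
  have := One.of_list (K := (⊥ : Subgroup Fˣ)) (B :: L.map f) fun C hC => by
    rcases List.mem_cons.1 hC with rfl | hC
    · exact hB
    · obtain ⟨D, hD, rfl⟩ := List.mem_map.1 hC
      exact hL2 D hD
  rwa [hprod, show (B :: L.map f).length = m + 1 by simp [hL1, hl1]] at this

/-- The quotient keeps two dimensions when the vector avoids the small images. -/
theorem quot_good {A Q : GL (Fin (m + 1)) F} {a : F} {x : Fin m → F} {A' : Matrix (Fin m) (Fin m) F}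
    (hA : NonPseudo A.1) (hAQ : A.1 * Q.1 = Q.1 * blk a x 0 A')
    (h : ∀ c : F, Module.finrank F (LinearMap.range (A.1 - c • 1).mulVecLin) ≤ 2 →
      Q.1 *ᵥ Pi.single 0 1 ∉ LinearMap.range (A.1 - c • 1).mulVecLin) : NonPseudo A' := by
  intro c ⟨r, hr⟩
  have h1 := quot_range hAQ hr
  have h2 : Module.finrank F (Submodule.span F (Set.range ![Q.1 *ᵥ Pi.single 0 1, Q.1 *ᵥ Fin.cons 0 r])) ≤ 2 :=
    (finrank_range_le_card ![Q.1 *ᵥ Pi.single 0 1, Q.1 *ᵥ Fin.cons 0 r]).trans (by simp)
  have h3 := Submodule.finrank_mono h1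
  have h4 := not_R1.1 (hA c)
  refine h c (by omega) ?_
  rw [Submodule.eq_of_le_of_finrank_le h1 (by omega)]
  exact Submodule.subset_span ⟨0, rfl⟩

/-- Lines as eigenspaces: the image has codimension at most one. -/
theorem KerLine.rank_ge {A : Matrix (Fin n) (Fin n) F} (hK : KerLine A) (c : F) :
    n ≤ Module.finrank F (LinearMap.range (A - c • 1).mulVecLin) + 1 := by
  have h := LinearMap.finrank_range_add_finrank_ker (A - c • 1).mulVecLin
  rw [Module.finrank_fin_fun] at h
  have hk : Module.finrank F (LinearMap.ker (A - c • 1).mulVecLin) ≤ 1 := by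
    by_cases hb : LinearMap.ker (A - c • 1).mulVecLin = ⊥
    · rw [hb, finrank_bot]; omega
    obtain ⟨u, hu, hu0⟩ := (Submodule.ne_bot_iff _).1 hb
    rw [LinearMap.mem_ker, Matrix.mulVecLin_apply, sub_mulVec, smul_mulVec, one_mulVec, sub_eq_zero] at hu
    refine (Submodule.finrank_mono (t := Submodule.span F {u}) fun w hw => ?_).trans
      (Cfsg.Agent.Lib.Sourour.finrank_span_singleton_le u)
    rw [LinearMap.mem_ker, Matrix.mulVecLin_apply, sub_mulVec, smul_mulVec, one_mulVec, sub_eq_zero] at hw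
    obtain ⟨k, rfl⟩ := hK c u w hu0 hu hw
    exact Submodule.smul_mem _ _ (Submodule.mem_span_singleton_self u)
  omega

theorem KerLine.nonPseudo {A : Matrix (Fin n) (Fin n) F} (hK : KerLine A) (hn : 3 ≤ n) : NonPseudo A :=
  fun c => not_R1.2 (by have := hK.rank_ge c; omega)

/-- An eigenvalue pairing with a good quotient. -/
theorem rel_exact [Fintype F] (h4 : 4 ≤ Fintype.card F) {A Q : GL (Fin (m + 1)) F} {a : F} {x : Fin m → F}
    {A' : GL (Fin m) F} (hm : 3 ≤ m) (hA : NonPseudo A.1) (hdA : GeneralLinearGroup.det A = 1)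
    (hAQ : A.1 * Q.1 = Q.1 * blk a x 0 A'.1) (hA' : NonPseudo A'.1) {b : F} {w : Fin (m + 1) → F} (hw0 : w ≠ 0)
    (hw : A.1 *ᵥ w = b • w) (hab : b * a ^ m = 1) : One ⊥ A (m + 1) 1 := by
  have ha : a ≠ 0 := fun e => by
    rw [e, zero_pow (by omega), mul_zero] at hab
    exact zero_ne_one hab
  obtain ⟨P, y, M0, -, hP⟩ := exists_quot hw0 hw
  have hh : (P⁻¹ * (A⁻¹ * 1) * P).1 = blk (a ^ m) (-(a ^ m • (y ᵥ* (M0⁻¹).1))) 0 (M0⁻¹).1 := by
    have h1 : (P⁻¹ * A * P).1 = blk b y 0 M0.1 := by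
      rw [Units.val_mul, Units.val_mul, mul_assoc, hP, ← mul_assoc, Units.inv_mul, one_mul]
    have h2 : (P⁻¹ * A * P).1 * blk (a ^ m) (-(a ^ m • (y ᵥ* (M0⁻¹).1))) 0 (M0⁻¹).1 = 1 := by
      rw [h1, blk_mul]
      simp only [smul_zero, zero_add, mulVec_zero, dotProduct_zero, add_zero, zero_vecMulVec, Units.mul_inv, hab]
      rw [smul_neg, smul_smul, hab, one_smul, neg_add_cancel, ← blk_one]
    rw [show P⁻¹ * (A⁻¹ * 1) * P = (P⁻¹ * A * P)⁻¹ by group]
    exact (left_inv_eq_right_inv (Units.inv_mul _) h2)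
  have hM : ∀ c : F, (M0⁻¹).1 ≠ c • 1 := fun c e => by
    have h1 := M0.mul_inv
    rw [e, Matrix.mul_smul, Matrix.mul_one] at h1
    refine quot_not_scalar hP hA c⁻¹ ?_
    rcases eq_or_ne c 0 with rfl | hc
    · rw [zero_smul] at h1
      exact absurd (congrFun (congrFun h1 ⟨0, by omega⟩) ⟨0, by omega⟩) (by simp)
    · rw [← h1, smul_smul, inv_mul_cancel₀ hc, one_smul]
  have hd : GeneralLinearGroup.det M0⁻¹ = GeneralLinearGroup.det A' ^ m :=
    det_quot hAQ (Fac.self ⊥ A) hh (by rw [hdA, map_one, one_pow])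
  exact peel_one hAQ ha (Fac.self ⊥ A) hh (nf_any h4 m hm A' hA' M0⁻¹ hM hd)

theorem exact_three_cubic [Fintype F] (A : GL (Fin 3) F) (hNE : NoEig A.1)
    (hdA : GeneralLinearGroup.det A = 1) : One ⊥ A 3 1 := by
  classical
  set f := A.1.charpoly with hf
  have hfd : f.natDegree = 3 := by rw [hf, Matrix.charpoly_natDegree_eq_dim, Fintype.card_fin]
  have hfm : f.Monic := A.1.charpoly_monic
  have hfi : Irreducible f := by
    rw [Monic.irreducible_iff_roots_eq_zero_of_degree_le_three hfm (by omega) (by omega)]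
    refine Multiset.eq_zero_of_forall_notMem fun a ha => ?_
    obtain ⟨v, hv0, hv⟩ := exists_eig ((mem_roots hfm.ne_zero).1 ha)
    exact hv0 (hNE a v hv)
  haveI : Fact (Irreducible f) := ⟨hfi⟩
  set pb := AdjoinRoot.powerBasis hfi.ne_zero with hpb
  haveI : Module.Finite F (AdjoinRoot f) := pb.finite
  haveI : Finite (AdjoinRoot f) := Module.finite_of_finite F
  have hdim : pb.dim = 3 := by rw [hpb, AdjoinRoot.powerBasis_dim]; exact hfd
  have hrank : Module.finrank F (AdjoinRoot f) = 3 := by rw [pb.finrank, hdim]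
  have hnorm : Algebra.norm F (AdjoinRoot.root f) = 1 := by
    have h1 := Algebra.PowerBasis.norm_gen_eq_coeff_zero_minpoly pb
    rw [show minpoly F pb.gen = f from AdjoinRoot.minpoly_powerBasis_gen_of_monic hfm, hdim] at h1
    have h2 : A.1.det = 1 := by rw [← det_val, hdA, Units.val_one]
    rw [Matrix.det_eq_sign_charpoly_coeff, Fintype.card_fin] at h2
    rw [show AdjoinRoot.root f = pb.gen from rfl, h1]
    exact h2
  set q := Nat.card F with hq
  have hkey : ∀ k : ℕ, ∀ p : F[X], AdjoinRoot.root f ^ k = AdjoinRoot.mk f p → A.1 ^ k = aeval A.1 p := by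
    intro k p h
    rw [← AdjoinRoot.mk_X, ← map_pow, AdjoinRoot.mk_eq_mk] at h
    obtain ⟨c, hc⟩ := h
    have h1 := congrArg (aeval A.1) hc
    rw [map_sub, map_pow, aeval_X, map_mul, hf, Matrix.aeval_self_charpoly, zero_mul, sub_eq_zero] at h1
    exact h1
  have hprod : A.1 ^ (1 + q + q ^ 2) = 1 := by
    have h1 : AdjoinRoot.root f ^ (1 + q + q ^ 2) = AdjoinRoot.mk f 1 := by
      rw [map_one, ← map_one (algebraMap F (AdjoinRoot f)), ← hnorm, FiniteField.algebraMap_norm_eq_pow_sum, hrank]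
      simp [Finset.sum_range_succ, hq]
    simpa using hkey _ _ h1
  have hcube : A.1 ^ (q ^ 3) = A.1 := by
    have h1 : AdjoinRoot.root f ^ (q ^ 3) = AdjoinRoot.mk f Polynomial.X := by
      haveI := Fintype.ofFinite (AdjoinRoot f)
      rw [AdjoinRoot.mk_X, show q ^ 3 = Fintype.card (AdjoinRoot f) by
        rw [Fintype.card_eq_nat_card, Module.natCard_eq_pow_finrank (K := F), hrank]]
      exact FiniteField.pow_card _
    simpa using hkey _ _ h1
  set Aq := A ^ q with hAq
  have hAqv : Aq.1 = A.1 ^ q := Units.val_pow_eq_pow_val A q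
  have hNEq : NoEig Aq.1 := by
    intro b w hw
    refine hNE (b ^ (q ^ 2)) w ?_
    have hp : ∀ k : ℕ, Aq.1 ^ k *ᵥ w = b ^ k • w := by
      intro k
      induction k with
      | zero => simp
      | succ k ih => rw [pow_succ, ← mulVec_mulVec, hw, mulVec_smul, ih, smul_smul, pow_succ']
    have h1 := hp (q ^ 2)
    rwa [hAqv, ← pow_mul, show q * q ^ 2 = q ^ 3 by ring, hcube] at h1
  obtain ⟨v, hv⟩ := cyc_three (A := A) (hNE.nonPseudo (by norm_num))
  obtain ⟨v', hv'⟩ := cyc_three (A := Aq) (hNEq.nonPseudo (by norm_num))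
  obtain ⟨S, hS, -⟩ := exists_similar hv' hv (by
    rw [hAqv, hq, ← Fintype.card_eq_nat_card]; exact FiniteField.Matrix.charpoly_pow_card A.1)
  refine One.of_full (full_of_vec A hfi hfm (v := Pi.single 0 1) (by rw [hf, Matrix.aeval_self_charpoly, zero_mulVec])
    (fun u h => by rw [hf, Matrix.aeval_self_charpoly, zero_mulVec] at h; simpa using congrFun h 0) ⊥) ?_
  have h3 := One.of_list (K := (⊤ : Subgroup Fˣ)) [A, Aq, S * Aq * S⁻¹] (fun C hC => by
    simp only [List.mem_cons, List.not_mem_nil, or_false] at hC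
    rcases hC with rfl | rfl | rfl
    · exact Fac.self _ _
    · exact ⟨S, Subgroup.mem_top _, hS⟩
    · exact ⟨S * S, Subgroup.mem_top _, by rw [hS]; group⟩)
  have hq2 : S * Aq * S⁻¹ = Aq ^ q := by rw [hAq, ← conj_pow, ← hS]
  simp only [List.prod_cons, List.prod_nil, mul_one, List.length_cons, List.length_nil, zero_add, hq2] at h3
  rwa [show A * (Aq * Aq ^ q) = 1 from Units.ext (by
    rw [Units.val_one, ← hprod, hAq, ← pow_mul, ← pow_add, ← pow_succ', Units.val_pow_eq_pow_val]
    congr 1; ring)] at h3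

/-- Three conjugates of a triple root. -/
theorem exact_three_triple [Fintype F] (h4 : 4 ≤ Fintype.card F) (A : GL (Fin 3) F) {a : F}
    (hf : A.1.charpoly = (Polynomial.X - C a) ^ 3) (hc : ∃ v, Cyc A.1 v)
    (hdA : GeneralLinearGroup.det A = 1) : One ⊥ A 3 1 := by
  classical
  obtain ⟨v, hv⟩ := hc
  have ha3 : a ^ 3 = 1 := by
    have h1 : A.1.det = 1 := by rw [← det_val, hdA, Units.val_one]
    rw [Matrix.det_eq_sign_charpoly_coeff, Fintype.card_fin, coeff_zero_eq_eval_zero, hf] at h1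
    simp at h1
    linear_combination h1
  have ha : a ≠ 0 := fun e => by rw [e] at ha3; simp at ha3
  set N : Matrix (Fin 3) (Fin 3) F := a⁻¹ • A.1 - 1 with hN
  have hN3 : N * (N * N) = 0 := by
    have h1 := Matrix.aeval_self_charpoly A.1
    rw [hf, map_pow, map_sub, aeval_X, aeval_C, Algebra.algebraMap_eq_smul_one] at h1
    have e : A.1 - a • 1 = a • N := by rw [hN, smul_sub, smul_smul, mul_inv_cancel₀ ha, one_smul]
    rw [e, _root_.smul_pow, smul_eq_zero] at h1
    rcases h1 with h1 | h1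
    · rw [ha3] at h1; exact absurd h1 one_ne_zero
    · rw [← h1, pow_three]
  have hN3' : ∀ w, N *ᵥ (N *ᵥ (N *ᵥ w)) = 0 := fun w => by rw [mulVec_mulVec, mulVec_mulVec, mul_assoc, hN3, zero_mulVec]
  set W : Matrix (Fin 3) (Fin 3) F := Matrix.of fun i j => ![v, N *ᵥ v, N *ᵥ (N *ᵥ v)] j i with hW
  have hWs : ∀ j, W *ᵥ Pi.single j 1 = ![v, N *ᵥ v, N *ᵥ (N *ᵥ v)] j := fun j => by
    funext i; simp [hW, mulVec_single_one]
  have conj : ∀ x y : F, x ≠ 0 → ∃ B : GL (Fin 3) F, Fac ⊥ A B ∧ B.1 = a • (1 + x • N + y • (N * N)) := by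
    intro x y hx
    set N' := x • N + y • (N * N) with hN'
    have hN'3 : N' * N' * N' = 0 := by
      simp only [hN', mul_add, add_mul, Matrix.smul_mul, Matrix.mul_smul, mul_assoc, hN3, Matrix.mul_zero,
        smul_zero, add_zero, zero_add]
    set M := a • (1 + x • N + y • (N * N)) with hM
    set U : Matrix (Fin 3) (Fin 3) F := !![1, a, a * a; 0, a * x, a * a * (2 * x); 0, a * y, a * a * (2 * y + x * x)]
      with hU
    have hkry : kry M v = W * U := by
      refine Matrix.ext_of_mulVec_single fun j => ?_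
      rw [kry_single, ← mulVec_mulVec]
      have hUc : ∀ j, U *ᵥ Pi.single j 1 = U 0 j • Pi.single 0 1 + U 1 j • Pi.single 1 1 + U 2 j • Pi.single 2 1 :=
        fun j => by funext i; fin_cases i <;> simp [mulVec_single_one]
      rw [hUc, mulVec_add, mulVec_add, mulVec_smul, mulVec_smul, mulVec_smul, hWs, hWs, hWs]
      have hMu : ∀ u, M *ᵥ u = a • u + (a * x) • (N *ᵥ u) + (a * y) • (N *ᵥ (N *ᵥ u)) := fun u => by
        rw [hM, smul_mulVec, add_mulVec, add_mulVec, one_mulVec, smul_mulVec, smul_mulVec, ← mulVec_mulVec,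
          smul_add, smul_add, smul_smul, smul_smul]
      fin_cases j
      · simp [hU]
      · simp [hU, hMu]
      · simp only [Fin.reduceFinMk, Fin.val_two, pow_two, ← mulVec_mulVec, hMu, mulVec_add, mulVec_smul, hN3',
          smul_zero, add_zero, hU]
        simp
        module
    have hdU : U.det = a ^ 3 * x ^ 3 := by
      rw [hU, det_fin_three]; simp; ring
    have hkA : kry A.1 v = W * !![1, a, a * a; 0, a, a * a * 2; 0, 0, a * a] := by
      refine Matrix.ext_of_mulVec_single fun j => ?_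
      rw [kry_single, ← mulVec_mulVec]
      set U0 : Matrix (Fin 3) (Fin 3) F := !![1, a, a * a; 0, a, a * a * 2; 0, 0, a * a] with hU0
      have hUc : U0 *ᵥ Pi.single j 1 = U0 0 j • Pi.single 0 1 + U0 1 j • Pi.single 1 1 + U0 2 j • Pi.single 2 1 := by
        funext i; fin_cases i <;> simp [mulVec_single_one]
      rw [hUc, mulVec_add, mulVec_add, mulVec_smul, mulVec_smul, mulVec_smul, hWs, hWs, hWs]
      have hAu : ∀ u, A.1 *ᵥ u = a • u + a • (N *ᵥ u) := fun u => by
        rw [hN, sub_mulVec, smul_mulVec, one_mulVec, smul_sub, smul_smul, mul_inv_cancel₀ ha, one_smul]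
        abel
      fin_cases j
      · simp [hU0]
      · simp [hU0, hAu]
      · simp only [Fin.reduceFinMk, Fin.val_two, pow_two, ← mulVec_mulVec, hAu, mulVec_add, mulVec_smul, hN3',
          smul_zero, add_zero, hU0]
        simp
        module
    have hdA' : (kry A.1 v).det = W.det * a ^ 3 := by
      rw [hkA, det_mul]
      congr 1
      rw [det_fin_three]; simp; ring
    have hW0 : W.det ≠ 0 := fun e => hv (by rw [hdA', e, zero_mul])
    obtain ⟨B, hB⟩ := exists_GL (S := M) (fun e => by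
      obtain ⟨z, hz0, hz⟩ := Matrix.exists_mulVec_eq_zero_iff.2 e
      have h1 : z + N' *ᵥ z = 0 := by
        rw [hM, smul_mulVec, smul_eq_zero, or_iff_right ha, add_assoc, ← hN', add_mulVec, one_mulVec] at hz
        exact hz
      have h2 := congrArg ((1 - N' + N' * N') *ᵥ ·) h1
      rw [← one_mulVec z, mulVec_mulVec, mul_one, ← add_mulVec, mulVec_mulVec, mulVec_zero] at h2
      rw [show (1 - N' + N' * N') * (1 + N') = 1 + N' * N' * N' by noncomm_ring, hN'3, add_zero, one_mulVec] at h2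
      exact hz0 h2)
    have hBv : Cyc B.1 v := by
      rw [hB, Cyc, hkry, det_mul, hdU]
      exact mul_ne_zero hW0 (mul_ne_zero (pow_ne_zero _ ha) (pow_ne_zero _ hx))
    have hBp : B.1.charpoly = A.1.charpoly := by
      rw [hf]
      refine hBv.charpoly_eq ((monic_X_sub_C a).pow 3) (by rw [natDegree_pow, natDegree_X_sub_C]) ?_
      rw [map_pow, map_sub, aeval_X, aeval_C, Algebra.algebraMap_eq_smul_one, hB, hM, smul_add, smul_add,
        add_assoc, add_sub_cancel_left, ← smul_add, ← hN', _root_.smul_pow, pow_succ N', sq N', hN'3, smul_zero, zero_mulVec]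
    obtain ⟨S, hS, hSd⟩ := exists_similar hBv hv hBp
    rw [hB, hkry, det_mul, hdU, hdA'] at hSd
    obtain ⟨Z, hZ⟩ := exists_GL (S := x⁻¹ • (1 : Matrix (Fin 3) (Fin 3) F)) (by
      rw [det_smul, det_one, mul_one]; exact pow_ne_zero _ (inv_ne_zero hx))
    refine ⟨B, ⟨S * Z, Subgroup.mem_bot.2 (Units.ext ?_), ?_⟩, hB⟩
    · have hSd' : (GeneralLinearGroup.det S : F) = x ^ 3 :=
        mul_right_cancel₀ (mul_ne_zero hW0 (pow_ne_zero 3 ha)) (by rw [hSd]; ring)
      rw [map_mul, Units.val_mul, hSd', det_val, hZ, det_smul, det_one, mul_one, Fintype.card_fin, inv_pow,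
        mul_inv_cancel₀ (pow_ne_zero 3 hx), Units.val_one]
    · have hZc : Z * A = A * Z := Units.ext (by simp [Units.val_mul, hZ])
      rw [_root_.mul_inv_rev, mul_assoc S Z A, hZc, hS]; group
  obtain ⟨s, hs0, hs⟩ := exists_sum_list h4 3 0 (by norm_num)
  rw [Fin.sum_univ_three] at hs
  obtain ⟨B1, hB1, e1⟩ := conj (s 0) 0 (hs0 0)
  obtain ⟨B2, hB2, e2⟩ := conj (s 1) 0 (hs0 1)
  obtain ⟨B3, hB3, e3⟩ := conj (s 2) (-(s 0 * s 1 + s 0 * s 2 + s 1 * s 2)) (hs0 2)
  have h := One.of_list (K := (⊥ : Subgroup Fˣ)) [B1, B2, B3] (fun C hC => by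
    simp only [List.mem_cons, List.not_mem_nil, or_false] at hC
    rcases hC with rfl | rfl | rfl
    exacts [hB1, hB2, hB3])
  simp only [List.prod_cons, List.prod_nil, mul_one, List.length_cons, List.length_nil, zero_add] at h
  rwa [show B1 * (B2 * B3) = 1 from Units.ext (by
    rw [Units.val_mul, Units.val_mul, e1, e2, e3, Units.val_one]
    simp only [Matrix.smul_mul, Matrix.mul_smul, smul_smul]
    rw [
      show a * a * a = 1 by linear_combination ha3, one_smul]
    simp only [zero_smul, add_zero, mul_add, add_mul, mul_one, one_mul, Matrix.smul_mul, Matrix.mul_smul, smul_smul,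
      smul_add, mul_assoc, hN3, Matrix.mul_zero, smul_zero]
    rw [show s 2 = -(s 0 + s 1) by linear_combination hs]
    module)] at h

/-- Degree three, the scalar target. -/
theorem exact_three_one [Fintype F] (h4 : 4 ≤ Fintype.card F) (A : GL (Fin 3) F) (hA : NonPseudo A.1)
    (hdA : GeneralLinearGroup.det A = 1) : One ⊥ A 3 1 := by
  classical
  by_cases hNE : NoEig A.1
  · exact exact_three_cubic A hNE hdA
  have hcy := cyc_three hA
  -- an eigenvalue met once
  have tune : ∀ (a : F) (v : Fin 3 → F), v ≠ 0 → A.1 *ᵥ v = a • v →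
      (∀ q : F[X], A.1.charpoly = (Polynomial.X - C a) * q → q.eval a ≠ 0) → One ⊥ A 3 1 := by
    intro a v hv0 hv hsimple
    obtain ⟨Q, x, A', -, hAQ⟩ := exists_quot hv0 hv
    have hfA := charpoly_of_quot hAQ
    have hq := hsimple _ hfA
    obtain ⟨w, hw⟩ := hcy
    have hfull : Full (⊥ : Subgroup Fˣ) A := by
      refine full_of_factor A (irreducible_X_sub_C a) (monic_X_sub_C a) (r := A'.1.charpoly) ?_
        (by rw [← hfA, Matrix.aeval_self_charpoly]) (fun e => ?_) ⊥
      · exact ((irreducible_X_sub_C a).coprime_iff_not_dvd).2 fun h => hq (dvd_iff_isRoot.1 h)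
      · have h1 := hw.eq_zero (p := A'.1.charpoly)
          (by rw [Matrix.charpoly_natDegree_eq_dim, Fintype.card_fin]; norm_num) (by rw [e, zero_mulVec])
        exact A'.1.charpoly_monic.ne_zero h1
    refine One.of_full hfull ?_
    have hAi : ∀ c : F, (A⁻¹).1 ≠ c • 1 := by
      intro c e
      have h1 := A.mul_inv
      rw [e, Matrix.mul_smul, Matrix.mul_one] at h1
      rcases eq_or_ne c 0 with rfl | hc
      · rw [zero_smul] at h1
        exact absurd (congrFun (congrFun h1 0) 0) (by simp)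
      · exact hA.not_scalar c⁻¹ (by rw [← h1, smul_smul, inv_mul_cancel₀ hc, one_smul])
    have ha := eig_ne_zero A hv0 hv
    obtain ⟨B, P, r, M, hB, hH, hMt, hM10, -⟩ := three_tune ⟨w, hw⟩ hAi ha A'.1.trace
    have hdB : GeneralLinearGroup.det B = 1 := by
      obtain ⟨S, -, rfl⟩ := hB
      simp [map_mul, map_inv, hdA]
    set h := P⁻¹ * (B⁻¹ * A⁻¹) * P with hh
    have hdh : h.1.det = 1 := by rw [← det_val, hh]; simp [map_mul, map_inv, hdA, hdB]
    have hMd : M.1.det = A'.1.det := by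
      have h1 : a * M.1.det = a * A'.1.det := by
        rw [← det_blk_upper a r, ← hH, hdh]
        have h2 := congrArg Matrix.det hAQ
        rw [det_mul, det_mul, det_blk_upper, ← det_val A, hdA, Units.val_one, one_mul] at h2
        exact mul_left_cancel₀ (GeneralLinearGroup.det_ne_zero Q) ((mul_one _).trans h2)
      exact mul_left_cancel₀ ha h1
    have hMp : M.1.charpoly = A'.1.charpoly := by
      rw [Matrix.charpoly_fin_two, Matrix.charpoly_fin_two, hMt, hMd]
    obtain ⟨u, hu⟩ := cyc_blk (Λ := a) (r := r) (M := M.1) (w := Pi.single 0 1) (cyc_two (by simp) fun c e => by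
      have h1 := congrFun e 1
      simp [mulVec_single_one] at h1
      exact hM10 h1) (by rw [hMp]; exact hq)
    rw [← hH] at hu
    obtain ⟨S, hS, -⟩ := exists_similar hu hw (by rw [hH, charpoly_blk, hMp, hfA])
    have h3 := One.of_list (K := (⊤ : Subgroup Fˣ)) [B, (P * S) * A * (P * S)⁻¹, A] (fun C hC => by
      simp only [List.mem_cons, List.not_mem_nil, or_false] at hC
      rcases hC with rfl | rfl | rfl
      · obtain ⟨T, -, hT⟩ := hB
        exact ⟨T, Subgroup.mem_top _, hT⟩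
      · exact ⟨_, Subgroup.mem_top _, rfl⟩
      · exact Fac.self _ _)
    simp only [List.prod_cons, List.prod_nil, mul_one, List.length_cons, List.length_nil, zero_add] at h3
    rwa [show B * (P * S * A * (P * S)⁻¹ * A) = 1 by
      rw [show P * S * A * (P * S)⁻¹ = P * (S * A * S⁻¹) * P⁻¹ by group, ← hS, hh]; group] at h3
  obtain ⟨a, v, hv0, hv⟩ := exists_eigvec hNE
  obtain ⟨Q, x, A', -, hAQ⟩ := exists_quot hv0 hv
  have hfA := charpoly_of_quot hAQ
  set q2 := A'.1.charpoly with hq2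
  have hcancel : ∀ (c : F) (q : F[X]) (p : F[X]), A.1.charpoly = (Polynomial.X - C c) * q →
      A.1.charpoly = (Polynomial.X - C c) * p → q = p :=
    fun c q p h1 h2 => mul_left_cancel₀ (X_sub_C_ne_zero c) (h1.symm.trans h2)
  by_cases hqa : q2.eval a = 0
  swap
  · exact tune a v hv0 hv fun q hq => by rw [hcancel a q q2 hq hfA]; exact hqa
  obtain ⟨r, hr⟩ := dvd_iff_isRoot.2 hqa
  have hrm : r.Monic := (monic_X_sub_C a).of_mul_monic_left (hr ▸ A'.1.charpoly_monic)
  have hrd : r.natDegree = 1 := by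
    have h1 := congrArg natDegree hr
    rw [hq2, Matrix.charpoly_natDegree_eq_dim, Fintype.card_fin,
      natDegree_mul (X_sub_C_ne_zero a) hrm.ne_zero, natDegree_X_sub_C] at h1
    omega
  obtain ⟨b, rfl⟩ : ∃ b, r = Polynomial.X - C b :=
    ⟨-r.coeff 0, by rw [map_neg, sub_neg_eq_add]; exact hrm.eq_X_add_C hrd⟩
  by_cases hab : b = a
  · subst hab
    exact exact_three_triple h4 A (by rw [hfA, hr]; ring) hcy hdA
  · obtain ⟨u, hu0, hu⟩ := exists_eig (A := A.1) (a := b) (by rw [hfA, hr]; simp)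
    refine tune b u hu0 hu fun q hq => ?_
    rw [hcancel b q ((Polynomial.X - C a) * (Polynomial.X - C a)) hq (by rw [hfA, hr]; ring)]
    simp [sub_ne_zero.2 hab]

end Cfsg.Agent.Lib.LevCover
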