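import Cfsg.Agent.Lib.LevCover.Full
import Cfsg.Agent.Lib.Sourour.Transvection
import Cfsg.Agent.Lib.Sourour.LU
import Cfsg.Agent.Lib.TransposeConj

/-!
Products of conjugates of a matrix whose eigenspaces are lines, in degree at least five.
-/

set_option autoImplicit false

namespace Cfsg.Agent.Lib.LevCover

open Matrix Polynomial

variable {F : Type*} [Field F] {n : ℕ}

theorem cls_cyc {K : Subgroup Fˣ} {A : GL (Fin n) F} {i : ℕ} {G : GL (Fin n) F} (hG : One K A i G)
    (hF : Full K G) : Cls K A i G := hG.cls hF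

/-- A simple eigenvalue makes the centralizer large. -/
theorem full_of_simple [Finite F] (G : GL (Fin n) F) {w : Fin n → F} (hw : Cyc G.1 w) {s : F} {q : F[X]}
    (hf : G.1.charpoly = (Polynomial.X - C s) * q) (hq : q.eval s ≠ 0) (K : Subgroup Fˣ) : Full K G := by
  have hq0 : q ≠ 0 := fun h => hq (by rw [h, eval_zero])
  have hd : q.natDegree < n := by
    have h := congrArg natDegree hf
    rw [Matrix.charpoly_natDegree_eq_dim, Fintype.card_fin, natDegree_mul (X_sub_C_ne_zero s) hq0,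
      natDegree_X_sub_C] at h
    omega
  refine full_of_vec G (p := Polynomial.X - C s) (irreducible_X_sub_C s) (monic_X_sub_C s)
    (v := aeval G.1 q *ᵥ w) ?_ (fun u hu => ?_) K
  · rw [mulVec_mulVec, ← map_mul, ← hf, Matrix.aeval_self_charpoly, zero_mulVec]
  · obtain ⟨K', hK'⟩ := exists_GL (S := kry G.1 w) hw
    set z := (K'⁻¹).1 *ᵥ u with hz
    set r : F[X] := ∑ j : Fin n, monomial j.val (z j) with hr
    have hru : aeval G.1 r *ᵥ w = u := by
      rw [← kry_mulVec G.1 w r ?_]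
      · have : (fun k : Fin n => r.coeff k.val) = z := funext fun k => by
          simp [hr, finsetSum_coeff, coeff_monomial, Fin.val_inj]
        rw [this, hz, mulVec_mulVec, ← hK', Units.mul_inv, one_mulVec]
      · rcases Nat.eq_zero_or_pos n with h | h
        · omega
        · exact lt_of_le_of_lt (natDegree_sum_le_of_forall_le _ _ fun j _ =>
            (natDegree_monomial_le _).trans (by have := j.isLt; omega : j.val ≤ n - 1)) (by omega)
    have h0 : aeval G.1 (((Polynomial.X - C s) * r - q) %ₘ G.1.charpoly) *ᵥ w = 0 := by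
      have h2 : ∀ p : F[X], aeval G.1 (p %ₘ G.1.charpoly) = aeval G.1 p := fun p => by
        conv_rhs => rw [← modByMonic_add_div p G.1.charpoly, map_add, map_mul, Matrix.aeval_self_charpoly,
          zero_mul, add_zero]
      rw [h2, map_sub, sub_mulVec, map_mul, ← mulVec_mulVec, hru, hu, sub_self]
    have h1 := hw.eq_zero (by
      have hc : G.1.charpoly.natDegree = n := by rw [Matrix.charpoly_natDegree_eq_dim, Fintype.card_fin]
      rcases eq_or_ne (((Polynomial.X - C s) * r - q) %ₘ G.1.charpoly) 0 with h | h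
      · rw [h, natDegree_zero]; omega
      · exact lt_of_lt_of_eq (natDegree_lt_natDegree h (degree_modByMonic_lt _ G.1.charpoly_monic)) hc) h0
    obtain ⟨c, hc⟩ := (modByMonic_eq_zero_iff_dvd G.1.charpoly_monic).1 h1
    have := congrArg (eval s) hc
    rw [hf] at this
    simp at this
    exact hq this

/-- Lower triangular factors are cyclic. -/
theorem lower_cyc {L : GL (Fin n) F} {β : Fin n → F} (hL : Cfsg.Agent.Lib.Sourour.IsLo β L.1) (hβ : Contig β) :
    (∃ w, Cyc L.1 w) ∧ L.1.charpoly = ∏ i, (Polynomial.X - C (β i)) := by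
  have hz : ∀ i j : Fin n, j < i → L.1ᵀ i j = 0 := fun i j h => hL.zero j i h
  refine ⟨?_, by rw [← Matrix.charpoly_transpose, charpoly_upper hz hL.diag]⟩
  obtain ⟨w, hw⟩ := cyc_upper hz hL.diag hβ fun i j h _ => hL.next j i h
  obtain ⟨c, hc⟩ := Cfsg.Agent.Lib.TransposeConj.isConj_transpose L.1
  obtain ⟨S, hS⟩ : ∃ S : GL (Fin n) F, S.1 = (c : Matrix (Fin n) (Fin n) F) := ⟨c, rfl⟩
  obtain ⟨LT, hLT⟩ := exists_GL (S := L.1ᵀ) (by rw [det_transpose]; exact GeneralLinearGroup.det_ne_zero L)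
  have h1 : LT = S * L * S⁻¹ := by
    refine eq_conj_of_mul ?_
    rw [hLT, hS]
    exact hc.symm
  have h2 : L = S⁻¹ * LT * S⁻¹⁻¹ := by rw [h1]; group
  refine ⟨_, h2 ▸ cyc_conj S⁻¹ LT (w := w) ?_⟩
  rw [hLT]; exact hw

theorem upper_cyc {U : GL (Fin n) F} {β : Fin n → F} (hU : Cfsg.Agent.Lib.Sourour.IsUp β U.1) (hβ : Contig β) :
    (∃ w, Cyc U.1 w) ∧ U.1.charpoly = ∏ i, (Polynomial.X - C (β i)) :=
  ⟨cyc_upper hU.zero hU.diag hβ fun i j h _ => hU.next i j h, charpoly_upper hU.zero hU.diag⟩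

theorem isUp_smul {γ : Fin n → F} {U : Matrix (Fin n) (Fin n) F} (hU : Cfsg.Agent.Lib.Sourour.IsUp γ U) {κ : F}
    (hκ : κ ≠ 0) : Cfsg.Agent.Lib.Sourour.IsUp (fun i => κ * γ i) (κ • U) :=
  ⟨fun i j h => by rw [Matrix.smul_apply, hU.zero i j h, smul_zero],
   fun i => by rw [Matrix.smul_apply, hU.diag, smul_eq_mul],
   fun i j h => by rw [Matrix.smul_apply, smul_eq_mul]; exact mul_ne_zero hκ (hU.next i j h)⟩

/-- Every target is a product of two split cyclic matrices with prescribed spectra. -/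
theorem split_any [Fintype F] (h4 : 4 ≤ Fintype.card F) (hn : 3 ≤ n) (g : GL (Fin n) F) {κ : F} (hκ : κ ≠ 0)
    (hdet : (GeneralLinearGroup.det g : F) = κ ^ n) (hg : (∀ c : F, g.1 ≠ c • 1) ∨ g.1 = κ • 1)
    {β : Fin n → F} (hβ : Contig β) (hβ0 : ∀ i, β i ≠ 0) :
    ∃ L U : GL (Fin n) F, g = L * U ∧ (∃ w, Cyc L.1 w) ∧ L.1.charpoly = ∏ i, (Polynomial.X - C (β i)) ∧
      (∃ w, Cyc U.1 w) ∧ U.1.charpoly = ∏ i, (Polynomial.X - C (κ * (β i)⁻¹)) := by
  classical
  obtain ⟨m, rfl⟩ : ∃ m, n = m + 3 := ⟨n - 3, by omega⟩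
  set h := κ⁻¹ • g.1 with hh
  have hgh : g.1 = κ • h := by rw [hh, smul_smul, mul_inv_cancel₀ hκ, one_smul]
  have hdh : h.det = 1 := by
    rw [hh, det_smul, Fintype.card_fin, ← det_val, hdet, inv_pow, inv_mul_cancel₀ (pow_ne_zero _ hκ)]
  have hγ : Contig fun i => κ * (β i)⁻¹ := fun i j k h1 h2 e =>
    congrArg (κ * ·) (hβ.inv i j k h1 h2 (mul_left_cancel₀ hκ e))
  obtain ⟨P, P', L, U, hPP, hLU, hLc, hUc⟩ : ∃ (P P' L U : Matrix (Fin (m + 3)) (Fin (m + 3)) F),
      P' * P = 1 ∧ P' * h * P = L * U ∧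
      (∀ L' : GL (Fin (m + 3)) F, L'.1 = L →
        (∃ w, Cyc L'.1 w) ∧ L'.1.charpoly = ∏ i, (Polynomial.X - C (β i))) ∧
      (∀ U' : GL (Fin (m + 3)) F, U'.1 = κ • U →
        (∃ w, Cyc U'.1 w) ∧ U'.1.charpoly = ∏ i, (Polynomial.X - C (κ * (β i)⁻¹))) := by
    by_cases hgood : Cfsg.Agent.Lib.Sourour.Good h
    · have h0 : (Pi.single 0 1 : Fin (m + 3) → F) ≠ 0 := by simp
      obtain ⟨P, P', L, U, hPP, hLU, hL, hU, -, -⟩ := Cfsg.Agent.Lib.Sourour.lu
        (Cfsg.Agent.Lib.Sourour.four_of_fintype h4) (m + 2) h hdh (fun _ => hgood) _ _ h0 h0 β hβ0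
      exact ⟨P, P', L, U, hPP, hLU, fun L' e => lower_cyc (e ▸ hL) hβ,
        fun U' e => upper_cyc (β := fun i => κ * (β i)⁻¹) (e ▸ isUp_smul hU hκ) hγ⟩
    -- the bidiagonal route
    obtain ⟨P, P', ε, hPP, hform⟩ : ∃ (P P' : Matrix (Fin (m + 3)) (Fin (m + 3)) F) (ε : F), P' * P = 1 ∧
        P' * h * P = 1 + Matrix.single 0 (Fin.last (m + 2)) ε := by
      by_cases h1 : h = 1
      · exact ⟨1, 1, 0, one_mul _, by simp [h1]⟩
      · have hns : ∀ c : F, h ≠ c • 1 := by
          intro c e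
          rcases hg with hg | hg
          · exact hg (κ * c) (by rw [hgh, e, smul_smul])
          · refine h1 ?_
            rw [hh, hg, smul_smul, inv_mul_cancel₀ hκ, one_smul]
        have hR : Cfsg.Agent.Lib.Sourour.R1 (h - 1) := by_contra fun hR => hgood ⟨hns, hR⟩
        obtain ⟨P, P', hPP, e⟩ := Cfsg.Agent.Lib.Sourour.transvection_form hdh h1 hR
        exact ⟨P, P', 1, hPP, e⟩
    have hBz := bd_lower β (fun _ => (1 : F)) (n := m + 3)
    have hBd : ∀ i, bd β (fun _ => (1 : F)) i i = β i := fun i => by simp [bd]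
    have hBn : ∀ i j : Fin (m + 3), i.val + 1 = j.val → bd β (fun _ => (1 : F)) i j = 1 := fun i j e => by
      simp [bd, e, show i ≠ j from fun e' => by rw [e'] at e; omega]
    obtain ⟨Y, hY, -, hYz, hYd, hYn⟩ := Cfsg.Agent.Lib.Sourour.up_inv hβ0 hBz hBd
    set E : Matrix (Fin (m + 3)) (Fin (m + 3)) F := 1 + Matrix.single 0 (Fin.last (m + 2)) ε with hE
    have hU : Cfsg.Agent.Lib.Sourour.IsUp (fun i => (β i)⁻¹) (Y * E) := by
      have hval : ∀ i j : Fin (m + 3), (Y * E) i j = Y i j + if j = Fin.last (m + 2) then Y i 0 * ε else 0 := by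
        intro i j
        rw [hE, mul_add, mul_one, Matrix.add_apply]
        congr 1
        by_cases hj : j = Fin.last (m + 2)
        · subst hj; rw [if_pos rfl, Matrix.mul_single_apply_same]
        · rw [if_neg hj, Matrix.mul_single_apply_of_ne (hbj := hj)]
      have hY0 : ∀ i : Fin (m + 3), i ≠ 0 → Y i 0 = 0 := fun i hi => hYz i 0 (Fin.pos_iff_ne_zero.2 hi)
      refine ⟨fun i j hij => ?_, fun i => ?_, fun i j hij => ?_⟩
      · rw [hval, hYz i j hij, zero_add]
        split_ifs with hj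
        · subst hj; exact absurd hij (not_lt.2 (Fin.le_last i))
        · rfl
      · rw [hval, hYd]
        split_ifs with hj
        · subst hj; rw [hY0 _ (Fin.ext_iff.not.2 (by simp)), zero_mul, add_zero]
        · rw [add_zero]
      · have hji : Y i j ≠ 0 := by
          rw [hYn i j hij, hBn i j hij, mul_one, neg_ne_zero]
          exact mul_ne_zero (inv_ne_zero (hβ0 _)) (inv_ne_zero (hβ0 _))
        rw [hval]
        split_ifs with hj
        · subst hj
          have hi : i ≠ 0 := fun e => by rw [e] at hij; simp at hij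
          rw [hY0 i hi, zero_mul, add_zero]; exact hji
        · rw [add_zero]; exact hji
    refine ⟨P, P', bd β (fun _ => (1 : F)), Y * E, hPP, ?_, fun L' e => ?_, fun U' e => ?_⟩
    · rw [hform, ← mul_assoc, hY, one_mul]
    · rw [e]
      exact ⟨cyc_upper hBz hBd hβ fun i j e _ => by rw [hBn i j e]; exact one_ne_zero,
        charpoly_upper hBz hBd⟩
    · exact upper_cyc (β := fun i => κ * (β i)⁻¹) (e ▸ isUp_smul hU hκ) hγ
  have hdd : L.det * U.det = 1 := by
    rw [← det_mul, ← hLU, det_mul, det_mul, hdh, mul_one, ← det_mul, hPP, det_one]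
  obtain ⟨LG, hLG⟩ := exists_GL (S := L) (left_ne_zero_of_mul_eq_one hdd)
  obtain ⟨UG, hUG⟩ := exists_GL (S := κ • U) (by
    rw [det_smul]; exact mul_ne_zero (pow_ne_zero _ hκ) (right_ne_zero_of_mul_eq_one hdd))
  have hPP' : P * P' = 1 := mul_eq_one_comm.1 hPP
  obtain ⟨PG, hPG⟩ := exists_GL (S := P) (fun e => by
    have := congrArg Matrix.det hPP
    rw [det_mul, e, mul_zero, det_one] at this
    exact zero_ne_one this)
  have hg' : g = PG * (LG * UG) * PG⁻¹ := by
    refine eq_conj_of_mul ?_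
    rw [Units.val_mul, hPG, hLG, hUG, Matrix.mul_smul, ← hLU, Matrix.mul_smul, ← mul_assoc,
      ← mul_assoc P P', hPP', one_mul, hgh, smul_mul_assoc]
  obtain ⟨⟨wL, hwL⟩, hLp⟩ := hLc LG hLG
  obtain ⟨⟨wU, hwU⟩, hUp⟩ := hUc UG hUG
  refine ⟨PG * LG * PG⁻¹, PG * UG * PG⁻¹, by rw [hg']; group, ⟨_, cyc_conj PG LG hwL⟩, ?_,
    ⟨_, cyc_conj PG UG hwU⟩, ?_⟩
  · rw [Units.val_mul, Units.val_mul, Matrix.charpoly_mul_comm, ← mul_assoc, Units.inv_mul, one_mul, hLp]
  · rw [Units.val_mul, Units.val_mul, Matrix.charpoly_mul_comm, ← mul_assoc, Units.inv_mul, one_mul, hUp]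

theorem det_of_charpoly {G : GL (Fin n) F} {l : Fin n → F}
    (h : G.1.charpoly = ∏ i, (Polynomial.X - C (l i))) : (GeneralLinearGroup.det G : F) = ∏ i, l i := by
  have h1 : (Matrix.diagonal l).charpoly = ∏ i, (Polynomial.X - C (l i)) :=
    charpoly_upper (fun a b h => Matrix.diagonal_apply_ne _ (ne_of_lt h).symm) fun a => Matrix.diagonal_apply_eq _ _
  rw [det_val, Matrix.det_eq_sign_charpoly_coeff, h, ← h1, ← Matrix.det_eq_sign_charpoly_coeff, det_diagonal]

/-- A split list with a simple first value. -/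
theorem exists_simple [Fintype F] (h4 : 4 ≤ Fintype.card F) (hn : 3 ≤ n) {D : F} (hD : D ≠ 0) :
    ∃ l : Fin n → F, Contig l ∧ (∀ i, l i ≠ 0) ∧ ∏ i, l i = D ∧ ∀ i, i.val ≠ 0 → l i ≠ l ⟨0, by omega⟩ := by
  classical
  obtain ⟨s, hs0, hs1, hs2⟩ : ∃ s : F, s ≠ 0 ∧ s ≠ 1 ∧ s * s ≠ D := by
    by_cases hsq : ∃ r, r * r = D
    · obtain ⟨r, hr⟩ := hsq
      obtain ⟨t, h0, h1, h2, h3⟩ := avoid_pm h4 1 r
      refine ⟨t, h0, h1, fun e => ?_⟩
      rw [← hr] at e
      rcases mul_self_eq_mul_self_iff.1 e with h | h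
      exacts [h2 h, h3 h]
    · obtain ⟨t, h0, h1, -, -⟩ := avoid_pm h4 1 0
      exact ⟨t, h0, h1, fun e => hsq ⟨t, e⟩⟩
  refine ⟨fun i => if i.val = 0 then s else if i.val = 1 then D / s else 1, ?_, ?_, ?_, fun i hi => ?_⟩
  · have hne : s ≠ D / s := fun e => hs2 (by rw [eq_div_iff hs0] at e; exact e)
    intro i j k hij hjk e
    have h1 := Fin.le_def.1 hij
    have h2 := Fin.le_def.1 hjk
    dsimp only at e ⊢
    by_cases hik : i = k
    · rw [show j = i from le_antisymm (hik ▸ hjk) hij]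
    · have : i.val ≠ k.val := fun e' => hik (Fin.ext e')
      by_cases hi : i.val = 0
      · rw [if_pos hi, if_neg (by omega)] at e
        by_cases hk : k.val = 1
        · rw [if_pos hk] at e; exact absurd e hne
        · rw [if_neg hk] at e; exact absurd e hs1
      · rw [if_neg hi, if_neg (show ¬(k.val = 0) by omega), if_neg (show ¬(k.val = 1) by omega)] at e
        by_cases hi1 : i.val = 1
        · rw [if_pos hi1] at e
          rw [if_neg (show ¬(j.val = 0) by omega), if_neg hi, if_pos hi1]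
          split_ifs with hj
          · rfl
          · exact e.symm
        · rw [if_neg (show ¬(j.val = 0) by omega), if_neg hi, if_neg hi1, if_neg (show ¬(j.val = 1) by omega)]
  · intro i; dsimp only; split_ifs
    exacts [hs0, div_ne_zero hD hs0, one_ne_zero]
  · obtain ⟨m, rfl⟩ : ∃ m, n = m + 2 := ⟨n - 2, by omega⟩
    rw [Fin.prod_univ_succ, Fin.prod_univ_succ]
    simp only [Fin.val_zero, if_true, Fin.val_succ, Nat.succ_ne_zero, if_false, zero_add, Nat.add_eq_right]
    rw [Finset.prod_eq_one (fun x _ => by simp), mul_one]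
    field_simp
  · dsimp only
    rw [if_pos rfl, if_neg hi]
    split_ifs
    · exact fun e => hs2 (by rw [div_eq_iff hs0] at e; exact e.symm)
    · exact Ne.symm hs1

theorem eval_rest {l : Fin n → F} (i0 : Fin n) (h : ∀ i, i ≠ i0 → l i ≠ l i0) :
    (∏ i ∈ Finset.univ.erase i0, (Polynomial.X - C (l i))).eval (l i0) ≠ 0 := by
  rw [eval_prod]
  refine Finset.prod_ne_zero_iff.2 fun i hi => ?_
  rw [eval_sub, eval_X, eval_C]
  exact sub_ne_zero.2 (h i (Finset.mem_erase.1 hi).1).symm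

theorem full_list [Finite F] (G : GL (Fin n) F) (hG : ∃ w, Cyc G.1 w) {l : Fin n → F}
    (hp : G.1.charpoly = ∏ i, (Polynomial.X - C (l i))) (i0 : Fin n) (h : ∀ i, i ≠ i0 → l i ≠ l i0)
    (K : Subgroup Fˣ) : Full K G := by
  obtain ⟨w, hw⟩ := hG
  exact full_of_simple G hw (by rw [hp, ← Finset.mul_prod_erase _ _ (Finset.mem_univ i0)]) (eval_rest i0 h) K

theorem exists_witness [Fintype F] (h4 : 4 ≤ Fintype.card F) (hn : 3 ≤ n) (D : Fˣ) :
    ∃ G : GL (Fin n) F, GeneralLinearGroup.det G = D ∧ (∃ w, Cyc G.1 w) ∧ ∀ K : Subgroup Fˣ, Full K G := by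
  obtain ⟨l, hl, hl0, hlp, hls⟩ := exists_simple h4 hn D.ne_zero
  obtain ⟨G, hG⟩ := exists_GL (S := bd l fun _ => (1 : F)) (by
    rw [Matrix.det_of_isUpperTriangular (fun a b h => bd_lower _ _ a b h)]
    exact Finset.prod_ne_zero_iff.2 fun i _ => by simpa [bd] using hl0 i)
  have hz : ∀ i j : Fin n, j < i → G.1 i j = 0 := fun i j h => by rw [hG]; exact bd_lower _ _ i j h
  have hd : ∀ i, G.1 i i = l i := fun i => by rw [hG]; simp [bd]
  have hc := cyc_upper hz hd hl fun i j h _ => by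
    rw [hG]; simp [bd, h, show i ≠ j from fun e => by rw [e] at h; omega]
  exact ⟨G, Units.ext (by rw [det_of_charpoly (charpoly_upper hz hd), hlp]), hc,
    full_list G hc (charpoly_upper hz hd) ⟨0, by omega⟩ fun i hi => hls i fun e => hi (Fin.ext e)⟩

/-- All cyclic classes with a large centralizer, from four factors on. -/
theorem all_cyc [Fintype F] (h4 : 4 ≤ Fintype.card F) (hn : 4 ≤ n) {K : Subgroup Fˣ} {A : GL (Fin n) F}
    (hA : KerLine A.1) {X : GL (Fin n) F} {l : Fin n → F} (hX : One K A 2 X) (hXc : ∃ w, Cyc X.1 w)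
    (hl : Contig l) (hXp : X.1.charpoly = ∏ i, (Polynomial.X - C (l i))) :
    ∀ j : ℕ, 4 ≤ j → ∀ G : GL (Fin n) F, (∃ w, Cyc G.1 w) →
      GeneralLinearGroup.det G = GeneralLinearGroup.det A ^ j → Full K G → Cls K A j G := by
  have step : ∀ (i : ℕ) (Y : GL (Fin n) F), One K A i Y → (∃ w, Cyc Y.1 w) → ∀ G : GL (Fin n) F,
      (∃ w, Cyc G.1 w) → GeneralLinearGroup.det G = GeneralLinearGroup.det A ^ (i + 2) → Full K G →
      Cls K A (i + 2) G := by
    intro i Y hY hYc G hG hd hF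
    exact gn h4 (by omega) (Or.inr hn) hY hYc hX hXc hl hXp (by rw [hd, hY.det, hX.det, pow_add]) hG hF
  intro j
  induction j using Nat.strong_induction_on with
  | _ j ih =>
    intro hj G hG hd hF
    rcases Nat.lt_or_ge j 6 with h6 | h6
    · interval_cases j
      · exact step 2 X hX hXc G hG hd hF
      · obtain ⟨Y, hY, hYc⟩ := link h4 (by omega) hA hX hXc hl hXp
        exact step 3 Y hY hYc G hG hd hF
    · obtain ⟨W, hWd, hWc, hWF⟩ := exists_witness h4 (n := n) (by omega) (GeneralLinearGroup.det A ^ (j - 2))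
      have hW := ih (j - 2) (by omega) (by omega) W hWc hWd (hWF K)
      have := step (j - 2) W hW.self hWc G hG (by rw [hd]; congr 1; omega) hF
      rwa [show j - 2 + 2 = j by omega] at this

theorem cyc_five (A : GL (Fin 5) F) (hNE : NoEig A.1) : ∃ w, Cyc A.1 w := by
  obtain ⟨m, k, h, f, C0, A2, P, hfm, hfd, -, hP, hAP, -, hNE2, hfA, hfA2, hmin⟩ :=
    exists_split A.1 (GeneralLinearGroup.det_ne_zero A) hNE.kerLine
  by_cases hk : k = 0
  · obtain ⟨v, hv⟩ := exists_max A.1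
    refine ⟨v, cyc_of_eq_zero fun q hq h0 => by_contra fun hq0 => ?_⟩
    have := natDegree_le_of_dvd (hmin q (hv q h0)) hq0
    omega
  exfalso
  have hroot : ∀ a : F, ¬f.IsRoot a := by
    intro a ha
    obtain ⟨r, hr⟩ := dvd_iff_isRoot.2 ha
    have hr0 : r ≠ 0 := fun e => hfm.ne_zero (by rw [hr, e, mul_zero])
    have : aeval A.1 r = 0 := mext fun u => by
      rw [zero_mulVec]
      refine hNE a _ ?_
      rw [← sub_eq_zero, ← one_mulVec (a • _), mulVec_smul, ← smul_mulVec, ← sub_mulVec, mulVec_mulVec]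
      have e := congrArg (aeval A.1) hr
      rw [hfA, map_mul, map_sub, aeval_X, aeval_C, Algebra.algebraMap_eq_smul_one] at e
      rw [← e, zero_mulVec]
    have := natDegree_le_of_dvd (hmin r this) hr0
    rw [hr, natDegree_mul (X_sub_C_ne_zero a) hr0, natDegree_X_sub_C] at this
    omega
  have hk1 : k ≠ 1 := fun e => by subst e; exact noEig_one hNE2
  have hm0 : m ≠ 0 := fun e => by
    rw [hfm.natDegree_eq_zero.1 (hfd.trans e), map_one] at hfA
    have := congrFun (congrFun hfA 0) 0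
    simp at this
  have hm1 : m ≠ 1 := fun e => by
    rw [hfm.eq_X_add_C (hfd.trans e)] at hroot
    exact hroot (-f.coeff 0) (by simp)
  have hirr : ∀ (g : F[X]), g.Monic → 2 ≤ g.natDegree → g.natDegree ≤ 3 → (∀ a, ¬g.IsRoot a) → Irreducible g := by
    intro g hg h2 h3 hr
    rw [Monic.irreducible_iff_roots_eq_zero_of_degree_le_three hg h2 h3]
    exact Multiset.eq_zero_of_forall_notMem fun a ha => hr a ((mem_roots hg.ne_zero).1 ha)
  have hfirr := hirr f hfm (by omega) (by omega) hroot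
  set g := A2.charpoly with hg
  have hgd : g.natDegree = k := by rw [hg, Matrix.charpoly_natDegree_eq_dim, Fintype.card_fin]
  have hgirr := hirr g A2.charpoly_monic (by omega) (by omega) fun a ha => by
    rw [hg, IsRoot.def, Matrix.eval_charpoly] at ha
    obtain ⟨u, hu0, hu⟩ := Matrix.exists_mulVec_eq_zero_iff.2 ha
    rw [sub_mulVec, sub_eq_zero] at hu
    refine hu0 (hNE2 a u ?_)
    rw [← hu]
    funext i
    simp [Matrix.scalar_apply, Matrix.mulVec_diagonal]
  have hcop : IsCoprime f g := (hfirr.coprime_iff_not_dvd).2 fun hd => by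
    have h1 := hfirr.associated_of_dvd hgirr hd
    have := natDegree_eq_of_degree_eq (degree_eq_degree_of_associated h1)
    omega
  obtain ⟨a, b, hab⟩ := hcop
  have h1 := congrArg (aeval A2) hab
  rw [map_add, map_mul, map_mul, map_one, hfA2, hg, Matrix.aeval_self_charpoly, mul_zero, mul_zero, add_zero] at h1
  have := congrFun (congrFun h1 ⟨0, by omega⟩) ⟨0, by omega⟩
  simp at this

/-- Without eigenvectors, `n` conjugates give everything up to the determinants of the conjugators. -/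
theorem weak_five [Fintype F] (h4 : 4 ≤ Fintype.card F) (hn : 5 ≤ n) (A : GL (Fin n) F) (hA : NoEig A.1)
    (g : GL (Fin n) F) (hdet : GeneralLinearGroup.det g = GeneralLinearGroup.det A ^ n)
    (hg : (∀ c : F, g.1 ≠ c • 1) ∨ g.1 = (GeneralLinearGroup.det A : F) • 1) :
    One ⊤ A n g := by
  obtain ⟨X, l, hX, hXc, hl, hXp⟩ := flag_pair h4 (by omega) A hA.kerLine ⊤ (Or.inl rfl)
  have hl0 : ∀ i, l i ≠ 0 := fun i e => Units.ne_zero (GeneralLinearGroup.det X) (by
    rw [det_of_charpoly hXp]; exact Finset.prod_eq_zero (Finset.mem_univ i) e)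
  obtain ⟨L, U, rfl, hLc, hLp, hUc, hUp⟩ := split_any h4 (by omega) g (Units.ne_zero (GeneralLinearGroup.det A))
    (by rw [hdet, Units.val_pow_eq_pow_val]) hg hl hl0
  obtain ⟨wX, hwX⟩ := hXc
  obtain ⟨wL, hwL⟩ := hLc
  obtain ⟨S, hS, -⟩ := exists_similar hwL hwX (hLp.trans hXp.symm)
  have hLone : Cls ⊤ A 2 L := hS ▸ (hX.cls (full_top X)).conj S
  have hdU : GeneralLinearGroup.det U = GeneralLinearGroup.det A ^ (n - 2) := by
    rw [map_mul, hLone.self.det] at hdet
    refine mul_left_cancel (a := GeneralLinearGroup.det A ^ 2) (hdet.trans ?_)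
    rw [← pow_add, show 2 + (n - 2) = n by omega]
  have hUone : Cls ⊤ A (n - 2) U := by
    by_cases h6 : 6 ≤ n
    · exact all_cyc h4 (by omega) hA.kerLine hX ⟨wX, hwX⟩ hl hXp (n - 2) (by omega) U hUc hdU (full_top U)
    · obtain rfl : n = 5 := by omega
      refine gn h4 (i := 1) (k := 2) (by omega) (Or.inl rfl) (one_one_iff.2 (Fac.self _ A)) (cyc_five A hA) hX
        ⟨wX, hwX⟩ hl hXp ?_ hUc (full_top U)
      rw [hdU, hX.det, ← pow_succ']
  have := One.mul hLone.self hUone.self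
  rwa [show 2 + (n - 2) = n by omega] at this

/-- Exact version in large degree. -/
theorem exact_big [Fintype F] (h4 : 4 ≤ Fintype.card F) (A : GL (Fin n) F) (hA : KerLine A.1)
    (hq : ∀ t d : F, A.1 * A.1 ≠ t • A.1 - d • 1) (hn : 8 ≤ n ∨ (6 ≤ n ∧ ∃ w, Cyc A.1 w))
    (hdA : GeneralLinearGroup.det A = 1) (g : GL (Fin n) F) (hdet : GeneralLinearGroup.det g = 1)
    (hg : (∀ c : F, g.1 ≠ c • 1) ∨ g = 1) : One ⊥ A n g := by
  have hn6 : 6 ≤ n := by rcases hn with h | ⟨h, -⟩ <;> omega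
  obtain ⟨X, lX, hX, hXc, hlX, hXp⟩ := flag_pair h4 (by omega) A hA ⊥ (Or.inr hq)
  obtain ⟨i, j, hij, hcl⟩ : ∃ i j : ℕ, i + j = n ∧ ∀ (G : GL (Fin n) F), (∃ w, Cyc G.1 w) →
      GeneralLinearGroup.det G = 1 → Full (⊥ : Subgroup Fˣ) G → Cls ⊥ A i G ∧ Cls ⊥ A j G := by
    rcases hn with h8 | ⟨-, hc⟩
    · refine ⟨4, n - 4, by omega, fun G h1 h2 h3 => ⟨?_, ?_⟩⟩ <;>
        exact all_cyc h4 (by omega) hA hX hXc hlX hXp _ (by omega) G h1 (by rw [h2, hdA, one_pow]) h3
    · refine ⟨3, n - 3, by omega, fun G h1 h2 h3 => ⟨?_, ?_⟩⟩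
      · exact gn h4 (i := 1) (k := 2) (by omega) (Or.inr (by omega)) (one_one_iff.2 (Fac.self _ A)) hc hX hXc hlX
          hXp (by rw [h2, hX.det, hdA, one_pow, mul_one]) h1 h3
      · by_cases h7 : 7 ≤ n
        · exact all_cyc h4 (by omega) hA hX hXc hlX hXp _ (by omega) G h1 (by rw [h2, hdA, one_pow]) h3
        · rw [show n - 3 = 1 + 2 by omega]
          exact gn h4 (i := 1) (k := 2) (by omega) (Or.inr (by omega)) (one_one_iff.2 (Fac.self _ A)) hc hX hXc hlX
            hXp (by rw [h2, hX.det, hdA, one_pow, mul_one]) h1 h3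
  obtain ⟨l, hl, hl0, hlp, hls⟩ := exists_simple h4 (n := n) (by omega) (one_ne_zero (α := F))
  have hg' : (∀ c : F, g.1 ≠ c • 1) ∨ g.1 = (1 : F) • 1 := hg.imp_right fun e => by rw [e, one_smul]; rfl
  obtain ⟨L, U, rfl, hLc, hLp, hUc, hUp⟩ := split_any h4 (by omega) g one_ne_zero
    (by rw [hdet, Units.val_one, one_pow]) hg' hl hl0
  have hdL : GeneralLinearGroup.det L = 1 := Units.ext (by rw [det_of_charpoly hLp, hlp, Units.val_one])
  have hdU : GeneralLinearGroup.det U = 1 := by rwa [map_mul, hdL, one_mul] at hdet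
  set i0 : Fin n := ⟨0, by omega⟩
  have hls' : ∀ x, x ≠ i0 → l x ≠ l i0 := fun x hx => hls x fun e => hx (Fin.ext e)
  have hLF : Full (⊥ : Subgroup Fˣ) L := full_list L hLc hLp i0 hls' _
  have hUF : Full (⊥ : Subgroup Fˣ) U := full_list U hUc hUp i0
    (fun x hx e => hls' x hx (inv_injective (mul_left_cancel₀ one_ne_zero e))) _
  have := One.mul (hcl L hLc hdL hLF).1.self (hcl U hUc hdU hUF).2.self
  rwa [hij] at this

theorem One.of_full {K : Subgroup Fˣ} {A g : GL (Fin n) F} {j : ℕ} (hA : Full K A) (h : One ⊤ A j g) :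
    One K A j g := by
  induction h with
  | nil => exact One.nil
  | @cons j B g hB _ ih =>
    obtain ⟨T, -, rfl⟩ := hB
    obtain ⟨Z, hZ, hd⟩ := hA ((GeneralLinearGroup.det T)⁻¹)
    rw [inv_inv] at hd
    refine One.cons ⟨T * Z, by rw [map_mul, mul_comm]; exact hd, ?_⟩ ih
    rw [_root_.mul_inv_rev, mul_assoc T Z A, hZ]; group

end Cfsg.Agent.Lib.LevCover
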