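import Cfsg.Agent.Lib.LevCover.TopJ2
import Cfsg.Agent.Lib.LevCover.NE4

/-!
Nonscalar targets, exactly.
-/

set_option autoImplicit false

namespace Cfsg.Agent.Lib.LevCover

open Matrix Polynomial
open Cfsg.Agent.Lib.Sourour (blk det_blk_upper R1 four_of_fintype)

variable {F : Type*} [Field F] {n : ℕ}

theorem eig_ne_zero (A : GL (Fin n) F) {a : F} {v : Fin n → F} (hv0 : v ≠ 0) (hv : A.1 *ᵥ v = a • v) : a ≠ 0 :=
  fun e => hv0 (by
    have h1 := congrArg ((A⁻¹).1 *ᵥ ·) hv
    simpa [e, mulVec_mulVec] using h1)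

theorem exists_eigvec {A : Matrix (Fin n) (Fin n) F} (h : ¬NoEig A) :
    ∃ (a : F) (v : Fin n → F), v ≠ 0 ∧ A *ᵥ v = a • v := by
  by_contra hno
  push Not at hno
  exact h fun a v hv => by_contra fun h0 => hno a v h0 hv

/-- The determinant of the corner. -/
theorem det_quot {m : ℕ} {A g Q B P : GL (Fin (m + 1)) F} {a : F} {x r : Fin m → F} {A' M : GL (Fin m) F}
    (hAQ : A.1 * Q.1 = Q.1 * blk a x 0 A'.1) (hB : Fac ⊥ A B)
    (hH : (P⁻¹ * (B⁻¹ * g) * P).1 = blk (a ^ m) r 0 M.1)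
    (hdet : GeneralLinearGroup.det g = GeneralLinearGroup.det A ^ (m + 1)) :
    GeneralLinearGroup.det M = GeneralLinearGroup.det A' ^ m := by
  obtain ⟨S, -, rfl⟩ := hB
  have hD : A.1.det = a * A'.1.det := by
    have h1 := congrArg Matrix.det hAQ
    rw [det_mul, det_mul, det_blk_upper, mul_comm] at h1
    exact mul_left_cancel₀ (GeneralLinearGroup.det_ne_zero Q) h1
  have hh : GeneralLinearGroup.det (P⁻¹ * ((S * A * S⁻¹)⁻¹ * g) * P) = GeneralLinearGroup.det A ^ m := by
    simp only [map_mul, map_inv]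
    rw [hdet, pow_succ]
    rw [mul_comm _ (GeneralLinearGroup.det P), mul_inv_cancel_left, mul_comm (GeneralLinearGroup.det S),
      mul_inv_cancel_right, mul_comm (GeneralLinearGroup.det A ^ m), inv_mul_cancel_left]
  have h1 := congrArg Units.val hh
  rw [det_val, hH, det_blk_upper, Units.val_pow_eq_pow_val, det_val, hD, mul_pow] at h1
  refine Units.ext ?_
  rw [det_val, Units.val_pow_eq_pow_val, det_val]
  refine mul_left_cancel₀ (pow_ne_zero _ fun e => GeneralLinearGroup.det_ne_zero A ?_) h1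
  rw [hD, e, zero_mul]

/-- Without eigenvectors. -/
theorem exact_noEig [Fintype F] (h4 : 4 ≤ Fintype.card F) (hn : 3 ≤ n) (A : GL (Fin n) F) (hNE : NoEig A.1)
    (hdA : GeneralLinearGroup.det A = 1) (g : GL (Fin n) F) (hdet : GeneralLinearGroup.det g = 1)
    (hg : (∀ c : F, g.1 ≠ c • 1) ∨ (g = 1 ∧ 4 ≤ n)) : One ⊥ A n g := by
  have hg' : (∀ c : F, g.1 ≠ c • 1) ∨ g.1 = (GeneralLinearGroup.det A : F) • 1 :=
    hg.imp_right fun e => by rw [hdA, Units.val_one, one_smul, e.1]; rfl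
  have hd : GeneralLinearGroup.det g = GeneralLinearGroup.det A ^ n := by rw [hdet, hdA, one_pow]
  have weak : (∀ K : Subgroup Fˣ, Full K A) → One ⊥ A n g := by
    intro hF
    refine One.of_full (hF ⊥) ?_
    rcases (show n = 3 ∨ n = 4 ∨ 5 ≤ n by omega) with rfl | rfl | h5
    · exact (three_irr h4 (hNE.nonPseudo (by norm_num)) hNE (hg.resolve_right fun e => by omega) hd).one
    · exact weak_four h4 hNE hd hg'
    · exact weak_five h4 h5 A hNE g hd hg'
  by_cases hq : ∃ t d : F, A.1 * A.1 = t • A.1 - d • 1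
  · obtain ⟨t, d, hq⟩ := hq
    exact weak fun K => full_of_quad A (by omega) hNE hq K
  push Not at hq
  by_cases h8 : 8 ≤ n
  · exact exact_big h4 A hNE.kerLine hq (Or.inl h8) hdA g hdet (hg.imp_right And.left)
  rcases small_cases A (by omega) (by omega) hNE with hF | ⟨hn46, hc, hp⟩
  · exact weak hF
  · rcases hn46 with rfl | rfl
    · obtain ⟨p, hpi, hpm, hpd, hpA⟩ := hp rfl
      exact ne4_exact h4 hNE hc hpi hpm hpd hpA hdA hdet (hg.imp_right And.left)
    · exact exact_big h4 A hNE.kerLine hq (Or.inr ⟨by norm_num, hc⟩) hdA g hdet (hg.imp_right And.left)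

/-- Every nonscalar element, up to a scalar. -/
theorem exact_nonscalar [Fintype F] (h4 : 4 ≤ Fintype.card F) (hn : 3 ≤ n) (A : GL (Fin n) F)
    (hA : ∀ c : F, A.1 ≠ c • 1) (hdA : GeneralLinearGroup.det A = 1) (g : GL (Fin n) F)
    (hdet : GeneralLinearGroup.det g = 1) (hg : ∀ c : F, g.1 ≠ c • 1) :
    ∃ (z : F) (g' : GL (Fin n) F), g'.1 = z • g.1 ∧ One ⊥ A n g' := by
  classical
  have done' : One ⊥ A n g → ∃ (z : F) (g' : GL (Fin n) F), g'.1 = z • g.1 ∧ One ⊥ A n g' :=
    fun h => ⟨1, g, (one_smul F g.1).symm, h⟩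
  by_cases hps : ∃ b : F, R1 (A.1 - b • 1)
  · obtain ⟨b, hb⟩ := hps
    exact done' (pseudo_exact h4 hn hA hb hdA hdet hg)
  push Not at hps
  have hnp : NonPseudo A.1 := hps
  by_cases hNE : NoEig A.1
  · exact done' (exact_noEig h4 hn A hNE hdA g hdet (Or.inl hg))
  obtain ⟨m, rfl⟩ : ∃ m, n = m + 1 := ⟨n - 1, by omega⟩
  obtain ⟨a, v, hv0, hv⟩ := exists_eigvec hNE
  have hd : GeneralLinearGroup.det g = GeneralLinearGroup.det A ^ (m + 1) := by rw [hdet, hdA, one_pow]
  rcases (show m = 2 ∨ 3 ≤ m by omega) with rfl | hm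
  · obtain ⟨Q, x, A', -, hAQ⟩ := exists_quot hv0 hv
    obtain ⟨σ, hσ⟩ := exists_rootless (δ := (GeneralLinearGroup.det A' : F) ^ 2) (pow_ne_zero _ (Units.ne_zero _))
    obtain ⟨B, P, r, M, hB, hH, hMt, -, hv'⟩ :=
      three_tune (cyc_three hnp) hg (pow_ne_zero 2 (eig_ne_zero A hv0 hv)) σ
    have hMd := det_quot hAQ hB hH hd
    have hMNE : NoEig M.1 := by
      intro b u hu
      by_contra hu0
      have h0 : (M.1 - b • 1).det = 0 := Matrix.exists_mulVec_eq_zero_iff.1
        ⟨u, hu0, by rw [sub_mulVec, smul_mulVec, one_mulVec, hu, sub_self]⟩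
      refine hσ b ?_
      rw [← Units.val_pow_eq_pow_val, ← hMd, det_val, ← hMt, trace_fin_two, det_fin_two]
      rw [det_fin_two] at h0
      simp at h0
      linear_combination h0
    exact done' (peel hAQ (by norm_num) hB hH hv' (pair_two (quot_not_scalar hAQ hnp) hMNE hMd)).2
  by_cases hq : m + 1 = 4 ∧ ∃ t d : F, A.1 * A.1 = t • A.1 - d • 1
  · obtain ⟨hm4, t, d, hq⟩ := hq
    obtain rfl : m = 3 := by omega
    have hroot : a * a - t * a + d = 0 := by
      have h1 : (A.1 * A.1) *ᵥ v = (a * a) • v := by rw [← mulVec_mulVec, hv, mulVec_smul, hv, smul_smul]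
      rw [hq, sub_mulVec, smul_mulVec, smul_mulVec, one_mulVec, hv, smul_smul, ← sub_eq_zero, ← sub_smul,
        ← sub_smul, smul_eq_zero] at h1
      linear_combination -(h1.resolve_right hv0)
    have hfac := quad_roots hq hroot
    by_cases hab : t - a = a
    · rw [hab] at hfac
      obtain ⟨g', hg', hone⟩ := j2_exact h4 hfac hnp hdA hdet hg
      rcases hg' with e | e
      · exact ⟨1, g', by rw [one_smul, e], hone⟩
      · exact ⟨-1, g', by rw [neg_smul, one_smul, e], hone⟩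
    · refine done' (One.of_full (full_of_eig A hv (fun u hu => hv0 ?_) ⊥) (four_quad h4 hq hnp hd (Or.inl hg)).1)
      have h2 : (A.1 - (t - a) • 1) * (A.1 - a • 1) = 0 := by
        have := quad_roots hq (a := t - a) (by linear_combination hroot)
        rwa [sub_sub_cancel] at this
      have h3 := congrArg (· *ᵥ u) h2
      simp only [← mulVec_mulVec, sub_mulVec, smul_mulVec, one_mulVec, zero_mulVec, hu, hv, ← sub_smul] at h3
      exact (smul_eq_zero.1 h3).resolve_left fun e => hab (by linear_combination -e)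
  push Not at hq
  obtain ⟨b, Q, x, A', hAQ, hA'⟩ := exists_good_quot (by omega) hnp ⟨a, v, hv0, hv⟩ hq
  have hb : b ≠ 0 := fun e => by
    have h1 := congrArg Matrix.det hAQ
    rw [det_mul, det_mul, det_blk_upper, e, zero_mul, mul_zero, mul_eq_zero] at h1
    exact h1.elim (GeneralLinearGroup.det_ne_zero A) (GeneralLinearGroup.det_ne_zero Q)
  obtain ⟨B, P, r, M, hB, hH, hMs, hv'⟩ := first_factor (by omega) hA hg hb
  exact done' (peel hAQ (by omega) hB hH hv' (nf_any h4 m hm A' hA' M hMs (det_quot hAQ hB hH hd))).2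

end Cfsg.Agent.Lib.LevCover
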