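import Cfsg.Agent.Lib.LevCover.Line

/-!
The scalar target in every degree.
-/

set_option autoImplicit false

namespace Cfsg.Agent.Lib.LevCover

open Matrix Polynomial
open Cfsg.Agent.Lib.Sourour (R1)

variable {F : Type*} [Field F] {n : ℕ}

/-- The identity as a product of `n` conjugates. -/
theorem exact_scalar [Fintype F] (h4 : 4 ≤ Fintype.card F) (hn : 3 ≤ n) (A : GL (Fin n) F)
    (hA : ∀ c : F, A.1 ≠ c • 1) (hdA : GeneralLinearGroup.det A = 1) : One ⊥ A n 1 := by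
  classical
  by_cases hq : (∃ t d : F, A.1 * A.1 = t • A.1 - d • 1) ∧ ¬NoEig A.1
  · obtain ⟨⟨t, d, hq⟩, hNE⟩ := hq
    exact exact_quad_one h4 hn A hA hdA hq hNE
  have hnp : NonPseudo A.1 := by
    intro b hb
    by_cases hNE : NoEig A.1
    · exact hNE.nonPseudo (by omega) b hb
    · exact hq ⟨quad_of_R1 hb, hNE⟩
  rcases (show n = 3 ∨ 4 ≤ n by omega) with rfl | hn4
  · exact exact_three_one h4 A hnp hdA
  by_cases hNE : NoEig A.1
  · exact exact_noEig h4 hn A hNE hdA 1 (map_one _) (Or.inr ⟨rfl, hn4⟩)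
  have hq' : ∀ t d : F, A.1 * A.1 ≠ t • A.1 - d • 1 := fun t d e => hq ⟨⟨t, d, e⟩, hNE⟩
  rcases (show n = 4 ∨ 5 ≤ n by omega) with rfl | hn5
  · exact exact_four_one h4 A hnp hq' hdA hNE
  by_cases htwo : ∃ (b c : F) (u w : Fin n → F), u ≠ 0 ∧ A.1 *ᵥ u = b • u ∧ A.1 *ᵥ w = c • w ∧
      ∀ k : F, w ≠ k • u
  · obtain ⟨b, c, u, w, hu0, hu, hw, hne⟩ := htwo
    have hind := pair_indep hu0 hne
    obtain ⟨m, rfl⟩ : ∃ m, n = m + 1 + 1 := ⟨n - 2, by omega⟩
    exact exact_two h4 (by omega) hnp hq' hdA hind hu hw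
  push Not at htwo
  exact exact_line h4 hn5 A hq' hdA hNE htwo

end Cfsg.Agent.Lib.LevCover
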