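import Cfsg.Agent.Lib.LevCover.Pseudo

/-!
Degree four, a scalar plus a square zero map of rank two.
-/

set_option autoImplicit false

namespace Cfsg.Agent.Lib.LevCover

open Matrix Polynomial
open Cfsg.Agent.Lib.Sourour (blk blk_mul blk_mulVec det_blk_upper R1 Good four_of_fintype cons_tail_eq)

variable {F : Type*} [Field F]

theorem R1.finrank_le {n : ℕ} {N : Matrix (Fin n) (Fin n) F} (h : R1 N) :
    Module.finrank F (LinearMap.range N.mulVecLin) ≤ 1 := by
  by_contra hlt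
  exact not_R1.2 (by omega) h

theorem not_R1_of_det {n : ℕ} (hn : 2 ≤ n) {N : Matrix (Fin n) (Fin n) F} (h : N.det ≠ 0) : ¬R1 N := by
  intro hR
  obtain ⟨u, v, rfl⟩ := R1.exists_vecMulVec hR
  haveI : Nontrivial (Fin n) := ⟨⟨0, by omega⟩, ⟨1, by omega⟩, by simp⟩
  exact h (Matrix.det_vecMulVec _ _)

/-- Of a target and its negative, one is far from the exceptions. -/
theorem j2_target (h2 : (2 : F) ≠ 0) (g : GL (Fin 4) F) (hdet : GeneralLinearGroup.det g = 1)
    (hg : ∀ c : F, g.1 ≠ c • 1) :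
    ∃ g' : GL (Fin 4) F, (g'.1 = g.1 ∨ g'.1 = -g.1) ∧ GeneralLinearGroup.det g' = 1 ∧ (∀ c : F, g'.1 ≠ c • 1) ∧
      (g'.1 - 1) * (g'.1 - 1) ≠ 0 ∧ ∀ μ : F, μ ≠ 1 → μ ^ 3 = 1 → ¬R1 (g'.1 - μ • 1) := by
  have h1n : (1 : F) ≠ -1 := fun e => h2 (by linear_combination e)
  obtain ⟨g', hg'⟩ : ∃ g' : GL (Fin 4) F, g'.1 = -g.1 := exists_GL (by
    rw [Matrix.det_neg]; simp [GeneralLinearGroup.det_ne_zero g])
  have hd' : GeneralLinearGroup.det g' = 1 := Units.ext (by
    rw [det_val, hg', Matrix.det_neg, ← det_val, hdet]; norm_num)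
  have hs' : ∀ c : F, g'.1 ≠ c • 1 := fun c e => hg (-c) (by rw [neg_smul, ← e, hg', neg_neg])
  by_cases hA : (g.1 - 1) * (g.1 - 1) = 0
  · refine ⟨g', Or.inr hg', hd', hs', fun h => ?_, fun μ hμ hμ3 => ?_⟩
    · have h4 : (4 : F) • g.1 = 0 := by
        rw [hg', sub_mul, mul_sub, mul_sub] at h
        rw [sub_mul, mul_sub, mul_sub] at hA
        simp only [neg_mul, mul_neg, neg_neg, one_mul, mul_one] at h hA
        have := congrArg₂ (· - ·) h hA
        simp only [sub_zero] at this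
        rw [← this, show (4 : F) = 1 + 1 + 1 + 1 by norm_num, add_smul, add_smul, add_smul, one_smul]
        abel
      rw [smul_eq_zero] at h4
      rcases h4 with h4 | h4
      · exact h2 (mul_self_eq_zero.1 (by linear_combination h4))
      · exact GeneralLinearGroup.det_ne_zero g (by rw [h4, det_zero])
    · refine not_R1_of_det (by norm_num) ?_
      have hμn : μ + 1 ≠ 0 := fun e => by
        rw [show μ = -1 by linear_combination e] at hμ3
        exact h2 (by linear_combination -hμ3)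
      have h1 : (g'.1 - μ • 1) * ((μ + 1) • 1 - (g.1 - 1)) = (-((μ + 1) * (μ + 1))) • 1 := by
        rw [hg', show -g.1 - μ • (1 : Matrix (Fin 4) (Fin 4) F) = -((g.1 - 1) + (μ + 1) • 1) by
          rw [add_smul, one_smul]; abel]
        set N := g.1 - 1
        simp only [neg_mul, add_mul, mul_sub, Matrix.mul_smul, Matrix.smul_mul, one_mul, mul_one, hA, smul_smul,
          neg_smul]
        abel
      intro h0
      have := congrArg Matrix.det h1
      rw [det_mul, h0, zero_mul, det_smul, det_one, mul_one] at this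
      exact pow_ne_zero _ (neg_ne_zero.2 (mul_ne_zero hμn hμn)) this.symm
  by_cases hB : ∀ μ : F, μ ≠ 1 → μ ^ 3 = 1 → ¬R1 (g.1 - μ • 1)
  · exact ⟨g, Or.inl rfl, hdet, hg, hA, hB⟩
  push Not at hB
  obtain ⟨μ, hμ, hμ3, hR⟩ := hB
  have hμn : μ + 1 ≠ 0 := fun e => by
    rw [show μ = -1 by linear_combination e] at hμ3
    exact h2 (by linear_combination -hμ3)
  obtain ⟨u, v, huv⟩ := R1.exists_vecMulVec hR
  refine ⟨g', Or.inr hg', hd', hs', fun h => ?_, fun μ' _ hμ' hR' => ?_⟩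
  · have h1 : R1 ((((μ + 1) * (μ + 1)) • 1 : Matrix (Fin 4) (Fin 4) F)) := by
      refine ⟨u, fun w => ?_⟩
      have hN : g'.1 - 1 = -((μ + 1) • (1 : Matrix (Fin 4) (Fin 4) F) + vecMulVec u v) := by
        rw [hg', ← huv, add_smul, one_smul]; abel
      have h2' := congrArg (· *ᵥ w) h
      simp only [hN, neg_mul_neg, zero_mulVec, ← mulVec_mulVec, add_mulVec, smul_mulVec, one_mulVec,
        vecMulVec_mulVec, op_smul_eq_smul, mulVec_add, mulVec_smul, smul_smul, smul_add] at h2'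
      refine ⟨-((μ + 1) * (v ⬝ᵥ w) + ((μ + 1) * (v ⬝ᵥ w) + (v ⬝ᵥ w) * (v ⬝ᵥ u))), ?_⟩
      rw [smul_mulVec, one_mulVec, ← sub_eq_zero, ← h2']
      simp only [neg_smul, add_smul, mul_comm (v ⬝ᵥ w) (μ + 1)]
      abel
    exact not_R1_of_det (by norm_num) (by rw [det_smul, det_one, mul_one]; exact pow_ne_zero _ (mul_ne_zero hμn hμn)) h1
  · have hμμ : μ' + μ ≠ 0 := fun e => h2 (by
      rw [show μ' = -μ by linear_combination e] at hμ'
      linear_combination -hμ' - hμ3)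
    obtain ⟨u', v', huv'⟩ := R1.exists_vecMulVec hR'
    have h1 : (μ' + μ) • (1 : Matrix (Fin 4) (Fin 4) F) = -(vecMulVec u v + vecMulVec u' v') := by
      rw [← huv, ← huv', hg', add_smul]; abel
    have hle : LinearMap.range ((μ' + μ) • (1 : Matrix (Fin 4) (Fin 4) F)).mulVecLin ≤
        Submodule.span F (Set.range ![u, u']) := by
      rintro _ ⟨w, rfl⟩
      rw [Matrix.mulVecLin_apply, h1, neg_mulVec, add_mulVec, vecMulVec_mulVec, vecMulVec_mulVec, op_smul_eq_smul,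
        op_smul_eq_smul]
      exact Submodule.neg_mem _ (Submodule.add_mem _ (Submodule.smul_mem _ _ (Submodule.subset_span ⟨0, rfl⟩))
        (Submodule.smul_mem _ _ (Submodule.subset_span ⟨1, rfl⟩)))
    have htop : LinearMap.range ((μ' + μ) • (1 : Matrix (Fin 4) (Fin 4) F)).mulVecLin = ⊤ := by
      rw [LinearMap.range_eq_top]
      exact fun w => ⟨(μ' + μ)⁻¹ • w, by simp [smul_mulVec, smul_smul, hμμ]⟩
    have h3 := Submodule.finrank_mono hle
    rw [htop, finrank_top, Module.finrank_fin_fun] at h3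
    have h4 : Module.finrank F (Submodule.span F (Set.range ![u, u'])) ≤ 2 :=
      (finrank_range_le_card ![u, u']).trans (by simp)
    omega

/-- A basis of four adapted to a square zero map of rank two. -/
theorem j2_basis {N : Matrix (Fin 4) (Fin 4) F} (hN : N * N = 0)
    (hr : 2 ≤ Module.finrank F (LinearMap.range N.mulVecLin)) :
    ∃ v x : Fin 4 → F, LinearIndependent F ![v, x, N *ᵥ v, N *ᵥ x] ∧
      LinearMap.range N.mulVecLin ≤ Submodule.span F (Set.range ![N *ᵥ v, N *ᵥ x]) := by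
  have h1 := rank_pair hN
  have hr2 : Module.finrank F (LinearMap.range N.mulVecLin) = 2 := by omega
  obtain ⟨b⟩ : Nonempty (Module.Basis (Fin 2) F (LinearMap.range N.mulVecLin)) :=
    ⟨Module.finBasisOfFinrankEq F _ hr2⟩
  obtain ⟨v, hv⟩ := (b 0).2
  obtain ⟨x, hx⟩ := (b 1).2
  rw [Matrix.mulVecLin_apply] at hv hx
  have hpair : ∀ s t : F, s • (N *ᵥ v) + t • (N *ᵥ x) = 0 → s = 0 ∧ t = 0 := by
    intro s t h
    have h2 := Fintype.linearIndependent_iff.1 b.linearIndependent ![s, t]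
      (Subtype.ext (by simpa [Fin.sum_univ_two, ← hv, ← hx] using h))
    exact ⟨h2 0, h2 1⟩
  have hNN : ∀ w, N *ᵥ (N *ᵥ w) = 0 := fun w => by rw [mulVec_mulVec, hN, zero_mulVec]
  refine ⟨v, x, Fintype.linearIndependent_iff.2 fun l hl => ?_, ?_⟩
  · simp only [Fin.sum_univ_four, Matrix.cons_val] at hl
    have h2 := congrArg (N *ᵥ ·) hl
    simp only [mulVec_add, mulVec_smul, hNN, smul_zero, add_zero, mulVec_zero] at h2
    obtain ⟨e0, e1⟩ := hpair _ _ h2
    rw [e0, e1, zero_smul, zero_smul, zero_add, zero_add] at hl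
    obtain ⟨e2, e3⟩ := hpair _ _ hl
    intro i
    fin_cases i <;> assumption
  · intro y hy
    obtain ⟨l, hl⟩ : ∃ l, l = b.repr ⟨y, hy⟩ := ⟨_, rfl⟩
    have h2 := congrArg Subtype.val (b.sum_repr ⟨y, hy⟩)
    simp only [Fin.sum_univ_two, Submodule.coe_add, Submodule.coe_smul, ← hv, ← hx] at h2
    rw [← h2]
    exact Submodule.add_mem _ (Submodule.smul_mem _ _ (Submodule.subset_span ⟨0, rfl⟩))
      (Submodule.smul_mem _ _ (Submodule.subset_span ⟨1, rfl⟩))

/-- The first vector. -/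
theorem j2_vec {g : GL (Fin 4) F} (hg : ∀ k : F, g.1 ≠ k • 1) (hG2 : (g.1 - 1) * (g.1 - 1) ≠ 0) :
    ∃ v, (∀ k : F, (g.1 - 1) *ᵥ v ≠ k • v) ∧ (g.1 - 1) *ᵥ ((g.1 - 1) *ᵥ v) ≠ 0 := by
  set G := g.1 - 1 with hG
  obtain ⟨a, ha⟩ : ∃ a, (G * G) *ᵥ a ≠ 0 := by
    by_contra hno
    push Not at hno
    exact hG2 (mext fun u => by rw [hno u, zero_mulVec])
  obtain ⟨b, hb0, hb⟩ := exists_not_eig (M := G) fun k e => hg (k + 1) (by
    rw [add_smul, one_smul, ← e, hG, sub_add_cancel])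
  by_cases h1 : ∀ k : F, G *ᵥ a ≠ k • a
  · exact ⟨a, h1, by rwa [mulVec_mulVec]⟩
  by_cases h3 : (G * G) *ᵥ b ≠ 0
  · exact ⟨b, hb, by rwa [mulVec_mulVec]⟩
  push Not at h1 h3
  obtain ⟨k, hk⟩ := h1
  refine ⟨a + b, fun l hl => ?_, by rw [mulVec_mulVec, mulVec_add, h3, add_zero]; exact ha⟩
  rw [mulVec_add, hk] at hl
  have hk0 : k ≠ 0 := fun e => ha (by rw [← mulVec_mulVec, hk, e, zero_smul, mulVec_zero])
  have h5 := congrArg (G *ᵥ ·) hl
  simp only [mulVec_add, mulVec_smul, hk, mulVec_mulVec, h3, add_zero, smul_smul, smul_add] at h5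
  rw [← sub_eq_zero, show G *ᵥ b = l • b + (l - k) • a by rw [eq_sub_of_add_eq' hl]; module, smul_add, smul_smul,
    smul_smul, ← sub_eq_zero] at h5
  by_cases hlk : l = k
  · refine hb l ?_
    rw [eq_sub_of_add_eq' hl, hlk]; module
  · have h6 : (k * k - l * k - l * (l - k)) • a = (l * l) • b := by
      rw [← sub_eq_zero, ← h5]; module
    by_cases hl0 : l = 0
    · subst hl0
      simp only [zero_mul, sub_zero, zero_smul, smul_eq_zero, mul_eq_zero, or_self, hk0, false_or] at h6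
      exact ha (by rw [h6, mulVec_zero])
    · refine hb k ?_
      have h7 : b = ((l * l)⁻¹ * (k * k - l * k - l * (l - k))) • a := by
        rw [← smul_smul, h6, smul_smul, inv_mul_cancel₀ (mul_ne_zero hl0 hl0), one_smul]
      rw [h7, mulVec_smul, hk, smul_comm]

/-- The second image. -/
theorem j2_second (h4F : Cfsg.Agent.Lib.Sourour.Four F) {g : GL (Fin 4) F}
    (hdet : GeneralLinearGroup.det g = 1) {G : Matrix (Fin 4) (Fin 4) F} (hG : G = g.1 - 1)
    (hG2 : G * G ≠ 0) (hGμ : ∀ μ : F, μ ≠ 1 → μ ^ 3 = 1 → ¬R1 (g.1 - μ • 1))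
    {v r1 : Fin 4 → F} (hv0 : v ≠ 0) (hv1 : ∀ k : F, r1 ≠ k • v) :
    ∃ r2, LinearIndependent F ![v, r1, r2] ∧ (∀ e : F, G *ᵥ r2 ≠ e • (G *ᵥ r1)) ∧
      (LinearMap.range G.mulVecLin = ⊤ ∨ r2 ∉ LinearMap.range G.mulVecLin) ∧
      ∀ μ : F, μ ≠ 1 → μ ^ 3 = 1 → (∃ e : F, (g.1 - μ • 1) *ᵥ r1 = e • (v + r1)) →
        ∀ e : F, (g.1 - μ • 1) *ᵥ r2 ≠ e • (v + r1) := by
  classical
  -- a distinguished value
  obtain ⟨μ0, hμ0⟩ : ∃ μ0 : F, ∀ (μ : F), (∃ e : F, (g.1 - μ • 1) *ᵥ r1 = e • (v + r1)) → μ = μ0 := by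
    by_cases hex : ∃ (μ e : F), (g.1 - μ • 1) *ᵥ r1 = e • (v + r1)
    · obtain ⟨μ, e, he⟩ := hex
      refine ⟨μ, fun μ' ⟨e', he'⟩ => ?_⟩
      have h5 := congrArg₂ (· - ·) he he'
      simp only [sub_mulVec, smul_mulVec, one_mulVec] at h5
      have h6 : (e - e') • v + ((e - e') - (μ' - μ)) • r1 = 0 := by
        rw [show (g.1 *ᵥ r1 - μ • r1) - (g.1 *ᵥ r1 - μ' • r1) = (μ' - μ) • r1 by module] at h5
        rw [sub_smul (e - e'), h5]; module
      have hind2 := pair_indep hv0 hv1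
      obtain ⟨h7, h8⟩ := LinearIndependent.pair_iff.1 hind2 _ _ h6
      linear_combination -h8 + h7
    · exact ⟨0, fun μ ⟨e, he⟩ => absurd ⟨μ, e, he⟩ hex⟩
  -- the second image
  set U := Submodule.span F (Set.range ![v, r1]) with hU
  set T2 := (Submodule.span F {G *ᵥ r1}).comap G.mulVecLin with hT2
  set T3 : Submodule F (Fin 4 → F) :=
    if LinearMap.range G.mulVecLin = ⊤ then ⊥ else LinearMap.range G.mulVecLin with hT3
  set T4 : Submodule F (Fin 4 → F) := if μ0 ≠ 1 ∧ μ0 ^ 3 = 1 then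
    (Submodule.span F {v + r1}).comap (g.1 - μ0 • 1).mulVecLin else ⊥ with hT4
  have hdim : Module.finrank F (⊤ : Submodule F (Fin 4 → F)) = 4 := by
    rw [finrank_top, Module.finrank_fin_fun]
  obtain ⟨r2, -, hrU, hr2', hr3, hr4⟩ := Cfsg.Agent.Lib.Sourour.exists_notMem_four h4F (U := ⊤) (S := U) (T := T2)
    (R := T3) (Q := T4) (fun h => by
      have h5 := Submodule.finrank_mono h
      have h6 : Module.finrank F U ≤ 2 := (finrank_range_le_card ![v, r1]).trans (by simp)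
      omega)
    (fun h => by
      have hle : LinearMap.range G.mulVecLin ≤ Submodule.span F {G *ᵥ r1} := by
        rintro _ ⟨w, rfl⟩
        exact h Submodule.mem_top
      obtain ⟨p, q, hpq⟩ := R1.exists_vecMulVec (N := G) ⟨G *ᵥ r1, fun w => by
        obtain ⟨e, he⟩ := Submodule.mem_span_singleton.1 (hle ⟨w, rfl⟩)
        exact ⟨e, he.symm⟩⟩
      refine hG2 ?_
      have h5 : g.1.det = 1 := by rw [← det_val, hdet, Units.val_one]
      rw [show g.1 = 1 + vecMulVec p q by rw [← hpq, hG, add_sub_cancel],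
        Cfsg.Agent.Lib.Sourour.det_one_add_vecMulVec'] at h5
      rw [hpq, vecMulVec_mul_vecMulVec, show q ⬝ᵥ p = 0 by linear_combination h5]
      simp)
    (fun h => by
      rw [hT3] at h
      split_ifs at h with h5
      · have := Submodule.finrank_mono h; rw [finrank_bot] at this; omega
      · exact h5 (top_le_iff.1 h))
    (fun h => by
      rw [hT4] at h
      split_ifs at h with h5
      · refine hGμ μ0 h5.1 h5.2 ⟨v + r1, fun w => ?_⟩
        obtain ⟨e, he⟩ := Submodule.mem_span_singleton.1 (h (Submodule.mem_top (x := w)))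
        exact ⟨e, he.symm⟩
      · have := Submodule.finrank_mono h; rw [finrank_bot] at this; omega)
  have hGr2 : ∀ e : F, G *ᵥ r2 ≠ e • (G *ᵥ r1) := fun e he =>
    hr2' (Submodule.mem_span_singleton.2 ⟨e, he.symm⟩)
  have h3ind : LinearIndependent F ![v, r1, r2] := by
    refine Fintype.linearIndependent_iff.2 fun l hl => ?_
    simp only [Fin.sum_univ_three, Matrix.cons_val] at hl
    by_cases h5 : l 2 = 0
    · rw [h5, zero_smul, add_zero] at hl
      have hind2 := pair_indep hv0 hv1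
      obtain ⟨e0, e1⟩ := LinearIndependent.pair_iff.1 hind2 _ _ hl
      intro i; fin_cases i <;> assumption
    · refine absurd ?_ hrU
      rw [hU, show r2 = -((l 2)⁻¹) • (l 0 • v + l 1 • r1) by
        rw [eq_neg_of_add_eq_zero_left hl, neg_smul, smul_neg, neg_neg, smul_smul, inv_mul_cancel₀ h5, one_smul]]
      exact Submodule.smul_mem _ _ (Submodule.add_mem _ (Submodule.smul_mem _ _ (Submodule.subset_span ⟨0, rfl⟩))
        (Submodule.smul_mem _ _ (Submodule.subset_span ⟨1, rfl⟩)))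
  refine ⟨r2, h3ind, hGr2, ?_, fun μ hμ hμ3 hex e he => hr4 ?_⟩
  · by_cases h : LinearMap.range G.mulVecLin = ⊤
    · exact Or.inl h
    · refine Or.inr fun hm => hr3 ?_
      rwa [hT3, if_neg h]
  · have hμe := hμ0 μ hex
    rw [hT4, if_pos ⟨hμe ▸ hμ, hμe ▸ hμ3⟩]
    exact Submodule.mem_span_singleton.2 ⟨e, by rw [Matrix.mulVecLin_apply, ← hμe]; exact he.symm⟩

/-- The matrix with four given columns. -/
def cols (v x r1 r : Fin 4 → F) : Matrix (Fin 4) (Fin 4) F := Matrix.of fun i j => ![v, x, r1, r] j i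

/-- The remaining vector, by its determinant. -/
theorem j2_third [Fintype F] (h4 : 4 ≤ Fintype.card F) {G : Matrix (Fin 4) (Fin 4) F} {v r1 r2 : Fin 4 → F}
    (hr1 : r1 = G *ᵥ v) (h3ind : LinearIndependent F ![v, r1, r2]) (hGr1 : G *ᵥ r1 ≠ 0)
    (hGr2 : ∀ e : F, G *ᵥ r2 ≠ e • (G *ᵥ r1))
    (hr3 : LinearMap.range G.mulVecLin = ⊤ ∨ r2 ∉ LinearMap.range G.mulVecLin) {κ : F} :
    ∃ (k : F) (x : Fin 4 → F), k ≠ 0 ∧ (cols v x r1 (k • r2)).det = κ ∧
      LinearIndependent F ![G *ᵥ r1, G *ᵥ r2, G *ᵥ x - k • r2] := by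
  classical
  let Md : (Fin 4 → F) → (Fin 4 → F) → Matrix (Fin 4) (Fin 4) F := fun x r => cols v x r1 r
  have hMc : ∀ x r, Md x r = (Md 0 r).updateCol 1 x := by
    intro x r; ext i j; fin_cases j <;> simp [Md, cols]
  have hlin : ∀ (r x y : Fin 4 → F) (a : F), (Md (a • x + y) r).det = a * (Md x r).det + (Md y r).det := by
    intro r x y a
    rw [hMc, Matrix.det_updateCol_add, Matrix.det_updateCol_smul, ← hMc, ← hMc]
  obtain ⟨Pb, hPb⟩ := extend_cols (show 3 ≤ 4 by norm_num) ![v, r1, r2] h3ind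
  obtain ⟨y0, hy0⟩ : ∃ y0, (Md y0 r2).det ≠ 0 := by
    refine ⟨Pb.1 *ᵥ Pi.single 3 1, ?_⟩
    have e : Md (Pb.1 *ᵥ Pi.single 3 1) r2 = Pb.1.submatrix id ![0, 3, 1, 2] := by
      ext i j
      have h5 : ∀ k : Fin 3, Pb.1 i (Fin.castLE (by norm_num) k) = ![v, r1, r2] k i := fun k => by
        rw [← hPb k, mulVec_single_one]; rfl
      fin_cases j
      · exact (h5 0).symm
      · simp [Md, cols, mulVec_single_one]
      · exact (h5 1).symm
      · exact (h5 2).symm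
    rw [e]
    intro h0
    obtain ⟨z, hz0, hz⟩ := Matrix.exists_mulVec_eq_zero_iff.2 h0
    have h6 : Pb.1 *ᵥ ![z 0, z 2, z 3, z 1] = 0 := by
      rw [← hz]
      funext i
      simp [Matrix.mulVec, dotProduct, Fin.sum_univ_four]
      ring
    have h7 := congrArg ((Pb⁻¹).1 *ᵥ ·) h6
    simp only [mulVec_mulVec, Units.inv_mul, one_mulVec, mulVec_zero] at h7
    refine hz0 (funext fun i => ?_)
    fin_cases i
    · exact congrFun h7 0
    · exact congrFun h7 3
    · exact congrFun h7 1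
    · exact congrFun h7 2
  set P := Submodule.span F (Set.range ![G *ᵥ r1, G *ᵥ r2]) with hP
  obtain ⟨r2', x, hr2e, hdx, hxP⟩ : ∃ (r2' x : Fin 4 → F), (∃ k : F, k ≠ 0 ∧ r2' = k • r2) ∧
      (Md x r2').det = κ ∧ G *ᵥ x - r2' ∉ P := by
    set x0 := (κ / (Md y0 r2).det) • y0 with hx0
    have hd0 : (Md x0 r2).det = κ := by
      have h5 := hlin r2 y0 0 (κ / (Md y0 r2).det)
      rw [add_zero] at h5
      rw [hx0, h5, div_mul_cancel₀ _ hy0, det_eq_zero_of_column_eq_zero (A := Md 0 r2) 1 (fun i => rfl), add_zero]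
    by_cases hS : G *ᵥ x0 - r2 ∉ P
    · exact ⟨r2, x0, ⟨1, one_ne_zero, (one_smul F r2).symm⟩, hd0, hS⟩
    rw [not_not] at hS
    by_cases hv' : r1 ∈ P
    · -- the whole image is small, rescale
      obtain ⟨k, hk0, hk1⟩ : ∃ k : F, k ≠ 0 ∧ k * k ≠ 1 := by
        obtain ⟨k, h0, h1, h2', -⟩ := avoid_pm h4 1 (-1)
        exact ⟨k, h0, fun e => by rcases mul_self_eq_one_iff.1 e with h | h <;> contradiction⟩
      refine ⟨k • r2, k⁻¹ • x0, ⟨k, hk0, rfl⟩, ?_, fun h5 => ?_⟩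
      · have e : Md (k⁻¹ • x0) (k • r2) = ((Md x0 r2).updateCol 3 (k • r2)).updateCol 1 (k⁻¹ • x0) := by
          ext i j; fin_cases j <;> simp [Md, cols]
        have e' : (Md x0 r2).updateCol 3 r2 = Md x0 r2 := by ext i j; fin_cases j <;> simp [Md, cols]
        have e'' : ((Md x0 r2).updateCol 3 (k • r2)).updateCol 1 x0 = (Md x0 r2).updateCol 3 (k • r2) := by
          ext i j; fin_cases j <;> simp [Md, cols]
        rw [e, Matrix.det_updateCol_smul, e'', Matrix.det_updateCol_smul, e', hd0, ← mul_assoc,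
          inv_mul_cancel₀ hk0, one_mul]
      · have h6 : (1 - k * k) • r2 ∈ P := by
          have h7 := P.sub_mem (P.smul_mem k h5) hS
          rw [mulVec_smul, smul_sub, smul_smul, mul_inv_cancel₀ hk0, one_smul, smul_smul,
            sub_sub_sub_cancel_left] at h7
          rwa [sub_smul, one_smul]
        have h7 : r2 ∈ P := by
          have := P.smul_mem (1 - k * k)⁻¹ h6
          rwa [smul_smul, inv_mul_cancel₀ (sub_ne_zero.2 (Ne.symm hk1)), one_smul] at this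
        rcases hr3 with htop | hr3
        swap
        · refine hr3 ?_
          have hPle : P ≤ LinearMap.range G.mulVecLin := by
            rw [hP, Submodule.span_le]
            rintro _ ⟨i, rfl⟩
            fin_cases i
            exacts [⟨r1, rfl⟩, ⟨r2, rfl⟩]
          exact hPle h7
        have hinj : Function.Injective G.mulVecLin :=
          LinearMap.injective_iff_surjective.2 (LinearMap.range_eq_top.1 htop)
        have h8 : Submodule.span F (Set.range (G.mulVecLin ∘ ![v, r1, r2])) ≤ P := by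
          rw [Submodule.span_le]
          rintro _ ⟨i, rfl⟩
          fin_cases i
          · show G *ᵥ v ∈ P
            rw [← hr1]; exact hv'
          · exact Submodule.subset_span ⟨0, rfl⟩
          · exact Submodule.subset_span ⟨1, rfl⟩
        have h9 := Submodule.finrank_mono h8
        rw [finrank_span_eq_card (h3ind.map' _ (LinearMap.ker_eq_bot.2 hinj)), Fintype.card_fin] at h9
        have h10 : Module.finrank F P ≤ 2 := (finrank_range_le_card ![G *ᵥ r1, G *ᵥ r2]).trans (by simp)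
        omega
    · refine ⟨r2, x0 + v, ⟨1, one_ne_zero, (one_smul F r2).symm⟩, ?_, fun h5 => hv' ?_⟩
      · have h5 := hlin r2 x0 v 1
        rw [one_smul, one_mul, Matrix.det_zero_of_column_eq (M := Md v r2) (i := 0) (j := 1) (by decide)
          (fun i => by simp [Md, cols]), add_zero] at h5
        rw [h5, hd0]
      · have h6 := P.sub_mem h5 hS
        rw [mulVec_add, sub_sub_sub_cancel_right, add_sub_cancel_left] at h6
        rwa [hr1]
  obtain ⟨k, hk, rfl⟩ := hr2e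
  refine ⟨k, x, hk, hdx, ?_⟩
  refine Fintype.linearIndependent_iff.2 fun l hl => ?_
  simp only [Fin.sum_univ_three, Matrix.cons_val] at hl
  by_cases h5 : l 2 = 0
  · rw [h5, zero_smul, add_zero] at hl
    have hind2 := pair_indep hGr1 hGr2
    obtain ⟨f0, f1⟩ := LinearIndependent.pair_iff.1 hind2 _ _ hl
    intro i; fin_cases i <;> assumption
  · refine absurd ?_ hxP
    rw [show G *ᵥ x - k • r2 = -((l 2)⁻¹) • (l 0 • (G *ᵥ r1) + l 1 • (G *ᵥ r2)) by
      rw [eq_neg_of_add_eq_zero_left hl, neg_smul, smul_neg, neg_neg, smul_smul, inv_mul_cancel₀ h5, one_smul]]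
    exact Submodule.smul_mem _ _ (Submodule.add_mem _ (Submodule.smul_mem _ _ (Submodule.subset_span ⟨0, rfl⟩))
      (Submodule.smul_mem _ _ (Submodule.subset_span ⟨1, rfl⟩)))

/-- The quotient of the class. -/
theorem j2_class {A : GL (Fin 4) F} {c : F} (hc : c ≠ 0) {N : Matrix (Fin 4) (Fin 4) F}
    (hAN : A.1 = c • (1 + N)) (hNN : N * N = 0)
    (hr : 2 ≤ Module.finrank F (LinearMap.range (A.1 - c • 1).mulVecLin))
    (hdA : GeneralLinearGroup.det A = 1) (hc4 : c ^ 4 = 1) {v0 x0' : Fin 4 → F} (hne0 : N *ᵥ v0 ≠ 0)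
    (hrange : LinearMap.range N.mulVecLin ≤ Submodule.span F (Set.range ![N *ᵥ v0, N *ᵥ x0'])) :
    ∃ (Q : GL (Fin 4) F) (y : Fin 3 → F) (A' : GL (Fin 3) F) (u1 v1 : Fin 3 → F),
      A.1 * Q.1 = Q.1 * blk c y 0 A'.1 ∧ A'.1.det = c ^ 3 ∧ A'.1 = c • (1 + vecMulVec u1 v1) ∧
      v1 ⬝ᵥ u1 = 0 ∧ u1 ≠ 0 ∧ v1 ≠ 0 := by
  have hNNv : ∀ w, N *ᵥ (N *ᵥ w) = 0 := fun w => by rw [mulVec_mulVec, hNN, zero_mulVec]
  obtain ⟨Q, y, A', hQ0, hAQ⟩ := exists_quot (A := A) (a := c) (v := N *ᵥ v0) hne0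
    (by rw [hAN, smul_mulVec, add_mulVec, one_mulVec, hNNv, add_zero])
  have hd1 : A'.1.det = c ^ 3 := by
    have h5 := congrArg Matrix.det hAQ
    rw [det_mul, det_mul, det_blk_upper, ← det_val A, hdA, Units.val_one, one_mul, mul_comm] at h5
    have h6 : c * A'.1.det = 1 := mul_left_cancel₀ (GeneralLinearGroup.det_ne_zero Q)
      ((show Q.1.det * (c * A'.1.det) = Q.1.det by linear_combination -h5).trans (mul_one _).symm)
    calc A'.1.det = c ^ 4 * A'.1.det := by rw [hc4, one_mul]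
      _ = c ^ 3 * (c * A'.1.det) := by ring
      _ = c ^ 3 := by rw [h6, mul_one]
  have hne : A'.1 ≠ c • 1 := by
    intro e
    have h5 := quot_range hAQ (c := c) (r := 0) fun u => ⟨0, by rw [e]; simp⟩
    have h6 : Submodule.span F (Set.range ![Q.1 *ᵥ Pi.single 0 1, Q.1 *ᵥ Fin.cons (0 : F) (0 : Fin 3 → F)]) ≤
        Submodule.span F {Q.1 *ᵥ Pi.single 0 1} := by
      rw [Submodule.span_le]
      rintro _ ⟨i, rfl⟩
      fin_cases i
      · exact Submodule.subset_span rfl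
      · have : (Fin.cons (0 : F) (0 : Fin 3 → F) : Fin 4 → F) = 0 := by
          funext i; induction i using Fin.cases <;> simp
        simp [this]
    have h7 := Submodule.finrank_mono (h5.trans h6)
    exact absurd ((hr.trans h7).trans (Cfsg.Agent.Lib.Sourour.finrank_span_singleton_le _)) (by norm_num)
  have hAR : R1 (A'.1 - c • 1) := by
    obtain ⟨t, ht⟩ : ∃ t : Fin 4 → F, t = (Q⁻¹).1 *ᵥ (N *ᵥ x0') := ⟨_, rfl⟩
    refine ⟨fun i => t i.succ, fun u => ?_⟩
    have h5 : N *ᵥ (Q.1 *ᵥ Fin.cons 0 u) ∈ LinearMap.range N.mulVecLin := ⟨_, rfl⟩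
    obtain ⟨l, hl⟩ := Submodule.mem_span_range_iff_exists_fun F |>.1 (hrange h5)
    simp only [Fin.sum_univ_two, Matrix.cons_val_zero, Matrix.cons_val_one] at hl
    have h6 : (Q⁻¹).1 *ᵥ (A.1 *ᵥ (Q.1 *ᵥ Fin.cons 0 u) - c • (Q.1 *ᵥ Fin.cons 0 u)) =
        blk c y 0 A'.1 *ᵥ Fin.cons 0 u - c • Fin.cons 0 u := by
      rw [mulVec_sub, mulVec_smul, mulVec_mulVec _ A.1, hAQ, ← mulVec_mulVec, mulVec_mulVec _ (Q⁻¹).1 Q.1,
        mulVec_mulVec _ (Q⁻¹).1 Q.1, Units.inv_mul, one_mulVec, one_mulVec]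
    rw [show A.1 *ᵥ (Q.1 *ᵥ Fin.cons 0 u) - c • (Q.1 *ᵥ Fin.cons 0 u) = c • (N *ᵥ (Q.1 *ᵥ Fin.cons 0 u)) by
      rw [hAN, smul_mulVec, add_mulVec, one_mulVec, smul_add, add_sub_cancel_left], ← hl, ← hQ0, mulVec_smul,
      mulVec_add, mulVec_smul, mulVec_smul, ← ht, mulVec_mulVec (Pi.single (0 : Fin 4) (1 : F)) (Q⁻¹).1 Q.1,
      Units.inv_mul, one_mulVec,
      blk_mulVec] at h6
    refine ⟨c * l 1, funext fun i => ?_⟩
    have h7 := congrFun h6 i.succ
    simp [Fin.succ_ne_zero] at h7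
    simp [sub_mulVec, smul_mulVec, ← h7]
    ring
  obtain ⟨u1, v1, huv⟩ := R1.exists_vecMulVec hAR
  have hA'f : A'.1 = c • (1 + vecMulVec (c⁻¹ • u1) v1) :=
    sub_smul_one hc (by rw [huv, smul_smul, mul_inv_cancel₀ hc, one_smul])
  have hvu : v1 ⬝ᵥ (c⁻¹ • u1) = 0 := by
    have h5 := det_pseudo hA'f
    rw [hd1] at h5
    have := mul_left_cancel₀ (pow_ne_zero 3 hc) (h5.symm.trans (mul_one _).symm)
    linear_combination this
  have hu1 : c⁻¹ • u1 ≠ 0 := fun e => hne (by rw [hA'f, e, zero_vecMulVec, add_zero])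
  have hv1' : v1 ≠ 0 := fun e => hne (by rw [hA'f, e, vecMulVec_zero, add_zero])
  exact ⟨Q, y, A', c⁻¹ • u1, v1, hAQ, hd1, hA'f, hvu, hu1, hv1'⟩

/-- The core: the target is given far from the exceptions. -/
theorem j2_core [Fintype F] (h4 : 4 ≤ Fintype.card F) (h2 : (2 : F) ≠ 0) {A g : GL (Fin 4) F} {c : F}
    (hA : (A.1 - c • 1) * (A.1 - c • 1) = 0) (hr : 2 ≤ Module.finrank F (LinearMap.range (A.1 - c • 1).mulVecLin))
    (hdA : GeneralLinearGroup.det A = 1) (hdet : GeneralLinearGroup.det g = 1) (hg : ∀ k : F, g.1 ≠ k • 1)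
    (hG2 : (g.1 - 1) * (g.1 - 1) ≠ 0) (hGμ : ∀ μ : F, μ ≠ 1 → μ ^ 3 = 1 → ¬R1 (g.1 - μ • 1)) :
    One ⊥ A 4 g := by
  classical
  have h4F := four_of_fintype h4
  have hc : c ≠ 0 := by
    rintro rfl
    rw [zero_smul, sub_zero] at hA
    exact GeneralLinearGroup.det_ne_zero A (mul_self_eq_zero.1 (by rw [← det_mul, hA]; exact det_zero))
  set N : Matrix (Fin 4) (Fin 4) F := c⁻¹ • (A.1 - c • 1) with hN
  have hAN : A.1 = c • (1 + N) := by
    rw [hN, smul_add, smul_smul, mul_inv_cancel₀ hc, one_smul, add_sub_cancel]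
  have hNN : N * N = 0 := by rw [hN, Matrix.smul_mul, Matrix.mul_smul, hA, smul_zero, smul_zero]
  have hNr : 2 ≤ Module.finrank F (LinearMap.range N.mulVecLin) := by
    refine le_trans hr (Submodule.finrank_mono ?_)
    rintro _ ⟨w, rfl⟩
    exact ⟨c • w, by simp [hN, smul_mulVec, mulVec_smul, smul_smul, hc]⟩
  obtain ⟨v0, x0', hind0, hrange⟩ := j2_basis hNN hNr
  obtain ⟨P0, hP0⟩ := extend_cols (le_refl 4) ![v0, x0', N *ᵥ v0, N *ᵥ x0'] hind0
  have hP0' : ∀ i, P0.1 *ᵥ Pi.single i 1 = ![v0, x0', N *ᵥ v0, N *ᵥ x0'] i := fun i => hP0 i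
  have hκ : P0.1.det ≠ 0 := GeneralLinearGroup.det_ne_zero P0
  set G := g.1 - 1 with hG
  obtain ⟨v, hv1, hv2⟩ := j2_vec hg hG2
  have hv0 : v ≠ 0 := fun e => hv2 (by rw [e, mulVec_zero, mulVec_zero])
  obtain ⟨r1, hr1⟩ : ∃ r1, r1 = G *ᵥ v := ⟨_, rfl⟩
  rw [← hG, ← hr1] at hv1 hv2
  obtain ⟨r2, h3ind, hGr2, hr3, hr4⟩ := j2_second h4F hdet hG hG2 hGμ hv0 hv1
  obtain ⟨k, x, hk, hdx, hli⟩ := j2_third h4 (κ := P0.1.det) hr1 h3ind hv2 hGr2 hr3
  -- the first factor
  obtain ⟨PX, hPX⟩ := exists_GL (S := cols v x r1 (k • r2)) (by rw [hdx]; exact hκ)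
  set S := PX * P0⁻¹ with hS
  have hSd : GeneralLinearGroup.det S = 1 := Units.ext (by
    rw [hS, map_mul, map_inv, Units.val_mul, det_val PX, hPX, hdx, ← det_val, ← Units.val_mul, mul_inv_cancel])
  set B := S * A * S⁻¹ with hB
  set N' := S.1 * N * (S⁻¹).1 with hN'
  have hBN : B.1 = c • (1 + N') := by
    rw [hB, Units.val_mul, Units.val_mul, hAN, hN', Matrix.mul_smul, Matrix.smul_mul, mul_add, add_mul, mul_one,
      Units.mul_inv]
  have hN'N : N' * N' = 0 := by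
    simp only [hN', Matrix.mul_assoc]
    rw [← Matrix.mul_assoc (S⁻¹).1 S.1, Units.inv_mul, Matrix.one_mul, ← Matrix.mul_assoc N N, hNN]
    simp
  have hcol : ∀ i, S.1 *ᵥ ![v0, x0', N *ᵥ v0, N *ᵥ x0'] i = ![v, x, r1, k • r2] i := fun i => by
    rw [← hP0' i, mulVec_mulVec, hS, Units.val_mul, Matrix.mul_assoc, Units.inv_mul, Matrix.mul_one, hPX,
      mulVec_single_one]
    rfl
  have hN'S : ∀ w, N' *ᵥ (S.1 *ᵥ w) = S.1 *ᵥ (N *ᵥ w) := fun w => by
    rw [hN', mulVec_mulVec, mulVec_mulVec, Matrix.mul_assoc, Units.inv_mul, Matrix.mul_one]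
  have hNNv : ∀ w, N *ᵥ (N *ᵥ w) = 0 := fun w => by rw [mulVec_mulVec, hNN, zero_mulVec]
  have e1 : N' *ᵥ v = r1 := by
    have := hN'S v0; rwa [show S.1 *ᵥ v0 = v from hcol 0, show S.1 *ᵥ (N *ᵥ v0) = r1 from hcol 2] at this
  have e2 : N' *ᵥ x = k • r2 := by
    have := hN'S x0'; rwa [show S.1 *ᵥ x0' = x from hcol 1, show S.1 *ᵥ (N *ᵥ x0') = k • r2 from hcol 3] at this
  have e3 : N' *ᵥ r1 = 0 := by
    have := hN'S (N *ᵥ v0); rwa [hNNv, mulVec_zero, show S.1 *ᵥ (N *ᵥ v0) = r1 from hcol 2] at this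
  have e4 : N' *ᵥ (k • r2) = 0 := by
    have := hN'S (N *ᵥ x0'); rwa [hNNv, mulVec_zero, show S.1 *ᵥ (N *ᵥ x0') = k • r2 from hcol 3] at this
  have e4' : N' *ᵥ r2 = 0 := by
    rw [mulVec_smul, smul_eq_zero] at e4; exact e4.resolve_left hk
  set h := B⁻¹ * g with hh
  have hch : ∀ w, c • (h.1 *ᵥ w) = g.1 *ᵥ w - N' *ᵥ (g.1 *ᵥ w) := by
    intro w
    have h5 : B.1 *ᵥ (h.1 *ᵥ w) = g.1 *ᵥ w := by
      rw [hh, mulVec_mulVec, ← Units.val_mul, mul_inv_cancel_left]
    rw [hBN, smul_mulVec, ← mulVec_smul] at h5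
    have h6 := congrArg ((1 - N') *ᵥ ·) h5
    simp only [mulVec_mulVec, mul_add, mul_one, sub_mul, one_mul, hN'N, sub_zero, sub_add_cancel] at h6
    rw [one_mulVec] at h6
    rw [h6, sub_mulVec, ← mulVec_mulVec]
  have hgw : ∀ w, g.1 *ᵥ w = w + G *ᵥ w := fun w => by rw [hG, sub_mulVec, one_mulVec, add_sub_cancel]
  have hc4 : c ^ 4 = 1 := by
    have hnil : N.charpoly = Polynomial.X ^ 4 := by
      have h5 := (Matrix.isNilpotent_charpoly_sub_pow_of_isNilpotent (M := N) ⟨2, by rw [sq, hNN]⟩).eq_zero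
      rwa [sub_eq_zero, Fintype.card_fin] at h5
    have h5 : (1 + N).det = 1 := by
      have h6 := Matrix.eval_charpoly N (-1)
      rw [hnil, eval_pow, eval_X, show Matrix.scalar (Fin 4) (-1 : F) - N = -(1 + N) by
        rw [map_neg, map_one]; abel, Matrix.det_neg] at h6
      simpa [Fintype.card_fin] using h6.symm
    have h6 := congrArg Matrix.det hAN
    rw [det_smul, h5, mul_one, ← det_val, hdA, Units.val_one, Fintype.card_fin] at h6
    exact h6.symm
  have hhv : h.1 *ᵥ v = c ^ 3 • v := by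
    have h5 := hch v
    rw [hgw, mulVec_add, e1, ← hr1, e3, add_zero, add_sub_cancel_right] at h5
    have h6 := congrArg (c ^ 3 • ·) h5
    simp only [smul_smul, ← pow_succ, hc4, one_smul] at h6
    rw [h6]
  obtain ⟨Q', r, M, hQ', hhQ⟩ := exists_quot (A := h) hv0 hhv
  obtain ⟨Q, y, A', u1, v1, hAQ, hd1, hA'f, hvu, hu1, hv1'⟩ :=
    j2_class hc hAN hNN hr hdA hc4 (hind0.ne_zero 2) hrange
  have hdM : GeneralLinearGroup.det M = GeneralLinearGroup.det A' ^ 3 := by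
    refine Units.ext ?_
    rw [det_val, Units.val_pow_eq_pow_val, det_val, hd1]
    have h5 := congrArg Matrix.det hhQ
    have hdh : h.1.det = 1 := by
      rw [← det_val, hh, map_mul, map_inv, hB, map_mul, map_mul, map_inv, hdA, hdet]; simp
    rw [det_mul, det_mul, det_blk_upper, hdh, one_mul] at h5
    have h6 := mul_left_cancel₀ (GeneralLinearGroup.det_ne_zero Q') ((mul_one _).trans h5)
    calc M.1.det = c ^ 4 * (c ^ 3 * M.1.det) / c ^ 3 := by rw [hc4, one_mul, mul_div_cancel_left₀ _ (pow_ne_zero 3 hc)]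
      _ = c ^ 4 * c ^ 4 * c := by rw [← h6]; field_simp; linear_combination (-c ^ 4 - 1) * hc4
      _ = (c ^ 3) ^ 3 := by ring
  -- the three images
  have himg : ∀ w, c • (h.1 *ᵥ w) - w = (1 - N') *ᵥ (G *ᵥ w - N' *ᵥ w) := fun w => by
    rw [hch, hgw, mulVec_add N', sub_mulVec 1 N', one_mulVec, mulVec_sub N', mulVec_mulVec w N' N', hN'N,
      zero_mulVec, sub_zero]
    abel
  obtain ⟨Z, hZ⟩ := exists_GL (S := 1 - N') (by
    intro e
    obtain ⟨z, hz0, hz⟩ := Matrix.exists_mulVec_eq_zero_iff.2 e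
    rw [sub_mulVec, one_mulVec, sub_eq_zero] at hz
    refine hz0 ?_
    rw [hz, hz, mulVec_mulVec, hN'N, zero_mulVec])
  have h3 : 3 ≤ Module.finrank F (LinearMap.range (h.1 - c⁻¹ • 1).mulVecLin) := by
    have hin : ∀ w, Z.1 *ᵥ (G *ᵥ w - N' *ᵥ w) ∈ LinearMap.range (h.1 - c⁻¹ • 1).mulVecLin := fun w =>
      ⟨c • w, by rw [Matrix.mulVecLin_apply, sub_mulVec, smul_mulVec, one_mulVec, mulVec_smul, smul_smul,
        inv_mul_cancel₀ hc, one_smul, himg, hZ]⟩
    have hle : Submodule.span F (Set.range (Z.1.mulVecLin ∘ ![G *ᵥ r1, G *ᵥ r2, G *ᵥ x - k • r2])) ≤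
        LinearMap.range (h.1 - c⁻¹ • 1).mulVecLin := by
      rw [Submodule.span_le]
      rintro _ ⟨i, rfl⟩
      fin_cases i
      · simpa [e3] using hin r1
      · simpa [e4'] using hin r2
      · simpa [e2] using hin x
    have h5 := Submodule.finrank_mono hle
    rwa [finrank_span_eq_card (hli.map' _ (LinearMap.ker_eq_bot.2 fun a b hab => by
      have := congrArg ((Z⁻¹).1 *ᵥ ·) hab
      simpa [mulVec_mulVec] using this)), Fintype.card_fin] at h5
  have hc3 : (c ^ 3 * (1 + v1 ⬝ᵥ (u1)))⁻¹ = c := by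
    rw [hvu, add_zero, mul_one]
    field_simp
    linear_combination -hc4
  have hgood : Good (((c ^ 3 * (1 + v1 ⬝ᵥ (u1)))⁻¹) • M.1) := by
    rw [hc3]
    refine ⟨fun μ hμ => ?_, fun hR' => ?_⟩
    · have hM : M.1 = (c⁻¹ * μ) • 1 := by
        rw [← smul_smul, ← hμ, smul_smul, inv_mul_cancel₀ hc, one_smul]
      have hμ3 : μ ^ 3 = 1 := by
        have h5 := congrArg Units.val hdM
        rw [det_val, Units.val_pow_eq_pow_val, det_val, hd1, hM, det_smul, det_one, mul_one, Fintype.card_fin] at h5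
        field_simp at h5
        linear_combination h5 + (c ^ 8 + c ^ 4 + 1) * hc4
      have h5 := quot_range hhQ (c := c⁻¹ * μ) (r := 0) fun u => ⟨0, by rw [hM]; simp⟩
      by_cases hμ1 : μ = 1
      · rw [hμ1, mul_one] at h5
        have h6 := Submodule.finrank_mono h5
        have h7 : Module.finrank F (Submodule.span F (Set.range ![Q'.1 *ᵥ Pi.single 0 1,
            Q'.1 *ᵥ Fin.cons (0 : F) (0 : Fin 3 → F)])) ≤ 2 :=
          (finrank_range_le_card ![Q'.1 *ᵥ Pi.single 0 1, Q'.1 *ᵥ Fin.cons (0 : F) (0 : Fin 3 → F)]).trans (by simp)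
        exact absurd ((h3.trans h6).trans h7) (by norm_num)
      have hline : ∀ w, N' *ᵥ w = 0 → ∃ e : F, (g.1 - μ • 1) *ᵥ w = e • (v + r1) := by
        intro w hw
        obtain ⟨l, hl⟩ := Submodule.mem_span_range_iff_exists_fun F |>.1 (h5 ⟨w, rfl⟩)
        rw [show (Fin.cons (0 : F) (0 : Fin 3 → F) : Fin 4 → F) = 0 by
          funext i; induction i using Fin.cases <;> simp, mulVec_zero, hQ'] at hl
        simp [Fin.sum_univ_two] at hl
        refine ⟨c * l 0, ?_⟩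
        have hBh : c • ((1 + N') *ᵥ (h.1 *ᵥ w)) = g.1 *ᵥ w := by
          rw [← smul_mulVec, ← hBN, hh, mulVec_mulVec, ← Units.val_mul, mul_inv_cancel_left]
        have h6 := congrArg (fun z => c • ((1 + N') *ᵥ z)) hl
        simp only [sub_mulVec, smul_mulVec, one_mulVec, mulVec_smul, mulVec_sub] at h6 ⊢
        rw [smul_sub, hBh, add_mulVec, add_mulVec, one_mulVec, one_mulVec, e1, hw, add_zero, smul_smul, smul_smul,
          ← mul_assoc, mul_inv_cancel₀ hc, one_mul] at h6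
        exact h6.symm
      obtain ⟨e, he⟩ := hline r1 e3
      obtain ⟨e', he'⟩ := hline r2 e4'
      exact hr4 μ hμ1 hμ3 ⟨e, he⟩ e' he' 
    · obtain ⟨t, ht⟩ := hR'
      have h5 := quot_range hhQ (c := c⁻¹) (r := c⁻¹ • t) fun u => by
        obtain ⟨e, he⟩ := ht u
        refine ⟨e, ?_⟩
        rw [show M.1 - c⁻¹ • 1 = c⁻¹ • (c • M.1 - 1) by rw [smul_sub, smul_smul, inv_mul_cancel₀ hc, one_smul],
          smul_mulVec, he, smul_comm]
      have h6 := Submodule.finrank_mono h5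
      have h7 : Module.finrank F (Submodule.span F (Set.range ![Q'.1 *ᵥ Pi.single 0 1,
          Q'.1 *ᵥ Fin.cons 0 (c⁻¹ • t)])) ≤ 2 :=
        (finrank_range_le_card ![Q'.1 *ᵥ Pi.single 0 1, Q'.1 *ᵥ Fin.cons 0 (c⁻¹ • t)]).trans (by simp)
      exact absurd ((h3.trans h6).trans h7) (by norm_num)
  have hNF := (pseudo_good h4 (le_refl 3) hu1 hv1' hA'f hdM hgood).2 hvu
  refine (peel hAQ (by norm_num) (g := g) (B := B) (P := Q') ⟨S, Subgroup.mem_bot.2 hSd, rfl⟩ (r := r) (M := M) ?_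
    (fun e he => ?_) hNF).2
  · rw [Units.val_mul, Units.val_mul, Matrix.mul_assoc, ← hh, hhQ, ← Matrix.mul_assoc, Units.inv_mul, Matrix.one_mul]
  · have h5 := congrArg (Q'.1 *ᵥ ·) he
    simp only [mulVec_smul, hQ', Units.val_mul, mulVec_mulVec, ← Matrix.mul_assoc, Units.mul_inv,
      Matrix.one_mul] at h5
    rw [← mulVec_mulVec, hQ', hBN, smul_mulVec, add_mulVec, one_mulVec, e1, smul_add] at h5
    have h6 : (c - e) • v + c • r1 = 0 := by rw [sub_smul, ← sub_eq_zero.2 h5]; abel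
    have hind2 := pair_indep hv0 hv1
    exact hc (LinearIndependent.pair_iff.1 hind2 _ _ h6).2

/-- The result. -/
theorem j2_exact [Fintype F] (h4 : 4 ≤ Fintype.card F) {A g : GL (Fin 4) F} {c : F}
    (hA : (A.1 - c • 1) * (A.1 - c • 1) = 0) (hnp : NonPseudo A.1) (hdA : GeneralLinearGroup.det A = 1)
    (hdet : GeneralLinearGroup.det g = 1) (hg : ∀ k : F, g.1 ≠ k • 1) :
    ∃ g' : GL (Fin 4) F, (g'.1 = g.1 ∨ g'.1 = -g.1) ∧ One ⊥ A 4 g' := by
  by_cases h2 : (2 : F) = 0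
  · have hq : A.1 * A.1 = (c + c) • A.1 - (c * c) • 1 := by
      have := hA
      simp only [sub_mul, mul_sub, Matrix.smul_mul, Matrix.mul_smul, one_mul, mul_one, smul_smul, smul_sub] at this
      rw [← sub_eq_zero, ← this, add_smul]
      abel
    exact ⟨g, Or.inl rfl, One.of_full (full_of_pow A (fourth_powers h2) ⊥)
      (four_quad h4 hq hnp (by rw [hdet, hdA, one_pow]) (Or.inl hg)).1⟩
  · obtain ⟨g', h1, h3, h5, h6, h7⟩ := j2_target h2 g hdet hg
    exact ⟨g', h1, j2_core h4 h2 hA (not_R1.1 (hnp c)) hdA h3 h5 h6 h7⟩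

end Cfsg.Agent.Lib.LevCover
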