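import Cfsg.Agent.Lib.LevCover.Basic
import Cfsg.Agent.Lib.LevCover.Glue
import Cfsg.Agent.Lib.Sourour.Vec
import Cfsg.Agent.Lib.Sourour.Blk

/-!
Triangular matrices with a contiguous diagonal and a nonzero superdiagonal.
-/

set_option autoImplicit false

namespace Cfsg.Agent.Lib.LevCover

open Matrix Polynomial
open Cfsg.Agent.Lib.Sourour (blk blk_mul blk_mulVec blk_one blk_00 blk_0s blk_s0 blk_ss eq_blk det_blk_upper
  cons_tail_eq exists_dot)

variable {F : Type*} [Field F] {n : ℕ}

/-- Equal values form an interval. -/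
def Contig (l : Fin n → F) : Prop := ∀ i j k : Fin n, i ≤ j → j ≤ k → l i = l k → l j = l i

/-- The bidiagonal matrix. -/
def bd (l : Fin n → F) (v : ℕ → F) : Matrix (Fin n) (Fin n) F :=
  Matrix.of fun i j => if i = j then l i else if i.val + 1 = j.val then v i.val else 0

theorem bd_lower (l : Fin n → F) (v : ℕ → F) : ∀ i j : Fin n, j < i → bd l v i j = 0 := by
  intro i j h
  have h' := Fin.lt_def.1 h
  simp [bd, (ne_of_lt h).symm, show ¬(i.val + 1 = j.val) by omega]

theorem Contig.inv {l : Fin n → F} (h : Contig l) : Contig fun i => (l i)⁻¹ :=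
  fun i j k h1 h2 e => by simp only at e ⊢; rw [h i j k h1 h2 (inv_injective e)]

theorem Contig.succ {l : Fin (n + 1) → F} (h : Contig l) : Contig fun i : Fin n => l i.succ :=
  fun i j k h1 h2 e => h _ _ _ (Fin.succ_le_succ_iff.2 h1) (Fin.succ_le_succ_iff.2 h2) e

theorem Contig.head {l : Fin (n + 2) → F} (h : Contig l) {i : Fin (n + 1)} (e : l i.succ = l 0) :
    l (0 : Fin (n + 1)).succ = l 0 :=
  h 0 _ _ (Fin.zero_le _) (Fin.succ_le_succ_iff.2 (Fin.zero_le _)) e.symm

/-- The only possible top of an eigenvector is the first position of its value. -/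
theorem upper_eig {N : Matrix (Fin n) (Fin n) F} {l : Fin n → F} (hz : ∀ i j, j < i → N i j = 0)
    (hd : ∀ i, N i i = l i) (hc : Contig l) (hs : ∀ i j : Fin n, i.val + 1 = j.val → l i = l j → N i j ≠ 0)
    {μ : F} {u : Fin n → F} (hu : N *ᵥ u = μ • u) (hne : u ≠ 0) :
    ∃ p : Fin n, l p = μ ∧ (∀ i, i < p → l i ≠ μ) ∧ u p ≠ 0 := by
  classical
  obtain ⟨k, hk, hmax⟩ : ∃ k, u k ≠ 0 ∧ ∀ j, k < j → u j = 0 := by
    obtain ⟨i, hi⟩ := Function.ne_iff.1 hne
    obtain ⟨k, hk, hmax⟩ := (Finset.univ.filter fun j => u j ≠ 0).exists_max_image id ⟨i, by simpa using hi⟩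
    refine ⟨k, by simpa using hk, fun j hj => by_contra fun h => ?_⟩
    exact absurd (hmax j (by simpa using h)) (not_le.2 hj)
  have hrow : ∀ i : Fin n, (N *ᵥ u) i = μ * u i := fun i => by rw [hu]; rfl
  have hkk : l k = μ := by
    have h := hrow k
    rw [Matrix.mulVec, dotProduct, Finset.sum_eq_single k] at h
    · rw [hd] at h; exact mul_right_cancel₀ hk h
    · intro j _ hj
      rcases lt_or_gt_of_ne hj with h' | h'
      · rw [hz k j h', zero_mul]
      · rw [hmax j h', mul_zero]
    · simp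
  refine ⟨k, hkk, fun i hi hl => ?_, hk⟩
  have hik := Fin.lt_def.1 hi
  set j : Fin n := ⟨k.val - 1, by omega⟩ with hj
  have hjk : j.val + 1 = k.val := by simp [hj]; omega
  have hlj : l j = μ := by
    rw [← hl]; exact hc i j k (Fin.le_def.2 (by simp [hj]; omega)) (Fin.le_def.2 (by simp [hj])) (by rw [hl, hkk])
  have h := hrow j
  have hne' : j ≠ k := fun e => by rw [e] at hjk; omega
  rw [Matrix.mulVec, dotProduct, Finset.sum_eq_add j k hne', hd, hlj, add_eq_left, mul_eq_zero] at h
  · exact h.elim (hs j k hjk (by rw [hlj, hkk])) hk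
  · intro t _ ht
    rcases lt_or_gt_of_ne ht.1 with h' | h'
    · rw [hz j t h', zero_mul]
    · have h2 := Fin.lt_def.1 h'
      have h3 : t.val ≠ k.val := fun e => ht.2 (Fin.ext e)
      rw [hmax t (Fin.lt_def.2 (by omega)), mul_zero]
  · simp
  · simp

/-- All eigenspaces are lines. -/
theorem kerLine_upper {N : Matrix (Fin n) (Fin n) F} {l : Fin n → F} (hz : ∀ i j, j < i → N i j = 0)
    (hd : ∀ i, N i i = l i) (hc : Contig l) (hs : ∀ i j : Fin n, i.val + 1 = j.val → l i = l j → N i j ≠ 0) :
    KerLine N := by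
  intro μ u w hu hNu hNw
  obtain ⟨p, hp, hpmin, hup⟩ := upper_eig hz hd hc hs hNu hu
  refine ⟨w p / u p, sub_eq_zero.1 (by_contra fun hne => ?_)⟩
  obtain ⟨p', hp', hpmin', hzp⟩ := upper_eig hz hd hc hs (u := w - (w p / u p) • u) (μ := μ)
    (by rw [mulVec_sub, mulVec_smul, hNu, hNw, smul_sub, smul_comm]) hne
  rcases lt_trichotomy p' p with h | h | h
  · exact hpmin p' h hp'
  · subst h
    simp [div_mul_cancel₀ _ hup] at hzp
  · exact hpmin' p h hp

theorem cyc_upper {N : Matrix (Fin n) (Fin n) F} {l : Fin n → F} (hz : ∀ i j, j < i → N i j = 0)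
    (hd : ∀ i, N i i = l i) (hc : Contig l) (hs : ∀ i j : Fin n, i.val + 1 = j.val → l i = l j → N i j ≠ 0) :
    ∃ v, Cyc N v :=
  exists_cyc_of_ker n N hz (kerLine_upper hz hd hc hs)

theorem charpoly_upper {N : Matrix (Fin n) (Fin n) F} {l : Fin n → F} (hz : ∀ i j, j < i → N i j = 0)
    (hd : ∀ i, N i i = l i) : N.charpoly = ∏ i, (X - C (l i)) := by
  rw [Matrix.charpoly_of_isUpperTriangular N (fun i j h => hz i j h)]
  exact Finset.prod_congr rfl fun i _ => by rw [hd]

/-- An upper unitriangular matrix removes everything above the superdiagonal. -/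
theorem upper_bd : ∀ (n : ℕ) (N : Matrix (Fin n) (Fin n) F) (l : Fin n → F) (v : ℕ → F),
    (∀ i j, j < i → N i j = 0) → (∀ i, N i i = l i) → Contig l →
    (∀ i j : Fin n, i.val + 1 = j.val → N i j = v i.val) → (∀ k, k + 1 < n → v k ≠ 0) →
    ∃ Y : Matrix (Fin n) (Fin n) F, (∀ i j, j < i → Y i j = 0) ∧ (∀ i, Y i i = 1) ∧ Y * N = bd l v * Y := by
  intro n
  induction n with
  | zero => exact fun N l v _ _ _ _ _ => ⟨1, fun i => i.elim0, fun i => i.elim0, Subsingleton.elim _ _⟩
  | succ n ih =>
    intro N l v hz hd hc hv hv0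
    obtain ⟨Y', hY'z, hY'd, hY'⟩ := ih (Matrix.of fun i j => N i.succ j.succ) (fun i => l i.succ)
      (fun k => v (k + 1)) (fun i j h => hz _ _ (Fin.succ_lt_succ_iff.2 h)) (fun i => hd _) hc.succ
      (fun i j h => hv i.succ j.succ (by simp; omega)) (fun k hk => hv0 _ (by omega))
    set N' : Matrix (Fin n) (Fin n) F := Matrix.of fun i j => N i.succ j.succ with hN'
    set r : Fin n → F := fun j => N 0 j.succ with hr
    set e : Fin n → F := fun j => if j.val = 0 then v 0 else 0 with he
    have hbd : bd l v = blk (l 0) e 0 (bd (fun i => l i.succ) fun k => v (k + 1)) := by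
      ext i j
      induction i using Fin.cases <;> induction j using Fin.cases <;>
        simp [bd, he, Fin.ext_iff, eq_comm]
    have hN : N = blk (l 0) r 0 N' := by
      ext i j
      induction i using Fin.cases <;> induction j using Fin.cases <;>
        simp [hr, hN', hd, hz _ _ (Fin.succ_pos _)]
    set s : Fin n → F := e ᵥ* Y' - r with hs
    -- the system for the first row
    obtain ⟨y, hy⟩ : ∃ y, y ᵥ* (N' - l 0 • 1) = s := by
      by_contra hno
      obtain ⟨w, hw, hws⟩ := exists_dot (S := LinearMap.range (N' - l 0 • 1).vecMulLinear) (z := s) (by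
        rintro ⟨y, hy⟩; exact hno ⟨y, hy⟩)
      have hker : N' *ᵥ w = l 0 • w := by
        rw [← sub_eq_zero, ← one_mulVec (l 0 • w), mulVec_smul, ← smul_mulVec, ← sub_mulVec]
        funext i
        have h := hw _ ⟨Pi.single i 1, rfl⟩
        rw [Matrix.vecMulLinear_apply, dotProduct_comm, ← dotProduct_mulVec] at h
        simpa using h
      by_cases hw0 : w = 0
      · exact hws (by simp [hw0])
      obtain ⟨p, hp, hpmin, hwp⟩ := upper_eig (N := N') (fun i j h => hz _ _ (Fin.succ_lt_succ_iff.2 h))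
        (fun i => hd _) hc.succ (fun i j h _ => by
          rw [hN', Matrix.of_apply, hv i.succ j.succ (by simp; omega)]
          exact hv0 _ (by have := j.isLt; simp; omega)) hker hw0
      obtain ⟨m, rfl⟩ : ∃ m, n = m + 1 := ⟨n - 1, by have := p.isLt; omega⟩
      have h0 : l (0 : Fin (m + 1)).succ = l 0 := hc.head hp
      have hw1 : ∀ i : Fin (m + 1), i ≠ 0 → w i = 0 := by
        intro i hi
        obtain ⟨c, hc'⟩ := kerLine_upper (N := N') (fun i j h => hz _ _ (Fin.succ_lt_succ_iff.2 h))
          (fun i => hd _) hc.succ (fun i j h _ => by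
            rw [hN', Matrix.of_apply, hv i.succ j.succ (by simp; omega)]
            exact hv0 _ (by have := j.isLt; simp; omega))
          (l 0) (Pi.single 0 1) w (by simp) (by
            funext i
            rcases eq_or_ne i 0 with rfl | hi
            · rw [mulVec_single_one, Pi.smul_apply, Pi.single_eq_same, smul_eq_mul, mul_one, ← h0]
              exact hd _
            · rw [mulVec_single_one, Pi.smul_apply, Pi.single_eq_of_ne hi, smul_zero]
              exact hz _ _ (Fin.succ_lt_succ_iff.2 (Fin.pos_iff_ne_zero.2 hi))) hker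
        rw [hc', Pi.smul_apply, Pi.single_eq_of_ne hi, smul_zero]
      refine hws ?_
      rw [dotProduct, Finset.sum_eq_single (0 : Fin (m + 1)) (fun i _ hi => by rw [hw1 i hi, zero_mul]) (by simp)]
      have hs0 : s 0 = 0 := by
        rw [hs, Pi.sub_apply, Matrix.vecMul, dotProduct, Finset.sum_eq_single (0 : Fin (m + 1))]
        · simp [he, hr, hY'd, hv 0 (0 : Fin (m + 1)).succ rfl]
        · intro i _ hi
          have hi' : i.val ≠ 0 := fun e => hi (Fin.ext e)
          simp only [he, if_neg hi', zero_mul]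
        · simp
      rw [hs0, mul_zero]
    refine ⟨blk 1 y 0 Y', ?_, ?_, ?_⟩
    · intro i j h
      induction i using Fin.cases with
      | zero => exact absurd h (Fin.not_lt_zero _)
      | succ i =>
        induction j using Fin.cases with
        | zero => simp
        | succ j => rw [blk_ss]; exact hY'z i j (Fin.succ_lt_succ_iff.1 h)
    · intro i
      induction i using Fin.cases <;> simp [hY'd]
    · rw [hbd]
      conv_lhs => rw [hN]
      rw [blk_mul, blk_mul]
      simp only [vecMulVec_zero, zero_vecMulVec, zero_add, add_zero, mulVec_zero, zero_vecMul, one_mul, mul_one,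
        dotProduct_zero, zero_dotProduct, smul_zero, one_smul, hY']
      congr 1
      rw [vecMul_sub, vecMul_smul, vecMul_one, sub_eq_iff_eq_add] at hy
      rw [hy, hs]
      abel

theorem prod_Ico_pow (v : ℕ → F) : ∀ m : ℕ,
    ∏ i ∈ Finset.range (m + 1), ∏ k ∈ Finset.Ico i m, v k = ∏ k ∈ Finset.range m, v k ^ (k + 1) := by
  intro m
  induction m with
  | zero => simp
  | succ m ih =>
    rw [Finset.prod_range_succ, Finset.Ico_self, Finset.prod_empty, mul_one]
    rw [Finset.prod_congr rfl fun i hi => Finset.prod_Ico_succ_top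
      (Nat.lt_succ_iff.1 (Finset.mem_range.1 hi)) v]
    rw [Finset.prod_mul_distrib, Finset.prod_const, Finset.card_range, ih, Finset.prod_range_succ]

/-- Normal form with the determinant of the conjugator. -/
theorem upper_normal {N : Matrix (Fin n) (Fin n) F} {l : Fin n → F} {v : ℕ → F}
    (hz : ∀ i j, j < i → N i j = 0) (hd : ∀ i, N i i = l i) (hc : Contig l)
    (hv : ∀ i j : Fin n, i.val + 1 = j.val → N i j = v i.val) (hv0 : ∀ k, k + 1 < n → v k ≠ 0) :
    ∃ S : GL (Fin n) F, N * S.1 = S.1 * bd l (fun _ => 1) ∧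
      (GeneralLinearGroup.det S : F) = ∏ k ∈ Finset.range (n - 1), v k ^ (k + 1) := by
  obtain ⟨Y, hYz, hYd, hY⟩ := upper_bd n N l v hz hd hc hv hv0
  have hdY : Y.det = 1 := by
    rw [Matrix.det_of_isUpperTriangular (fun i j h => hYz i j h)]
    simp [hYd]
  set z : ℕ → F := fun i => ∏ k ∈ Finset.Ico i (n - 1), v k with hzdef
  have hz0 : ∀ i, z i ≠ 0 := fun i => Finset.prod_ne_zero_iff.2 fun k hk => hv0 k (by
    have := Finset.mem_Ico.1 hk; omega)
  set Z : Matrix (Fin n) (Fin n) F := Matrix.diagonal fun i : Fin n => z i.val with hZ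
  have hdZ : Z.det = ∏ k ∈ Finset.range (n - 1), v k ^ (k + 1) := by
    rw [hZ, det_diagonal, ← Finset.prod_range (fun i => z i)]
    simp only [hzdef]
    rcases Nat.eq_zero_or_pos n with h | h
    · subst h; simp
    · conv_lhs => rw [show n = n - 1 + 1 by omega]
      simpa using prod_Ico_pow v (n - 1)
  have hbz : bd l v * Z = Z * bd l (fun _ => 1) := by
    ext i j
    rw [hZ, mul_diagonal, diagonal_mul]
    simp only [bd, Matrix.of_apply]
    by_cases h : i = j
    · subst h; simp [mul_comm]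
    rw [if_neg h, if_neg h]
    by_cases h' : i.val + 1 = j.val
    · rw [if_pos h', if_pos h', mul_one]
      simp only [hzdef, ← h']
      rw [← Finset.prod_eq_prod_Ico_succ_bot (by have := j.isLt; omega)]
    · simp [h']
  obtain ⟨Y', hY'⟩ := exists_GL (S := Y) (by rw [hdY]; exact one_ne_zero)
  obtain ⟨Z', hZ'⟩ := exists_GL (S := Z) (by rw [hZ, det_diagonal]; exact Finset.prod_ne_zero_iff.2 fun i _ => hz0 _)
  refine ⟨Y'⁻¹ * Z', ?_, ?_⟩
  · have h1 : N * (Y'⁻¹).1 = (Y'⁻¹).1 * bd l v := by
      have h2 := congrArg (fun M => (Y'⁻¹).1 * M * (Y'⁻¹).1) hY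
      simp only [← hY'] at h2
      rw [← mul_assoc, Units.inv_mul, one_mul, mul_assoc, mul_assoc, Units.mul_inv, mul_one] at h2
      exact h2
    rw [Units.val_mul, ← mul_assoc, h1, mul_assoc, hZ', hbz, mul_assoc]
  · rw [map_mul, map_inv, Units.val_mul]
    have : GeneralLinearGroup.det Y' = 1 := Units.ext (by rw [det_val, hY', hdY]; rfl)
    rw [this, inv_one, Units.val_one, one_mul, det_val, hZ', hdZ]

end Cfsg.Agent.Lib.LevCover
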