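import Cfsg.Agent.Lib.LevCover.Four1

/-!
The scalar target with two independent eigenvectors: peeling a plane.
-/

set_option autoImplicit false

namespace Cfsg.Agent.Lib.LevCover

open Matrix Polynomial
open Cfsg.Agent.Lib.Sourour (blk blk_mul blk_mulVec blk_one blk_00 blk_0s blk_s0 blk_ss eq_blk det_blk_upper
  cons_tail_eq exists_dot R1)

variable {F : Type*} [Field F] {n m : ℕ}

/-- The form with two eigenvectors in front. -/
def blk2 (a1 a2 : F) (r1 r2 : Fin m → F) (M : Matrix (Fin m) (Fin m) F) :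
    Matrix (Fin (m + 1 + 1)) (Fin (m + 1 + 1)) F :=
  blk a1 (Fin.cons 0 r1) 0 (blk a2 r2 0 M)

theorem cons_zero_vecMul (b : F) (r s : Fin m → F) (N : Matrix (Fin m) (Fin m) F) :
    (Fin.cons 0 r : Fin (m + 1) → F) ᵥ* blk b s 0 N = Fin.cons 0 (r ᵥ* N) := by
  funext j
  induction j using Fin.cases <;> simp [Matrix.vecMul, dotProduct, Fin.sum_univ_succ]

theorem blk2_mul (a1 a2 b1 b2 : F) (r1 r2 s1 s2 : Fin m → F) (M N : Matrix (Fin m) (Fin m) F) :
    blk2 a1 a2 r1 r2 M * blk2 b1 b2 s1 s2 N =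
      blk2 (a1 * b1) (a2 * b2) (a1 • s1 + r1 ᵥ* N) (a2 • s2 + r2 ᵥ* N) (M * N) := by
  simp only [blk2, blk_mul, smul_zero, zero_add, mulVec_zero, dotProduct_zero, add_zero, zero_vecMulVec,
    cons_zero_vecMul]
  congr 1
  funext j
  induction j using Fin.cases <;> simp

theorem blk2_one : blk2 1 1 0 0 (1 : Matrix (Fin m) (Fin m) F) = 1 := by
  rw [blk2, blk_one, show (Fin.cons 0 (0 : Fin m → F) : Fin (m + 1) → F) = 0 by
    funext j; induction j using Fin.cases <;> simp, blk_one]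

theorem det_blk2 (a1 a2 : F) (r1 r2 : Fin m → F) (M : Matrix (Fin m) (Fin m) F) :
    (blk2 a1 a2 r1 r2 M).det = a1 * (a2 * M.det) := by
  rw [blk2, det_blk_upper, det_blk_upper]

theorem blk2_tail (a1 a2 : F) (r1 r2 : Fin m → F) (M : Matrix (Fin m) (Fin m) F) (z : Fin (m + 1 + 1) → F)
    (i : Fin m) : (blk2 a1 a2 r1 r2 M *ᵥ z) i.succ.succ = (M *ᵥ fun j => z j.succ.succ) i := by
  simp only [blk2, Matrix.mulVec, dotProduct, Fin.sum_univ_succ (n := m + 1)]
  simp only [blk_s0, blk_ss, Fin.sum_univ_succ (n := m), Pi.zero_apply, zero_mul, zero_add]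

theorem single_tail {i : Fin m} :
    (Pi.single 0 1 : Fin (m + 1 + 1) → F) i.succ.succ = 0 ∧
      (Pi.single (Fin.succ 0) 1 : Fin (m + 1 + 1) → F) i.succ.succ = 0 :=
  ⟨Pi.single_eq_of_ne (Fin.succ_ne_zero _) _,
    Pi.single_eq_of_ne (fun e => Fin.succ_ne_zero _ (Fin.succ_injective _ e)) _⟩

theorem mem_span_pair' {v w x : Fin n → F} :
    x ∈ Submodule.span F (Set.range ![v, w]) ↔ ∃ a b : F, a • v + b • w = x := by
  rw [show Set.range ![v, w] = {v, w} by simp [Set.pair_comm], Submodule.mem_span_pair]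

/-- Two eigenvectors put the matrix in that form. -/
theorem exists_plane {A : GL (Fin (m + 1 + 1)) F} {a1 a2 : F} {v1 v2 : Fin (m + 1 + 1) → F}
    (hind : LinearIndependent F ![v1, v2]) (h1 : A.1 *ᵥ v1 = a1 • v1) (h2 : A.1 *ᵥ v2 = a2 • v2) :
    ∃ (P : GL (Fin (m + 1 + 1)) F) (r1 r2 : Fin m → F) (M : GL (Fin m) F),
      P.1 *ᵥ Pi.single 0 1 = v1 ∧ P.1 *ᵥ Pi.single (Fin.succ 0) 1 = v2 ∧
      A.1 * P.1 = P.1 * blk2 a1 a2 r1 r2 M.1 := by
  obtain ⟨P, hP⟩ := extend_cols (show 2 ≤ m + 1 + 1 by omega) ![v1, v2] hind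
  have e0 : P.1 *ᵥ Pi.single 0 1 = v1 := hP 0
  have e1 : P.1 *ᵥ Pi.single (Fin.succ 0) 1 = v2 := hP 1
  set H := (P⁻¹ * A * P).1 with hH
  have hcol : ∀ (i : Fin (m + 1 + 1)) (c : F) (v : Fin (m + 1 + 1) → F), P.1 *ᵥ Pi.single i 1 = v →
      A.1 *ᵥ v = c • v → ∀ j, H j i = if j = i then c else 0 := by
    intro i c v hv hc j
    have h3 : H *ᵥ Pi.single i 1 = c • Pi.single i 1 := by
      rw [hH, Units.val_mul, Units.val_mul, ← mulVec_mulVec, ← mulVec_mulVec, hv, hc, mulVec_smul, ← hv,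
        mulVec_mulVec, Units.inv_mul, one_mulVec]
    have h4 := congrFun h3 j
    rw [mulVec_single_one, Matrix.col_apply] at h4
    rw [h4]
    simp [Pi.single_apply]
  have hc0 := hcol 0 a1 v1 e0 h1
  have hc1 := hcol (Fin.succ 0) a2 v2 e1 h2
  have hblk : H = blk2 a1 a2 (fun j => H 0 j.succ.succ) (fun j => H (Fin.succ 0) j.succ.succ)
      (Matrix.of fun i j : Fin m => H i.succ.succ j.succ.succ) := by
    ext i j
    induction i using Fin.cases with
    | zero =>
      induction j using Fin.cases with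
      | zero => simp [blk2, hc0]
      | succ j =>
        induction j using Fin.cases with
        | zero => rw [hc1, if_neg (Fin.succ_ne_zero _).symm]; simp only [blk2, blk_00, blk_0s, blk_s0, blk_ss, Fin.cons_zero, Fin.cons_succ, Pi.zero_apply, Matrix.of_apply]
        | succ j => simp only [blk2, blk_00, blk_0s, blk_s0, blk_ss, Fin.cons_zero, Fin.cons_succ, Pi.zero_apply, Matrix.of_apply]
    | succ i =>
      induction j using Fin.cases with
      | zero => simp [blk2, hc0, Fin.succ_ne_zero]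
      | succ j =>
        induction i using Fin.cases with
        | zero =>
          induction j using Fin.cases with
          | zero => rw [hc1, if_pos rfl]; simp only [blk2, blk_00, blk_0s, blk_s0, blk_ss, Fin.cons_zero, Fin.cons_succ, Pi.zero_apply, Matrix.of_apply]
          | succ j => simp only [blk2, blk_00, blk_0s, blk_s0, blk_ss, Fin.cons_zero, Fin.cons_succ, Pi.zero_apply, Matrix.of_apply]
        | succ i =>
          induction j using Fin.cases with
          | zero => rw [hc1, if_neg (fun e => Fin.succ_ne_zero _ (Fin.succ_injective _ e))]; simp only [blk2, blk_00, blk_0s, blk_s0, blk_ss, Fin.cons_zero, Fin.cons_succ, Pi.zero_apply, Matrix.of_apply]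
          | succ j => simp only [blk2, blk_00, blk_0s, blk_s0, blk_ss, Fin.cons_zero, Fin.cons_succ, Pi.zero_apply, Matrix.of_apply]
  obtain ⟨M, hM⟩ := exists_GL (S := Matrix.of fun i j : Fin m => H i.succ.succ j.succ.succ) (fun e => by
    have h3 := congrArg Matrix.det hblk
    rw [det_blk2, e, mul_zero, mul_zero] at h3
    exact GeneralLinearGroup.det_ne_zero (P⁻¹ * A * P) h3)
  refine ⟨P, fun j => H 0 j.succ.succ, fun j => H (Fin.succ 0) j.succ.succ, M, e0, e1, ?_⟩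
  rw [hM, ← hblk, hH, ← Units.val_mul, ← Units.val_mul]
  congr 1
  group

/-- The data of a lift by two. -/
theorem lift_one2 {A Q : GL (Fin (m + 1 + 1)) F} {a1 a2 : F} {x1 x2 : Fin m → F} {A' S : GL (Fin m) F}
    (hA : A.1 * Q.1 = Q.1 * blk2 a1 a2 x1 x2 A'.1) (P : GL (Fin (m + 1 + 1)) F) :
    ∃ ρ1 ρ2 : Fin m → F, ∀ w1 w2 : Fin m → F, ∃ C : GL (Fin (m + 1 + 1)) F,
      C.1 = blk2 a1 a2 (ρ1 + w1 ᵥ* ((S * A' * S⁻¹).1 - a1 • 1)) (ρ2 + w2 ᵥ* ((S * A' * S⁻¹).1 - a2 • 1))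
        (S * A' * S⁻¹).1 ∧ Fac ⊥ A (P * C * P⁻¹) := by
  set t : F := (GeneralLinearGroup.det Q : F) / ((GeneralLinearGroup.det P : F) * (GeneralLinearGroup.det S : F))
    with ht
  have ht0 : t ≠ 0 := div_ne_zero (Units.ne_zero _) (mul_ne_zero (Units.ne_zero _) (Units.ne_zero _))
  refine ⟨t • (x1 ᵥ* (S⁻¹).1), x2 ᵥ* (S⁻¹).1, fun w1 w2 => ?_⟩
  obtain ⟨T, hT⟩ := exists_GL (S := blk2 t 1 (w1 ᵥ* S.1) (w2 ᵥ* S.1) S.1) (by
    rw [det_blk2, one_mul]; exact mul_ne_zero ht0 (GeneralLinearGroup.det_ne_zero S))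
  obtain ⟨C, hC⟩ : ∃ C : GL (Fin (m + 1 + 1)) F, C = T * (Q⁻¹ * A * Q) * T⁻¹ := ⟨_, rfl⟩
  have hQ : (Q⁻¹ * A * Q).1 = blk2 a1 a2 x1 x2 A'.1 := by
    rw [Units.val_mul, Units.val_mul, mul_assoc, hA, ← mul_assoc, Units.inv_mul, one_mul]
  refine ⟨C, ?_, ⟨P * T * Q⁻¹, ?_, by rw [hC]; group⟩⟩
  · have h1 : C.1 * T.1 = T.1 * blk2 a1 a2 x1 x2 A'.1 := by
      rw [hC, ← hQ, ← Units.val_mul, ← Units.val_mul]
      congr 1
      group
    have hSA : (S * A' * S⁻¹).1 * S.1 = S.1 * A'.1 := by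
      rw [← Units.val_mul, ← Units.val_mul]; congr 1; group
    have h2 : blk2 a1 a2 (t • (x1 ᵥ* (S⁻¹).1) + w1 ᵥ* ((S * A' * S⁻¹).1 - a1 • 1))
        (x2 ᵥ* (S⁻¹).1 + w2 ᵥ* ((S * A' * S⁻¹).1 - a2 • 1)) (S * A' * S⁻¹).1 * T.1 =
        T.1 * blk2 a1 a2 x1 x2 A'.1 := by
      have key : ∀ (a c : F) (x w : Fin m → F),
          a • (w ᵥ* S.1) + (c • (x ᵥ* (S⁻¹).1) + w ᵥ* ((S * A' * S⁻¹).1 - a • 1)) ᵥ* S.1 =
            c • x + w ᵥ* S.1 ᵥ* A'.1 := by
        intro a c x w
        rw [add_vecMul, smul_vecMul, vecMul_vecMul x, Units.inv_mul, vecMul_one, vecMul_vecMul w, sub_mul, hSA,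
          smul_mul_assoc, one_mul, vecMul_sub, vecMul_smul, ← vecMul_vecMul]
        abel
      have k2 := key a2 1 x2 w2
      simp only [one_smul] at k2
      rw [hT, blk2_mul, blk2_mul, hSA, key a1 t x1 w1, k2, one_smul, mul_comm a1 t, mul_comm a2 1]
    exact (Units.mul_left_inj T).1 (h1.trans h2.symm)
  · rw [Subgroup.mem_bot]
    refine Units.ext ?_
    rw [map_mul, map_mul, map_inv, Units.val_mul, Units.val_mul, det_val T, hT, det_blk2, ← det_val,
      Units.val_one, ht, Units.val_inv_eq_inv_val, one_mul]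
    field_simp
    exact div_self (mul_ne_zero (mul_ne_zero (Units.ne_zero _) (Units.ne_zero _)) (Units.ne_zero _))

/-- Lifting a list by two. -/
theorem lift_list2 {A Q : GL (Fin (m + 1 + 1)) F} {a1 a2 : F} {x1 x2 : Fin m → F} {A' : GL (Fin m) F}
    (hA : A.1 * Q.1 = Q.1 * blk2 a1 a2 x1 x2 A'.1) (ha1 : a1 ≠ 0) (ha2 : a2 ≠ 0)
    (P : GL (Fin (m + 1 + 1)) F) :
    ∀ l : List (GL (Fin m) F), (∀ B ∈ l, ∃ S : GL (Fin m) F, B = S * A' * S⁻¹) →
      ∃ (r01 r02 : Fin m → F) (I1 I2 : Submodule F (Fin m → F)),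
        (∀ z, (∀ r ∈ I1, r ⬝ᵥ z = 0) → ∀ B ∈ l, B.1 *ᵥ z = a1 • z) ∧
        (∀ z, (∀ r ∈ I2, r ⬝ᵥ z = 0) → ∀ B ∈ l, B.1 *ᵥ z = a2 • z) ∧
        ∀ r1 ∈ I1, ∀ r2 ∈ I2, ∃ L : List (GL (Fin (m + 1 + 1)) F), L.length = l.length ∧
          (∀ C ∈ L, Fac ⊥ A (P * C * P⁻¹)) ∧
          (L.prod).1 = blk2 (a1 ^ l.length) (a2 ^ l.length) (r01 + r1) (r02 + r2) (l.prod).1 := by
  intro l
  induction l with
  | nil =>
    intro _
    refine ⟨0, 0, ⊥, ⊥, fun z _ B hB => by simp at hB, fun z _ B hB => by simp at hB,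
      fun r1 hr1 r2 hr2 => ⟨[], rfl, fun C hC => by simp at hC, ?_⟩⟩
    rw [Submodule.mem_bot] at hr1 hr2
    simp [hr1, hr2, blk2_one]
  | cons B l ih =>
    intro hl
    obtain ⟨S, rfl⟩ := hl B List.mem_cons_self
    obtain ⟨r01, r02, I1, I2, hI1, hI2, hall⟩ := ih fun C hC => hl C (List.mem_cons_of_mem _ hC)
    obtain ⟨ρ1, ρ2, hρ⟩ := lift_one2 hA P (S := S)
    have ann : ∀ (a : F) (I : Submodule F (Fin m → F)), a ≠ 0 →
        (∀ z, (∀ r ∈ I, r ⬝ᵥ z = 0) → ∀ B ∈ l, B.1 *ᵥ z = a • z) →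
        ∀ z, (∀ r ∈ LinearMap.range (((S * A' * S⁻¹).1 - a • 1) * (l.prod).1).vecMulLinear ⊔ I, r ⬝ᵥ z = 0) →
          ∀ C ∈ (S * A' * S⁻¹) :: l, C.1 *ᵥ z = a • z := by
      intro a I ha hI z hz
      set N := ((S * A' * S⁻¹).1 - a • 1) * (l.prod).1 with hN
      have h1 := hI z fun r hr => hz r (Submodule.mem_sup_right hr)
      have h2 : ∀ k : List (GL (Fin m) F), (∀ C ∈ k, C.1 *ᵥ z = a • z) → (k.prod).1 *ᵥ z = a ^ k.length • z := by
        intro k hk
        induction k with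
        | nil => simp
        | cons C k ihk =>
          rw [List.prod_cons, Units.val_mul, ← mulVec_mulVec, ihk fun D hD => hk D (List.mem_cons_of_mem _ hD),
            mulVec_smul, hk C List.mem_cons_self, smul_smul, List.length_cons, pow_succ]
      have h3 : N *ᵥ z = 0 := by
        funext i
        have := hz (Pi.single i 1 ᵥ* N) (Submodule.mem_sup_left ⟨Pi.single i 1, rfl⟩)
        rw [← dotProduct_mulVec] at this
        simpa using this
      rw [hN, ← mulVec_mulVec, h2 l h1, mulVec_smul, smul_eq_zero, or_iff_right (pow_ne_zero _ ha), sub_mulVec,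
        smul_mulVec, one_mulVec, sub_eq_zero] at h3
      intro C hC
      rcases List.mem_cons.1 hC with rfl | hC
      exacts [h3, h1 C hC]
    refine ⟨a1 • r01 + ρ1 ᵥ* (l.prod).1, a2 • r02 + ρ2 ᵥ* (l.prod).1, _, _, ann a1 I1 ha1 hI1, ann a2 I2 ha2 hI2,
      fun r1 hr1 r2 hr2 => ?_⟩
    obtain ⟨p1, ⟨w1, rfl⟩, q1, hq1, rfl⟩ := Submodule.mem_sup.1 hr1
    obtain ⟨p2, ⟨w2, rfl⟩, q2, hq2, rfl⟩ := Submodule.mem_sup.1 hr2
    obtain ⟨L, hL1, hL2, hL3⟩ := hall (a1⁻¹ • q1) (I1.smul_mem _ hq1) (a2⁻¹ • q2) (I2.smul_mem _ hq2)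
    obtain ⟨C, hC, hCf⟩ := hρ w1 w2
    refine ⟨C :: L, by simp [hL1], fun D hD => ?_, ?_⟩
    · rcases List.mem_cons.1 hD with rfl | hD
      exacts [hCf, hL2 D hD]
    · rw [List.prod_cons, Units.val_mul, hC, hL3, blk2_mul, List.prod_cons, Units.val_mul, List.length_cons]
      simp only [pow_succ', Matrix.vecMulLinear_apply, add_vecMul, smul_add, smul_smul, mul_inv_cancel₀ ha1,
        mul_inv_cancel₀ ha2, one_smul, ← vecMul_vecMul]
      congr 1 <;> abel

/-- Four independent vectors out of two and their images. -/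
theorem two_vectors (hn : 5 ≤ n) {A : Matrix (Fin n) (Fin n) F} (hA : NonPseudo A) :
    ∃ w1 w2 : Fin n → F, LinearIndependent F ![w1, w2, A *ᵥ w1, A *ᵥ w2] := by
  classical
  set R : F → Submodule F (Fin n → F) := fun c => LinearMap.range (A - c • 1).mulVecLin with hR
  obtain ⟨w1, hw0, hw1, hgood⟩ : ∃ w1 : Fin n → F, w1 ≠ 0 ∧ (∀ c : F, A *ᵥ w1 ≠ c • w1) ∧
      ∀ c : F, Module.finrank F (R c) ≤ 2 → w1 ∉ R c := by
    obtain ⟨u, hu0, hu⟩ := exists_not_eig hA.not_scalar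
    by_cases hc : ∃ c : F, Module.finrank F (R c) ≤ 2
    · obtain ⟨c, hc⟩ := hc
      have huniq : ∀ d : F, Module.finrank F (R d) ≤ 2 → d = c := by
        intro d hd
        by_contra hne
        have h1 : ⊤ ≤ R d ⊔ R c := by
          intro x _
          have e : (c - d) • x = (A - d • 1) *ᵥ x - (A - c • 1) *ᵥ x := by
            simp only [sub_mulVec, smul_mulVec, one_mulVec]; module
          have h2 : (c - d) • x ∈ R d ⊔ R c := by
            rw [e]
            exact Submodule.sub_mem _ (Submodule.mem_sup_left ⟨x, rfl⟩) (Submodule.mem_sup_right ⟨x, rfl⟩)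
          exact (Submodule.smul_mem_iff _ (sub_ne_zero.2 (Ne.symm hne))).1 h2
        have h2 := (Submodule.finrank_mono h1).trans (Submodule.finrank_add_le_finrank_add_finrank (R d) (R c))
        rw [finrank_top, Module.finrank_fin_fun] at h2
        omega
      by_cases huR : u ∈ R c
      · obtain ⟨y, hy⟩ : ∃ y, y ∉ R c := by
          by_contra hno
          push Not at hno
          rw [Submodule.eq_top_iff'.2 hno, finrank_top, Module.finrank_fin_fun] at hc
          omega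
        by_cases hyE : ∀ d : F, A *ᵥ y ≠ d • y
        · exact ⟨y, fun e => hy (e ▸ Submodule.zero_mem _), hyE, fun d hd => huniq d hd ▸ hy⟩
        push Not at hyE
        obtain ⟨d, hd⟩ := hyE
        have hyu : u + y ∉ R c := fun h => hy (by simpa using (R c).sub_mem h huR)
        refine ⟨u + y, fun e => hyu (e ▸ Submodule.zero_mem _), fun e he => ?_, fun d hd => huniq d hd ▸ hyu⟩
        have hAu : A *ᵥ u ∈ R c := by
          obtain ⟨z, rfl⟩ := huR
          refine ⟨A *ᵥ z, ?_⟩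
          simp only [Matrix.mulVecLin_apply, sub_mulVec, smul_mulVec, one_mulVec, mulVec_sub, mulVec_smul]
        rw [mulVec_add, hd] at he
        have h1 : A *ᵥ u - e • u = (e - d) • y := by rw [eq_sub_of_add_eq he]; module
        rcases eq_or_ne e d with rfl | hed
        · rw [sub_self, zero_smul, sub_eq_zero] at h1; exact hu e h1
        · refine hy ((Submodule.smul_mem_iff _ (sub_ne_zero.2 hed)).1 ?_)
          rw [← h1]; exact Submodule.sub_mem _ hAu (Submodule.smul_mem _ _ huR)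
      · exact ⟨u, hu0, hu, fun d hd => huniq d hd ▸ huR⟩
    · exact ⟨u, hu0, hu, fun c h => absurd ⟨c, h⟩ hc⟩
  set W := Submodule.span F (Set.range ![w1, A *ᵥ w1]) with hW
  have hWd : Module.finrank F W ≤ 2 := (finrank_range_le_card ![w1, A *ᵥ w1]).trans (by simp)
  obtain ⟨w2, hw2⟩ : ∃ w2, ∀ α β : F, α • w2 + β • (A *ᵥ w2) ∈ W → α = 0 ∧ β = 0 := by
    by_contra hno
    push Not at hno
    have hdep : ∀ w, w ∉ W → ∃ c : F, A *ᵥ w - c • w ∈ W := by
      intro w hw
      obtain ⟨α, β, hmem, hne⟩ := hno w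
      have hβ : β ≠ 0 := by
        rintro rfl
        rw [zero_smul, add_zero] at hmem
        by_cases hα : α = 0
        · exact hne hα rfl
        · exact hw ((Submodule.smul_mem_iff _ hα).1 hmem)
      refine ⟨-(α / β), ?_⟩
      have h1 := W.smul_mem β⁻¹ hmem
      rw [smul_add, smul_smul, smul_smul, inv_mul_cancel₀ hβ, one_smul, add_comm] at h1
      rwa [neg_smul, sub_neg_eq_add, div_eq_inv_mul]
    have hproper : ∀ S : Submodule F (Fin n → F), Module.finrank F S < n → ∃ y, y ∉ S := by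
      intro S hS
      by_contra hno
      push Not at hno
      rw [Submodule.eq_top_iff'.2 hno, finrank_top, Module.finrank_fin_fun] at hS
      omega
    obtain ⟨y, hy⟩ := hproper W (by omega)
    obtain ⟨c, hc⟩ := hdep y hy
    set W' := W ⊔ Submodule.span F {y} with hW'
    have hW'd : Module.finrank F W' ≤ 3 := by
      refine (Submodule.finrank_add_le_finrank_add_finrank _ _).trans ?_
      have := Cfsg.Agent.Lib.Sourour.finrank_span_singleton_le (F := F) y
      omega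
    have hout : ∀ w, w ∉ W' → A *ᵥ w - c • w ∈ W := by
      intro w hw
      obtain ⟨c', hc'⟩ := hdep w fun h => hw (Submodule.mem_sup_left h)
      obtain ⟨c'', hc''⟩ := hdep (y + w) fun h => hw (by
        rw [show w = (y + w) - y by abel]
        exact Submodule.sub_mem _ (Submodule.mem_sup_left h) (Submodule.mem_sup_right (Submodule.mem_span_singleton_self y)))
      have hk : (c'' - c) • y + (c'' - c') • w ∈ W := by
        have h1 := W.sub_mem (W.add_mem hc hc') hc''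
        rw [mulVec_add, smul_add] at h1
        convert h1 using 1
        module
      have h2 : c'' = c' := by
        by_contra hne
        refine hw ((Submodule.smul_mem_iff _ (sub_ne_zero.2 hne)).1 ?_)
        rw [show (c'' - c') • w = ((c'' - c) • y + (c'' - c') • w) - (c'' - c) • y by abel]
        exact Submodule.sub_mem _ (Submodule.mem_sup_left hk)
          (Submodule.mem_sup_right (Submodule.smul_mem _ _ (Submodule.mem_span_singleton_self y)))
      subst h2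
      rw [sub_self, zero_smul, add_zero] at hk
      rcases eq_or_ne c'' c with rfl | hne
      · exact hc'
      · exact absurd ((Submodule.smul_mem_iff _ (sub_ne_zero.2 hne)).1 hk) hy
    obtain ⟨z, hz⟩ := hproper W' (by omega)
    have hle : R c ≤ W := by
      rintro _ ⟨w, rfl⟩
      rw [Matrix.mulVecLin_apply, sub_mulVec, smul_mulVec, one_mulVec]
      by_cases hw : w ∈ W'
      · have h1 := W.sub_mem (hout (w + z) fun h => hz (by simpa using W'.sub_mem h hw)) (hout z hz)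
        rw [mulVec_add, smul_add] at h1
        convert h1 using 1
        abel
      · exact hout w hw
    have h2 : Module.finrank F (R c) ≤ 2 := (Submodule.finrank_mono hle).trans hWd
    have h3 : 2 ≤ Module.finrank F (R c) := not_R1.1 (hA c)
    refine hgood c h2 ?_
    rw [Submodule.eq_of_le_of_finrank_le hle (hWd.trans h3)]
    exact Submodule.subset_span ⟨0, rfl⟩
  refine ⟨w1, w2, Fintype.linearIndependent_iff.2 fun l hl => ?_⟩
  simp only [Fin.sum_univ_four, Matrix.cons_val] at hl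
  obtain ⟨h1, h3⟩ := hw2 (l 1) (l 3) (mem_span_pair'.2 ⟨-l 0, -l 2, by linear_combination (norm := module) -hl⟩)
  rw [h1, h3, zero_smul, zero_smul, add_zero, add_zero] at hl
  have hp := pair_indep hw0 hw1
  obtain ⟨h0, h2⟩ := LinearIndependent.pair_iff.1 hp _ _ hl
  intro i
  fin_cases i <;> assumption

/-- Peeling a plane. -/
theorem two_peel [Fintype F] (h4 : 4 ≤ Fintype.card F) (hm : 3 ≤ m) {A Q : GL (Fin (m + 1 + 1)) F} {a1 a2 : F}
    {x1 x2 : Fin m → F} {A' : GL (Fin m) F} (hA : NonPseudo A.1) (hdA : GeneralLinearGroup.det A = 1)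
    (hAQ : A.1 * Q.1 = Q.1 * blk2 a1 a2 x1 x2 A'.1) (hA' : NonPseudo A'.1) : One ⊥ A (m + 1 + 1) 1 := by
  classical
  have hdA1 : a1 * (a2 * A'.1.det) = 1 := by
    have h1 := congrArg Matrix.det hAQ
    rw [det_mul, det_mul, det_blk2, ← det_val A, hdA, Units.val_one, one_mul] at h1
    exact (mul_left_cancel₀ (GeneralLinearGroup.det_ne_zero Q) ((mul_one _).trans h1)).symm
  have ha1 : a1 ≠ 0 := left_ne_zero_of_mul_eq_one hdA1
  have ha2 : a2 ≠ 0 := fun e => by simp [e] at hdA1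
  obtain ⟨w1, w2, hind⟩ := two_vectors (by omega) hA
  set l1 := (a1 ^ m)⁻¹ with hl1
  set l2 := (a2 ^ m)⁻¹ with hl2
  have hl10 : l1 ≠ 0 := inv_ne_zero (pow_ne_zero _ ha1)
  have hl20 : l2 ≠ 0 := inv_ne_zero (pow_ne_zero _ ha2)
  have hind' : LinearIndependent F ![A.1 *ᵥ w1, A.1 *ᵥ w2, l1 • w1, l2 • w2] := by
    refine Fintype.linearIndependent_iff.2 fun l hl => ?_
    simp only [Fin.sum_univ_four, Matrix.cons_val, smul_smul] at hl
    have h := Fintype.linearIndependent_iff.1 hind ![l 2 * l1, l 3 * l2, l 0, l 1] (by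
      simp only [Fin.sum_univ_four, Matrix.cons_val]
      rw [← hl]; abel)
    have h0 := h 0
    have h1 := h 1
    have h2 := h 2
    have h3 := h 3
    simp only [Matrix.cons_val, mul_eq_zero, or_iff_left hl10, or_iff_left hl20] at h0 h1 h2 h3
    intro i
    fin_cases i <;> assumption
  obtain ⟨P1, hP1⟩ := extend_cols (show 4 ≤ m + 1 + 1 by omega) _ hind
  obtain ⟨P2, hP2⟩ := extend_cols (show 4 ≤ m + 1 + 1 by omega) _ hind'
  obtain ⟨P3, hP3d, hP3⟩ := scale_col P2 ⟨4, by omega⟩ (Units.ne_zero (GeneralLinearGroup.det P1))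
  set T := P3 * P1⁻¹ with hTdef
  have hTd : GeneralLinearGroup.det T = 1 := Units.ext (by
    rw [map_mul, map_inv, Units.val_mul, hP3d, ← Units.val_mul, mul_inv_cancel])
  have key : ∀ i : Fin 4, T.1 *ᵥ ![w1, w2, A.1 *ᵥ w1, A.1 *ᵥ w2] i = ![A.1 *ᵥ w1, A.1 *ᵥ w2, l1 • w1, l2 • w2] i := by
    intro i
    rw [← hP1 i, hTdef, Units.val_mul, mulVec_mulVec, Matrix.mul_assoc, Units.inv_mul, Matrix.mul_one,
      hP3 _ (fun e => by
        have := congrArg Fin.val e
        have := i.isLt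
        simp at *
        omega)]
    exact hP2 i
  set W := Submodule.span F (Set.range ![w1, w2]) with hW
  have hw1W : w1 ∈ W := Submodule.subset_span ⟨0, rfl⟩
  have hw2W : w2 ∈ W := Submodule.subset_span ⟨1, rfl⟩
  have hWd : Module.finrank F W ≤ 2 := (finrank_range_le_card ![w1, w2]).trans (by simp)
  have hwind : LinearIndependent F ![w1, w2] := by
    refine Fintype.linearIndependent_iff.2 fun l hl => ?_
    simp only [Fin.sum_univ_two, Matrix.cons_val] at hl
    have h := Fintype.linearIndependent_iff.1 hind ![l 0, l 1, 0, 0] (by simp [Fin.sum_univ_four, hl])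
    intro i
    fin_cases i
    exacts [h 0, h 1]
  obtain ⟨P, hP⟩ := extend_cols (show 2 ≤ m + 1 + 1 by omega) ![w1, w2] hwind
  have eP0 : P.1 *ᵥ Pi.single 0 1 = w1 := hP 0
  have eP1 : P.1 *ᵥ Pi.single (Fin.succ 0) 1 = w2 := hP 1
  have finish : ∀ T : GL (Fin (m + 1 + 1)) F, GeneralLinearGroup.det T = 1 →
      T.1 *ᵥ (A.1 *ᵥ w1) = l1 • w1 → T.1 *ᵥ (A.1 *ᵥ w2) = l2 • w2 → T.1 *ᵥ w1 = A.1 *ᵥ w1 →
      T.1 *ᵥ w2 = A.1 *ᵥ w2 → (∀ μ : F, ∃ y, (T * A * T⁻¹).1 *ᵥ (A.1 *ᵥ y) - μ • y ∉ W) →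
      One ⊥ A (m + 1 + 1) 1 := by
    intro T hTd hT1 hT2 hT1' hT2' hns
    set B1 := T * A * T⁻¹ with hB1
    have hBw : ∀ (w : Fin (m + 1 + 1) → F) (lw : F), T.1 *ᵥ (A.1 *ᵥ w) = lw • w → T.1 *ᵥ w = A.1 *ᵥ w →
        (B1 * A).1 *ᵥ w = lw • w := fun w lw h1 h2 => by
      rw [Units.val_mul, ← mulVec_mulVec, ← h2, mulVec_mulVec w B1.1 T.1, ← Units.val_mul, hB1,
        inv_mul_cancel_right, Units.val_mul, ← mulVec_mulVec, h1]
    set h := (B1 * A)⁻¹ with hh
    have hhw : ∀ (w : Fin (m + 1 + 1) → F) (a : F), a ≠ 0 → (B1 * A).1 *ᵥ w = (a ^ m)⁻¹ • w →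
        h.1 *ᵥ w = a ^ m • w := fun w a ha e => by
      have h1 := congrArg (fun x => h.1 *ᵥ x) e
      simp only [mulVec_mulVec, hh, Units.inv_mul, one_mulVec, mulVec_smul] at h1
      conv_rhs => rw [h1, smul_smul, mul_inv_cancel₀ (pow_ne_zero _ ha), one_smul]
    set H := P⁻¹ * h * P with hHdef
    have hHe : ∀ (i : Fin (m + 1 + 1)) (w : Fin (m + 1 + 1) → F) (c : F), P.1 *ᵥ Pi.single i 1 = w →
        h.1 *ᵥ w = c • w → H.1 *ᵥ Pi.single i 1 = c • Pi.single i 1 := fun i w c e1 e2 => by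
      rw [hHdef, Units.val_mul, Units.val_mul, ← mulVec_mulVec, ← mulVec_mulVec, e1, e2, mulVec_smul, ← e1,
        mulVec_mulVec, Units.inv_mul, one_mulVec]
    obtain ⟨Q', R1', R2', M, hQ0, hQ1, hQ⟩ := exists_plane (A := h) hwind
      (hhw w1 a1 ha1 (hBw w1 l1 hT1 hT1')) (hhw w2 a2 ha2 (hBw w2 l2 hT2 hT2'))
    have hdh : GeneralLinearGroup.det h = 1 := by simp [hh, hB1, map_mul, map_inv, hdA]
    have hdM : GeneralLinearGroup.det M = GeneralLinearGroup.det A' ^ m := by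
      have h1 := congrArg Matrix.det hQ
      rw [det_mul, det_mul, det_blk2, ← det_val h, hdh, Units.val_one, one_mul] at h1
      have h2 := (mul_left_cancel₀ (GeneralLinearGroup.det_ne_zero Q') ((mul_one _).trans h1))
      refine Units.ext ?_
      rw [Units.val_pow_eq_pow_val, det_val, det_val]
      apply mul_left_cancel₀ (mul_ne_zero (pow_ne_zero m ha1) (pow_ne_zero m ha2))
      rw [mul_assoc, ← h2, ← mul_pow, ← mul_pow, mul_assoc, hdA1, one_pow]
    have hMs : ∀ c : F, M.1 ≠ c • 1 := by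
      intro c hc
      have hc0 : c ≠ 0 := fun e => by
        haveI : Nonempty (Fin m) := ⟨⟨0, by omega⟩⟩
        exact GeneralLinearGroup.det_ne_zero M (by rw [hc, e, zero_smul, det_zero])
      have hmod : ∀ y, h.1 *ᵥ y - c • y ∈ W := by
        intro y
        obtain ⟨z, hz⟩ : ∃ z, z = (Q'⁻¹).1 *ᵥ y := ⟨_, rfl⟩
        have hy : y = Q'.1 *ᵥ z := by rw [hz, mulVec_mulVec, Units.mul_inv, one_mulVec]
        have hd : ∃ p q : F, blk2 (a1 ^ m) (a2 ^ m) R1' R2' M.1 *ᵥ z - c • z =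
            p • Pi.single 0 1 + q • Pi.single (Fin.succ 0) 1 := by
          refine ⟨(blk2 (a1 ^ m) (a2 ^ m) R1' R2' M.1 *ᵥ z - c • z) 0,
            (blk2 (a1 ^ m) (a2 ^ m) R1' R2' M.1 *ᵥ z - c • z) (Fin.succ 0), funext fun i => ?_⟩
          induction i using Fin.cases with
          | zero => simp
          | succ i =>
            induction i using Fin.cases with
            | zero => simp
            | succ i =>
              rw [Pi.sub_apply, blk2_tail, Pi.smul_apply, Pi.add_apply, Pi.smul_apply, Pi.smul_apply, single_tail.1,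
                single_tail.2, hc, smul_mulVec, one_mulVec, Pi.smul_apply, smul_zero, smul_zero, add_zero, sub_self]
        obtain ⟨p, q, hd⟩ := hd
        rw [hy, mulVec_mulVec, hQ, ← mulVec_mulVec, ← mulVec_smul, ← mulVec_sub, hd, mulVec_add, mulVec_smul,
          mulVec_smul, hQ0, hQ1]
        exact Submodule.add_mem _ (Submodule.smul_mem _ _ hw1W) (Submodule.smul_mem _ _ hw2W)
      obtain ⟨y, hy⟩ := hns c⁻¹
      refine hy ?_
      have h1 := W.smul_mem (-c⁻¹) (hmod (B1.1 *ᵥ (A.1 *ᵥ y)))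
      rw [mulVec_mulVec y B1.1 A.1, ← Units.val_mul, mulVec_mulVec y h.1, hh, Units.inv_mul, one_mulVec, smul_sub,
        smul_smul, neg_mul, inv_mul_cancel₀ hc0] at h1
      rw [mulVec_mulVec y B1.1 A.1, ← Units.val_mul]
      convert h1 using 1
      module
    obtain ⟨l, hl1', hl2', hl3, hl4⟩ := nf_any h4 m hm A' hA' M hMs hdM
    obtain ⟨r01, r02, I1, I2, hI1, hI2, hall⟩ := lift_list2 hAQ ha1 ha2 Q' l hl2'
    have htop : ∀ (a : F) (I : Submodule F (Fin m → F)),
        (∀ z, (∀ r ∈ I, r ⬝ᵥ z = 0) → ∀ B ∈ l, B.1 *ᵥ z = a • z) → ∀ r, r ∈ I := by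
      intro a I hI r
      by_contra hno
      obtain ⟨z, hz, hz'⟩ := exists_dot hno
      have h0 : ∀ s ∈ I, s ⬝ᵥ z = 0 := fun s hs => by rw [dotProduct_comm]; exact hz s hs
      have hz0 : z ≠ 0 := fun e => hz' (by rw [e, zero_dotProduct])
      obtain ⟨C, hC, hC'⟩ := hl4 a z hz0
      exact hC' (hI z h0 C hC)
    obtain ⟨L, hL1, hL2, hL3⟩ := hall _ (htop a1 I1 hI1 (R1' - r01)) _ (htop a2 I2 hI2 (R2' - r02))
    have hLp : L.prod = Q'⁻¹ * h * Q' := Units.ext (by
      rw [hL3, hl1', hl3, add_sub_cancel, add_sub_cancel, Units.val_mul, Units.val_mul, mul_assoc, hQ, ← mul_assoc,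
        Units.inv_mul, one_mul])
    set f : GL (Fin (m + 1 + 1)) F → GL (Fin (m + 1 + 1)) F := fun C => Q' * C * Q'⁻¹ with hf
    have hmap : ∀ k : List (GL (Fin (m + 1 + 1)) F), (k.map f).prod = Q' * k.prod * Q'⁻¹ := by
      intro k
      induction k with
      | nil => simp
      | cons C k ih => rw [List.map_cons, List.prod_cons, ih, List.prod_cons, hf]; group
    have hprod : (B1 :: A :: L.map f).prod = 1 := by
      rw [List.prod_cons, List.prod_cons, hmap, hLp, hh]; group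
    have := One.of_list (K := (⊥ : Subgroup Fˣ)) (B1 :: A :: L.map f) fun C hC => by
      rcases List.mem_cons.1 hC with rfl | hC
      · exact ⟨T, by rw [hTd]; exact Subgroup.one_mem _, rfl⟩
      rcases List.mem_cons.1 hC with rfl | hC
      · exact Fac.self _ _
      · obtain ⟨D, hD, rfl⟩ := List.mem_map.1 hC
        exact hL2 D hD
    rwa [hprod, show (B1 :: A :: L.map f).length = m + 1 + 1 by simp [hL1, hl1']] at this
  have k0 : T.1 *ᵥ w1 = A.1 *ᵥ w1 := key 0
  have k1 : T.1 *ᵥ w2 = A.1 *ᵥ w2 := key 1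
  have k2 : T.1 *ᵥ (A.1 *ᵥ w1) = l1 • w1 := key 2
  have k3 : T.1 *ᵥ (A.1 *ᵥ w2) = l2 • w2 := key 3
  set B1 := T * A * T⁻¹ with hB1
  -- the functional
  set W4 := Submodule.span F (Set.range ![w1, w2, A.1 *ᵥ w1, A.1 *ᵥ w2]) with hW4
  obtain ⟨z1, hz1⟩ : ∃ z, z ∉ W4 := by
    by_contra hno
    push Not at hno
    have h1 : Module.finrank F W4 ≤ 4 := (finrank_range_le_card ![w1, w2, A.1 *ᵥ w1, A.1 *ᵥ w2]).trans (by simp)
    rw [Submodule.eq_top_iff'.2 hno, finrank_top, Module.finrank_fin_fun] at h1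
    omega
  obtain ⟨η, hη, hηz⟩ := exists_dot hz1
  set H0 : Submodule F (Fin (m + 1 + 1) → F) := LinearMap.ker
    ({ toFun := fun x => η ⬝ᵥ x
       map_add' := fun a b => dotProduct_add η a b
       map_smul' := fun c a => by simp [dotProduct_smul] } : (Fin (m + 1 + 1) → F) →ₗ[F] F) with hH0
  have hmemH : ∀ x, x ∈ H0 ↔ η ⬝ᵥ x = 0 := fun x => LinearMap.mem_ker
  have hH0d : m + 1 ≤ Module.finrank F H0 := by
    have h1 := LinearMap.finrank_range_add_finrank_ker
      ({ toFun := fun x => η ⬝ᵥ x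
         map_add' := fun a b => dotProduct_add η a b
         map_smul' := fun c a => by simp [dotProduct_smul] } : (Fin (m + 1 + 1) → F) →ₗ[F] F)
    rw [Module.finrank_fin_fun, ← hH0] at h1
    have h2 : Module.finrank F (LinearMap.range
      ({ toFun := fun x => η ⬝ᵥ x
         map_add' := fun a b => dotProduct_add η a b
         map_smul' := fun c a => by simp [dotProduct_smul] } : (Fin (m + 1 + 1) → F) →ₗ[F] F)) ≤ 1 :=
      (Submodule.finrank_le _).trans (le_of_eq (Module.finrank_self F))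
    omega
  -- a direction for the twist
  obtain ⟨x, hxH, hxB⟩ : ∃ x ∈ H0, B1.1 *ᵥ x ∉ W ⊔ Submodule.span F {x} := by
    by_contra hno
    push Not at hno
    set u := A.1 *ᵥ w1 with hu
    have hBu : B1.1 *ᵥ u ∈ W := by
      rw [← k0, mulVec_mulVec, ← Units.val_mul, hB1, inv_mul_cancel_right, Units.val_mul, ← mulVec_mulVec, k2]
      exact Submodule.smul_mem _ _ hw1W
    have huH : u ∈ H0 := (hmemH u).2 (hη u (Submodule.subset_span ⟨2, rfl⟩))
    have huW : u ∉ W := by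
      intro h
      obtain ⟨p, q, hpq⟩ := mem_span_pair'.1 h
      have h1 := Fintype.linearIndependent_iff.1 hind ![p, q, -1, 0] (by
        simp only [Fin.sum_univ_four, Matrix.cons_val, zero_smul, add_zero, neg_smul, one_smul, ← hu]
        rw [hpq, add_neg_cancel]) 2
      simp at h1
    set W' := W ⊔ Submodule.span F {u} with hW'
    have hW'd : Module.finrank F W' ≤ 3 := by
      refine (Submodule.finrank_add_le_finrank_add_finrank _ _).trans ?_
      have := Cfsg.Agent.Lib.Sourour.finrank_span_singleton_le (F := F) u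
      omega
    have hout : ∀ x ∈ H0, x ∉ W' → B1.1 *ᵥ x ∈ W := by
      intro x hx hxW
      obtain ⟨p, hp, q, hq, hpq⟩ := Submodule.mem_sup.1 (hno x hx)
      obtain ⟨k, rfl⟩ := Submodule.mem_span_singleton.1 hq
      obtain ⟨p', hp', q', hq', hpq'⟩ := Submodule.mem_sup.1 (hno (x + u) (H0.add_mem hx huH))
      obtain ⟨k', rfl⟩ := Submodule.mem_span_singleton.1 hq'
      have h1 : (k' - k) • x + k' • u ∈ W := by
        have h2 := W.add_mem (W.sub_mem hp hp') hBu
        convert h2 using 1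
        rw [mulVec_add, ← hpq] at hpq'
        linear_combination (norm := module) hpq'
      have hk' : k' = k := by
        by_contra hne
        refine hxW ((Submodule.smul_mem_iff _ (sub_ne_zero.2 hne)).1 ?_)
        rw [show (k' - k) • x = ((k' - k) • x + k' • u) - k' • u by abel]
        exact Submodule.sub_mem _ (Submodule.mem_sup_left h1)
          (Submodule.mem_sup_right (Submodule.smul_mem _ _ (Submodule.mem_span_singleton_self u)))
      subst hk'
      rw [sub_self, zero_smul, zero_add] at h1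
      rcases eq_or_ne k' 0 with rfl | hk
      · rw [zero_smul, add_zero] at hpq; rwa [← hpq]
      · exact absurd ((Submodule.smul_mem_iff _ hk).1 h1) huW
    obtain ⟨x0, hx0, hx0W⟩ : ∃ x0 ∈ H0, x0 ∉ W' := by
      by_contra h
      push Not at h
      have := Submodule.finrank_mono (show H0 ≤ W' from fun x hx => h x hx)
      omega
    have hall : H0.map B1.1.mulVecLin ≤ W := by
      rintro _ ⟨x, hx, rfl⟩
      rw [Matrix.mulVecLin_apply]
      by_cases hxW : x ∈ W'
      · rw [show B1.1 *ᵥ x = B1.1 *ᵥ (x + x0) - B1.1 *ᵥ x0 by rw [mulVec_add, add_sub_cancel_right]]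
        exact W.sub_mem (hout _ (H0.add_mem hx hx0) fun h => hx0W (by simpa using W'.sub_mem h hxW)) (hout _ hx0 hx0W)
      · exact hout x hx hxW
    have hinj : Function.Injective B1.1.mulVecLin := by
      intro p q h
      have h1 := congrArg (fun x => (B1⁻¹).1 *ᵥ x) h
      simpa [mulVec_mulVec] using h1
    have := Submodule.finrank_mono hall
    rw [← (Submodule.equivMapOfInjective _ hinj H0).finrank_eq] at this
    omega
  rw [hmemH] at hxH
  obtain ⟨Z, hZ⟩ := exists_GL (S := 1 + vecMulVec x η) (by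
    rw [Cfsg.Agent.Lib.Sourour.det_one_add_vecMulVec', hxH, add_zero]; exact one_ne_zero)
  have hZy : ∀ y, Z.1 *ᵥ y = y + (η ⬝ᵥ y) • x := fun y => by
    rw [hZ, add_mulVec, one_mulVec, vecMulVec_mulVec, op_smul_eq_smul]
  have hZd : GeneralLinearGroup.det Z = 1 := Units.ext (by
    rw [det_val, hZ, Cfsg.Agent.Lib.Sourour.det_one_add_vecMulVec', hxH, add_zero, Units.val_one])
  by_cases hns : ∀ μ : F, ∃ y, B1.1 *ᵥ (A.1 *ᵥ y) - μ • y ∉ W
  · exact finish T hTd k2 k3 k0 k1 hns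
  push Not at hns
  obtain ⟨μ, hμ⟩ := hns
  have hη4 : ∀ i : Fin 4, η ⬝ᵥ ![w1, w2, A.1 *ᵥ w1, A.1 *ᵥ w2] i = 0 := fun i => hη _ (Submodule.subset_span ⟨i, rfl⟩)
  have hZfix : ∀ i : Fin 4, Z.1 *ᵥ ![w1, w2, A.1 *ᵥ w1, A.1 *ᵥ w2] i = ![w1, w2, A.1 *ᵥ w1, A.1 *ᵥ w2] i := fun i => by
    rw [hZy, hη4, zero_smul, add_zero]
  have e0 : Z.1 *ᵥ w1 = w1 := hZfix 0
  have e1 : Z.1 *ᵥ w2 = w2 := hZfix 1
  have e2 : Z.1 *ᵥ (A.1 *ᵥ w1) = A.1 *ᵥ w1 := hZfix 2
  have e3 : Z.1 *ᵥ (A.1 *ᵥ w2) = A.1 *ᵥ w2 := hZfix 3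
  refine finish (Z * T) (by rw [map_mul, hZd, hTd, mul_one])
    (by rw [Units.val_mul, ← mulVec_mulVec, k2, mulVec_smul, e0])
    (by rw [Units.val_mul, ← mulVec_mulVec, k3, mulVec_smul, e1])
    (by rw [Units.val_mul, ← mulVec_mulVec, k0, e2]) (by rw [Units.val_mul, ← mulVec_mulVec, k1, e3]) ?_
  intro μ'
  by_contra hno
  push Not at hno
  have hnew : ∀ y, (Z * T * A * (Z * T)⁻¹).1 *ᵥ (Z.1 *ᵥ y) = Z.1 *ᵥ (B1.1 *ᵥ y) := fun y => by
    rw [mulVec_mulVec, mulVec_mulVec, ← Units.val_mul, ← Units.val_mul]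
    congr 2
    rw [hB1]; group
  have hrel : ∀ y, ∃ φ : F, (μ' - μ) • y + (η ⬝ᵥ (A.1 *ᵥ y)) • (B1.1 *ᵥ x) - φ • x ∈ W := by
    intro y
    have h1 := hno y
    rw [show A.1 *ᵥ y = Z.1 *ᵥ (A.1 *ᵥ y - (η ⬝ᵥ (A.1 *ᵥ y)) • x) by
      rw [hZy, dotProduct_sub, dotProduct_smul, hxH, smul_zero, sub_zero, sub_add_cancel], hnew, hZy] at h1
    refine ⟨η ⬝ᵥ (B1.1 *ᵥ (A.1 *ᵥ y - (η ⬝ᵥ (A.1 *ᵥ y)) • x)), ?_⟩
    have h2 := W.sub_mem (hμ y) h1
    rw [mulVec_sub, mulVec_smul] at h2 ⊢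
    convert h2 using 1
    module
  rcases eq_or_ne μ' μ with rfl | hne
  · have hy : ∃ y, η ⬝ᵥ (A.1 *ᵥ y) ≠ 0 := ⟨(A⁻¹).1 *ᵥ z1, by
      rw [mulVec_mulVec, Units.mul_inv, one_mulVec]; exact hηz⟩
    obtain ⟨y, hy⟩ := hy
    obtain ⟨φ, hφ⟩ := hrel y
    rw [sub_self, zero_smul, zero_add] at hφ
    refine hxB ((Submodule.smul_mem_iff _ hy).1 ?_)
    rw [show (η ⬝ᵥ (A.1 *ᵥ y)) • (B1.1 *ᵥ x) = ((η ⬝ᵥ (A.1 *ᵥ y)) • (B1.1 *ᵥ x) - φ • x) + φ • x by abel]
    exact Submodule.add_mem _ (Submodule.mem_sup_left hφ)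
      (Submodule.mem_sup_right (Submodule.smul_mem _ _ (Submodule.mem_span_singleton_self x)))
  · have hspan : ⊤ ≤ W ⊔ Submodule.span F (Set.range ![B1.1 *ᵥ x, x]) := by
      intro y _
      obtain ⟨φ, hφ⟩ := hrel y
      refine (Submodule.smul_mem_iff _ (sub_ne_zero.2 hne)).1 ?_
      rw [show (μ' - μ) • y = ((μ' - μ) • y + (η ⬝ᵥ (A.1 *ᵥ y)) • (B1.1 *ᵥ x) - φ • x) +
        ((-(η ⬝ᵥ (A.1 *ᵥ y))) • (B1.1 *ᵥ x) + φ • x) by module]
      exact Submodule.add_mem _ (Submodule.mem_sup_left hφ)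
        (Submodule.mem_sup_right (mem_span_pair'.2 ⟨_, _, rfl⟩))
    have h1 := Submodule.finrank_mono hspan
    have h2 := Submodule.finrank_add_le_finrank_add_finrank W (Submodule.span F (Set.range ![B1.1 *ᵥ x, x]))
    have h3 : Module.finrank F (Submodule.span F (Set.range ![B1.1 *ᵥ x, x])) ≤ 2 :=
      (finrank_range_le_card ![B1.1 *ᵥ x, x]).trans (by simp)
    rw [finrank_top, Module.finrank_fin_fun] at h1
    omega

/-- A plane with a small quotient. -/
theorem quot2_range {A P : GL (Fin (m + 1 + 1)) F} {a1 a2 : F} {r1 r2 : Fin m → F} {M : Matrix (Fin m) (Fin m) F}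
    (hA : A.1 * P.1 = P.1 * blk2 a1 a2 r1 r2 M) {c : F} {r : Fin m → F} (hr : ∀ u, ∃ e : F, (M - c • 1) *ᵥ u = e • r) :
    LinearMap.range (A.1 - c • 1).mulVecLin ≤ Submodule.span F (Set.range
      ![P.1 *ᵥ Pi.single 0 1, P.1 *ᵥ Pi.single (Fin.succ 0) 1, P.1 *ᵥ Fin.cons 0 (Fin.cons 0 r)]) := by
  rintro _ ⟨y, rfl⟩
  obtain ⟨z, hz⟩ : ∃ z, z = (P⁻¹).1 *ᵥ y := ⟨_, rfl⟩
  have hy : y = P.1 *ᵥ z := by rw [hz, mulVec_mulVec, Units.mul_inv, one_mulVec]
  obtain ⟨e, he⟩ := hr fun i => z i.succ.succ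
  set d := blk2 a1 a2 r1 r2 M *ᵥ z - c • z with hd
  have hde : d = d 0 • Pi.single 0 1 + d (Fin.succ 0) • Pi.single (Fin.succ 0) 1 + e • Fin.cons 0 (Fin.cons 0 r) := by
    funext i
    induction i using Fin.cases with
    | zero => simp
    | succ i =>
      induction i using Fin.cases with
      | zero => simp
      | succ i =>
        have h1 := congrFun he i
        rw [sub_mulVec, smul_mulVec, one_mulVec] at h1
        simp only [Pi.sub_apply, Pi.smul_apply] at h1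
        simp only [Pi.add_apply, Pi.smul_apply, single_tail.1, single_tail.2, smul_zero, zero_add, Fin.cons_succ]
        rw [hd, Pi.sub_apply, blk2_tail, Pi.smul_apply]
        exact h1
  rw [Matrix.mulVecLin_apply, sub_mulVec, smul_mulVec, one_mulVec, hy, mulVec_mulVec, hA, ← mulVec_mulVec,
    ← mulVec_smul, ← mulVec_sub, ← hd, hde, mulVec_add, mulVec_add, mulVec_smul, mulVec_smul, mulVec_smul]
  exact Submodule.add_mem _ (Submodule.add_mem _ (Submodule.smul_mem _ _ (Submodule.subset_span ⟨0, rfl⟩))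
    (Submodule.smul_mem _ _ (Submodule.subset_span ⟨1, rfl⟩))) (Submodule.smul_mem _ _ (Submodule.subset_span ⟨2, rfl⟩))

/-- Two eigenvectors. -/
theorem exact_two [Fintype F] (h4 : 4 ≤ Fintype.card F) (hm : 3 ≤ m) {A : GL (Fin (m + 1 + 1)) F}
    (hA : NonPseudo A.1) (hq : ∀ t d : F, A.1 * A.1 ≠ t • A.1 - d • 1) (hdA : GeneralLinearGroup.det A = 1)
    {b1 b2 : F} {u1 u2 : Fin (m + 1 + 1) → F} (hind : LinearIndependent F ![u1, u2])
    (hu1 : A.1 *ᵥ u1 = b1 • u1) (hu2 : A.1 *ᵥ u2 = b2 • u2) : One ⊥ A (m + 1 + 1) 1 := by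
  classical
  set K : F → Submodule F (Fin (m + 1 + 1) → F) := fun c => LinearMap.ker (A.1 - c • 1).mulVecLin with hKdef
  set R : F → Submodule F (Fin (m + 1 + 1) → F) := fun c => LinearMap.range (A.1 - c • 1).mulVecLin with hRdef
  have hmem : ∀ c u, u ∈ K c ↔ A.1 *ᵥ u = c • u := fun c u => by
    rw [hKdef, LinearMap.mem_ker, Matrix.mulVecLin_apply, sub_mulVec, smul_mulVec, one_mulVec, sub_eq_zero]
  have hsum : ∀ c, Module.finrank F (R c) + Module.finrank F (K c) = m + 1 + 1 := fun c => by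
    have h := LinearMap.finrank_range_add_finrank_ker (A.1 - c • 1).mulVecLin
    rw [Module.finrank_fin_fun] at h
    exact h
  have hR2 : ∀ c, 2 ≤ Module.finrank F (R c) := fun c => not_R1.1 (hA c)
  have hdis : ∀ c d, c ≠ d → Module.finrank F (K c) + Module.finrank F (K d) =
      Module.finrank F (K c ⊔ K d : Submodule F (Fin (m + 1 + 1) → F)) := by
    intro c d hcd
    have hb : K c ⊓ K d = ⊥ := by
      rw [Submodule.eq_bot_iff]
      intro u hu
      obtain ⟨e1, e2⟩ := Submodule.mem_inf.1 hu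
      rw [hmem] at e1 e2
      have h3 : (c - d) • u = 0 := by rw [sub_smul, ← e1, ← e2, sub_self]
      exact (smul_eq_zero.1 h3).resolve_left (sub_ne_zero.2 hcd)
    have h1 := Submodule.finrank_sup_add_finrank_inf_eq (K c) (K d)
    rw [hb, finrank_bot, add_zero] at h1
    exact h1.symm
  have htopq : ∀ c d, c ≠ d → m + 1 + 1 ≤ Module.finrank F (K c) + Module.finrank F (K d) → False := by
    intro c d hcd h
    rw [hdis c d hcd] at h
    have h2 := Submodule.finrank_le (K c ⊔ K d)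
    rw [Module.finrank_fin_fun] at h2
    have htop : K c ⊔ K d = ⊤ := Submodule.eq_top_of_finrank_eq (by rw [Module.finrank_fin_fun]; omega)
    refine hq (c + d) (c * d) (mext fun u => ?_)
    obtain ⟨p, hp, p', hp', rfl⟩ := Submodule.mem_sup.1 (htop.ge (Submodule.mem_top (x := u)))
    rw [hmem] at hp hp'
    simp only [mulVec_add, ← mulVec_mulVec, sub_mulVec, smul_mulVec, one_mulVec, hp, hp', mulVec_smul, smul_smul]
    module
  -- a pseudo quotient of a plane
  have run : ∀ (a1 a2 : F) (v1 v2 : Fin (m + 1 + 1) → F), LinearIndependent F ![v1, v2] → A.1 *ᵥ v1 = a1 • v1 →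
      A.1 *ᵥ v2 = a2 • v2 →
      (∀ (P : GL (Fin (m + 1 + 1)) F) (r1 r2 : Fin m → F) (M : GL (Fin m) F) (d : F),
        A.1 * P.1 = P.1 * blk2 a1 a2 r1 r2 M.1 → R1 (M.1 - d • 1) → Module.finrank F (R d) ≤ 3 →
        (Module.finrank F (R d) = 3 → v1 ∈ R d ∧ v2 ∈ R d) → One ⊥ A (m + 1 + 1) 1) →
      One ⊥ A (m + 1 + 1) 1 := by
    intro a1 a2 v1 v2 hv h1 h2 hbad
    obtain ⟨P, r1, r2, M, e0, e1, hP⟩ := exists_plane hv h1 h2
    by_cases hM : NonPseudo M.1
    · exact two_peel h4 hm hA hdA hP hM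
    simp only [NonPseudo, not_forall, not_not] at hM
    obtain ⟨d, hd⟩ := hM
    obtain ⟨r, hr⟩ := hd
    have hle := quot2_range hP hr
    rw [e0, e1] at hle
    have hc3 : Module.finrank F (Submodule.span F (Set.range ![v1, v2, P.1 *ᵥ Fin.cons 0 (Fin.cons 0 r)])) ≤ 3 :=
      (finrank_range_le_card ![v1, v2, P.1 *ᵥ Fin.cons 0 (Fin.cons 0 r)]).trans (by simp)
    refine hbad P r1 r2 M d hP ⟨r, hr⟩ ((Submodule.finrank_mono hle).trans hc3) fun h3 => ?_
    have heq := Submodule.eq_of_le_of_finrank_le hle (hc3.trans h3.ge)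
    exact ⟨by show _ ∈ LinearMap.range _; rw [heq]; exact Submodule.subset_span ⟨0, rfl⟩,
      by show _ ∈ LinearMap.range _; rw [heq]; exact Submodule.subset_span ⟨1, rfl⟩⟩
  -- the same value: a relation
  have rel : ∀ (c : F) (v : Fin (m + 1 + 1) → F), v ≠ 0 → A.1 *ᵥ v = c • v →
      (∀ d, Module.finrank F (R d) ≤ 2 → v ∉ R d) →
      ∀ (P : GL (Fin (m + 1 + 1)) F) (r1 r2 : Fin m → F) (M : GL (Fin m) F),
        A.1 * P.1 = P.1 * blk2 c c r1 r2 M.1 → R1 (M.1 - c • 1) → One ⊥ A (m + 1 + 1) 1 := by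
    intro c v hv0 hv hgood P r1 r2 M hP hM
    obtain ⟨p, q, hpq⟩ := R1.exists_vecMulVec hM
    set b := c + q ⬝ᵥ p with hb
    have hc0 := eig_ne_zero A hv0 hv
    obtain ⟨j, rfl⟩ : ∃ j, m = j + 1 := ⟨m - 1, by omega⟩
    have hMd : M.1.det = c ^ j * b := by
      have e : M.1 = c • (1 + vecMulVec (c⁻¹ • p) q) := by
        rw [smul_add, ← smul_vecMulVec, smul_smul, mul_inv_cancel₀ hc0, one_smul, ← hpq, add_sub_cancel]
      rw [e, det_smul, Fintype.card_fin, Cfsg.Agent.Lib.Sourour.det_one_add_vecMulVec', dotProduct_smul, smul_eq_mul,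
        hb, pow_succ]
      field_simp
    have hrel : b * c ^ (j + 1 + 1) = 1 := by
      have h1 := congrArg Matrix.det hP
      rw [det_mul, det_mul, det_blk2, ← det_val A, hdA, Units.val_one, one_mul, hMd] at h1
      have h2 := mul_left_cancel₀ (GeneralLinearGroup.det_ne_zero P) ((mul_one _).trans h1)
      rw [h2]; ring
    obtain ⟨w, hw0, hw⟩ : ∃ w, w ≠ 0 ∧ A.1 *ᵥ w = b • w := by
      by_cases hbc : b = c
      · exact ⟨v, hv0, by rw [hbc, hv]⟩
      have hp : p ≠ 0 := fun e => hbc (by rw [hb, e, dotProduct_zero, add_zero])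
      refine exists_eig ?_
      have e : A.1 = P.1 * (blk2 c c r1 r2 M.1 * (P⁻¹).1) := by
        rw [← mul_assoc, ← hP, mul_assoc, Units.mul_inv, mul_one]
      rw [e, Matrix.charpoly_mul_comm, mul_assoc, Units.inv_mul, mul_one, blk2, charpoly_blk, charpoly_blk,
        IsRoot.def, eval_mul, eval_mul]
      have h0 : M.1.charpoly.eval b = 0 := by
        rw [Matrix.eval_charpoly]
        refine Matrix.exists_mulVec_eq_zero_iff.1 ⟨p, hp, ?_⟩
        have hMp : M.1 *ᵥ p = b • p := by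
          rw [show M.1 = c • 1 + vecMulVec p q by rw [← hpq, add_sub_cancel], add_mulVec, smul_mulVec, one_mulVec,
            vecMulVec_mulVec, op_smul_eq_smul, hb, add_smul]
        rw [sub_mulVec, sub_eq_zero, hMp]
        funext i
        simp [Matrix.scalar_apply, Matrix.mulVec_diagonal]
      rw [h0, mul_zero, mul_zero]
    obtain ⟨Q, x, A', hQv, hAQ⟩ := exists_quot hv0 hv
    exact rel_exact h4 (by omega) hA hdA hAQ (quot_good hA hAQ fun d hd => by rw [hQv]; exact hgood d hd) hw0 hw hrel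
  have hspan2 : ∀ c, 2 ≤ Module.finrank F (K c) → ∀ v ∈ K c, v ≠ 0 → ∃ v2 ∈ K c, LinearIndependent F ![v, v2] := by
    intro c hc v hv hv0
    by_contra hno
    push Not at hno
    have h1 : K c ≤ Submodule.span F {v} := by
      intro u hu
      by_contra hu'
      exact hno u hu (pair_indep hv0 fun k e => hu' (by rw [e]; exact Submodule.smul_mem _ _ (Submodule.mem_span_singleton_self v)))
    have h2 := (Submodule.finrank_mono h1).trans (Cfsg.Agent.Lib.Sourour.finrank_span_singleton_le v)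
    omega
  by_cases hK : KerLine A.1
  · refine run b1 b2 u1 u2 hind hu1 hu2 fun P r1 r2 M d _ _ hd _ => ?_
    exfalso
    have := hK.rank_ge d
    have hd' : Module.finrank F (LinearMap.range (A.1 - d • 1).mulVecLin) ≤ 3 := hd
    omega
  by_cases h2c : ∃ c, Module.finrank F (R c) ≤ 2
  · obtain ⟨c, hc⟩ := h2c
    have hKc : m ≤ Module.finrank F (K c) := by have := hsum c; omega
    obtain ⟨v, hvK, hvR⟩ : ∃ v ∈ K c, v ∉ R c := by
      by_contra h
      push Not at h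
      have := Submodule.finrank_mono (show K c ≤ R c from fun u hu => h u hu)
      omega
    have hv0 : v ≠ 0 := fun e => hvR (e ▸ Submodule.zero_mem _)
    obtain ⟨v2, hv2K, hv⟩ := hspan2 c (by omega) v hvK hv0
    refine run c c v v2 hv ((hmem c v).1 hvK) ((hmem c v2).1 hv2K) fun P r1 r2 M d hP hM hd _ => ?_
    by_cases hdc : d = c
    · subst hdc
      refine rel d v hv0 ((hmem d v).1 hvK) (fun e he => ?_) P r1 r2 M hP hM
      suffices hed : e = d by rw [hed]; exact hvR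
      by_contra hne
      exact htopq e d hne (by have := hsum e; omega)
    · exact (htopq d c hdc (by have := hsum d; omega)).elim
  push Not at h2c
  have hgood : ∀ (v : Fin (m + 1 + 1) → F) (d : F), Module.finrank F (R d) ≤ 2 → v ∉ R d := fun v d h =>
    absurd (h2c d) (not_lt.2 h)
  obtain ⟨c, v1, v2, hv1, hv2, hv⟩ : ∃ (c : F) (v1 v2 : Fin (m + 1 + 1) → F),
      A.1 *ᵥ v1 = c • v1 ∧ A.1 *ᵥ v2 = c • v2 ∧ LinearIndependent F ![v1, v2] := by
    simp only [KerLine] at hK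
    push Not at hK
    obtain ⟨μ, u, u', hu0, hu, hu', hne⟩ := hK
    exact ⟨μ, u, u', hu, hu', pair_indep hu0 hne⟩
  refine run c c v1 v2 hv hv1 hv2 fun P r1 r2 M d hP hM hd _ => ?_
  by_cases hdc : d = c
  · subst hdc
    exact rel d v1 (fun e => hv.ne_zero 0 (by simpa using e)) hv1 (hgood v1) P r1 r2 M hP hM
  have hKd : 2 ≤ Module.finrank F (K d) := by have := hsum d; omega
  obtain ⟨p1, hp1, hp10⟩ := (Submodule.ne_bot_iff _).1 (fun e : K d = ⊥ => by rw [e, finrank_bot] at hKd; omega)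
  obtain ⟨p2, hp2, hp⟩ := hspan2 d hKd p1 hp1 hp10
  refine run d d p1 p2 hp ((hmem d p1).1 hp1) ((hmem d p2).1 hp2) fun P' r1' r2' M' e hP' hM' he _ => ?_
  by_cases hed : e = d
  · subst hed
    exact rel e p1 hp10 ((hmem e p1).1 hp1) (hgood p1) P' r1' r2' M' hP' hM'
  -- two values in degree five
  have hKe : 2 ≤ Module.finrank F (K e) := by have := hsum e; omega
  have hn5 : m = 3 := by
    by_contra h
    exact htopq e d hed (by have := hsum e; have := hsum d; omega)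
  subst hn5
  have hle4 : ∀ x y, x ≠ y → Module.finrank F (K x) + Module.finrank F (K y) ≤ 4 := fun x y hxy => by
    by_contra h
    exact htopq x y hxy (by omega)
  have hout : ∀ x y, x ≠ y → Module.finrank F (R x) ≤ 3 → 2 ≤ Module.finrank F (K y) → ∃ v ∈ K x, v ∉ R x := by
    intro x y hxy hx hy
    by_contra h
    push Not at h
    have h1 : K x ⊔ K y ≤ R x := sup_le (fun u hu => h u hu) fun u hu => by
      rw [hmem] at hu
      refine ⟨(y - x)⁻¹ • u, ?_⟩
      rw [Matrix.mulVecLin_apply, mulVec_smul, sub_mulVec, smul_mulVec, one_mulVec, hu, ← sub_smul, smul_smul,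
        inv_mul_cancel₀ (sub_ne_zero.2 (Ne.symm hxy)), one_smul]
    have h2 := Submodule.finrank_mono h1
    rw [← hdis x y hxy] at h2
    have := hsum x
    omega
  obtain ⟨q1, hq1, hq1R⟩ := hout d e (Ne.symm hed) hd hKe
  obtain ⟨q2, hq2, hq2R⟩ := hout e d hed he hKd
  rw [hmem] at hq1 hq2
  have hq10 : q1 ≠ 0 := fun h => hq1R (h ▸ Submodule.zero_mem _)
  have hq20 : q2 ≠ 0 := fun h => hq2R (h ▸ Submodule.zero_mem _)
  refine run d e q1 q2 (pair_indep hq10 fun k h => ?_) hq1 hq2 fun P'' r1'' r2'' M'' f hP'' hM'' hf hf3 => ?_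
  · have h1 : (e - d) • q2 = 0 := by rw [sub_smul, ← hq2, h, mulVec_smul, hq1, smul_smul, smul_smul, mul_comm k d, sub_self]
    exact hq20 ((smul_eq_zero.1 h1).resolve_left (sub_ne_zero.2 hed))
  obtain ⟨m1, m2⟩ := hf3 (le_antisymm hf (h2c f))
  exfalso
  by_cases hfd : f = d
  · subst hfd; exact hq1R m1
  by_cases hfe : f = e
  · subst hfe; exact hq2R m2
  have hKf : 2 ≤ Module.finrank F (K f) := by have := hsum f; omega
  have hb : (K d ⊔ K e) ⊓ K f = ⊥ := by
    rw [Submodule.eq_bot_iff]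
    intro u hu
    obtain ⟨h1, h2⟩ := Submodule.mem_inf.1 hu
    obtain ⟨s, hs, t, ht, rfl⟩ := Submodule.mem_sup.1 h1
    rw [hmem] at hs ht h2
    have h3 : (A.1 - d • 1) *ᵥ ((A.1 - e • 1) *ᵥ (s + t)) = 0 := by
      simp only [sub_mulVec, smul_mulVec, one_mulVec, mulVec_add, mulVec_sub, mulVec_smul, hs, ht, smul_smul]
      module
    have h4 : ((f - d) * (f - e)) • (s + t) = 0 := by
      rw [← h3]
      simp only [sub_mulVec, smul_mulVec, one_mulVec, mulVec_sub, mulVec_smul, h2, smul_smul]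
      module
    exact (smul_eq_zero.1 h4).resolve_left (mul_ne_zero (sub_ne_zero.2 hfd) (sub_ne_zero.2 hfe))
  have h1 := Submodule.finrank_sup_add_finrank_inf_eq (K d ⊔ K e) (K f)
  rw [hb, finrank_bot, add_zero, ← hdis d e (Ne.symm hed)] at h1
  have h2 := Submodule.finrank_le (K d ⊔ K e ⊔ K f)
  rw [Module.finrank_fin_fun] at h2
  omega

end Cfsg.Agent.Lib.LevCover
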