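import Cfsg.Agent.Lib.LevCover.Base3
import Cfsg.Agent.Lib.LevCover.Deg4

/-!
Every nonscalar target with a factorization free of shared eigenvectors.
-/

set_option autoImplicit false

namespace Cfsg.Agent.Lib.LevCover

open Matrix Polynomial
open Cfsg.Agent.Lib.Sourour (blk blk_mul blk_mulVec blk_one blk_00 blk_0s blk_s0 blk_ss eq_blk det_blk_upper
  cons_tail_eq exists_dot four_of_fintype)

variable {F : Type*} [Field F] {n : ℕ}

/-- No scalar translate has rank at most one. -/
def NonPseudo (A : Matrix (Fin n) (Fin n) F) : Prop := ∀ c : F, ¬Cfsg.Agent.Lib.Sourour.R1 (A - c • 1)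

theorem not_R1 {N : Matrix (Fin n) (Fin n) F} :
    ¬Cfsg.Agent.Lib.Sourour.R1 N ↔ 2 ≤ Module.finrank F (LinearMap.range N.mulVecLin) :=
  Cfsg.Agent.Lib.Sourour.not_R1_iff

theorem NonPseudo.not_scalar {A : Matrix (Fin n) (Fin n) F} (h : NonPseudo A) : ∀ c : F, A ≠ c • 1 := by
  intro c e
  exact h c ⟨0, fun u => ⟨0, by simp [e]⟩⟩

theorem rank_pair {A B : Matrix (Fin n) (Fin n) F} (h : A * B = 0) :
    Module.finrank F (LinearMap.range A.mulVecLin) + Module.finrank F (LinearMap.range B.mulVecLin) ≤ n := by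
  have h1 := LinearMap.finrank_range_add_finrank_ker A.mulVecLin
  rw [Module.finrank_fin_fun] at h1
  have h2 : Module.finrank F (LinearMap.range B.mulVecLin) ≤ Module.finrank F (LinearMap.ker A.mulVecLin) := by
    refine Submodule.finrank_mono ?_
    rintro _ ⟨u, rfl⟩
    rw [LinearMap.mem_ker, Matrix.mulVecLin_apply, Matrix.mulVecLin_apply, mulVec_mulVec, h, zero_mulVec]
  omega

theorem aeval_quad (A : Matrix (Fin n) (Fin n) F) {f : F[X]} (hfd : f.natDegree = 2) (hfm : f.Monic) :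
    aeval A f = A * A + f.coeff 1 • A + f.coeff 0 • 1 := by
  rw [aeval_eq_sum_range' (n := 3) (by omega), Finset.sum_range_succ, Finset.sum_range_succ, Finset.sum_range_one,
    show f.coeff 2 = 1 from hfd ▸ hfm.coeff_natDegree]
  simp only [pow_zero, pow_one, sq, one_smul]
  abel

theorem quad_roots {A : Matrix (Fin n) (Fin n) F} {t d : F} (hq : A * A = t • A - d • 1) {a : F}
    (h : a * a - t * a + d = 0) : (A - a • 1) * (A - (t - a) • 1) = 0 := by
  simp only [sub_mul, mul_sub, smul_mul_assoc, one_mul, mul_smul_comm, mul_one, hq, smul_sub, smul_smul]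
  rw [show d = a * (t - a) by linear_combination h, sub_smul]
  module

theorem noEig_of_quad {A : Matrix (Fin n) (Fin n) F} {t d : F} (hq : A * A = t • A - d • 1)
    (h : ∀ a : F, a * a - t * a + d ≠ 0) : NoEig A := by
  intro a u hu
  have h1 : (A * A) *ᵥ u = (a * a) • u := by rw [← mulVec_mulVec, hu, mulVec_smul, hu, smul_smul]
  rw [hq, sub_mulVec, smul_mulVec, smul_mulVec, one_mulVec, hu, smul_smul, ← sub_eq_zero, ← sub_smul, ← sub_smul,
    smul_eq_zero] at h1
  exact h1.resolve_left fun e => h a (by linear_combination -e)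

/-- Cyclic of degree three. -/
theorem cyc_three {A : GL (Fin 3) F} (hA : NonPseudo A.1) : ∃ w, Cyc A.1 w := by
  obtain ⟨v, hv⟩ := exists_max A.1
  refine ⟨v, cyc_of_eq_zero fun q hq h0 => by_contra fun hq0 => ?_⟩
  set f := minpoly F A.1 with hf
  have hfm : f.Monic := minpoly.monic (Matrix.isIntegral A.1)
  have hle := minpoly.degree_le_of_ne_zero F A.1 hq0 (hv q h0)
  rw [← hf, degree_eq_natDegree hfm.ne_zero, degree_eq_natDegree hq0, Nat.cast_le] at hle
  have hfA : aeval A.1 f = 0 := minpoly.aeval F A.1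
  have hd : f.natDegree ≠ 0 := fun e => by
    rw [hfm.natDegree_eq_zero.1 e, map_one] at hfA
    simpa using congrFun (congrFun hfA 0) 0
  rcases (show f.natDegree = 1 ∨ f.natDegree = 2 by omega) with e | e
  · refine hA.not_scalar (-f.coeff 0) ?_
    rw [hfm.eq_X_add_C e, map_add, aeval_X, aeval_C, Algebra.algebraMap_eq_smul_one] at hfA
    rw [eq_neg_of_add_eq_zero_left hfA, neg_smul]
  · have hq2 : A.1 * A.1 = (-f.coeff 1) • A.1 - f.coeff 0 • 1 := by
      rw [aeval_quad A.1 e hfm] at hfA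
      rw [← sub_eq_zero, ← hfA, neg_smul]; abel
    by_cases hr : ∃ a : F, a * a - -f.coeff 1 * a + f.coeff 0 = 0
    · obtain ⟨a, ha⟩ := hr
      have h1 := rank_pair (quad_roots hq2 ha)
      have h2 := not_R1.1 (hA a)
      have h3 := not_R1.1 (hA (-f.coeff 1 - a))
      omega
    · push Not at hr
      -- odd degree: a root free quadratic cannot kill
      have hNE := noEig_of_quad hq2 hr
      obtain ⟨m, k, h, g, C0, A2, P, hgm, hgd, -, -, -, -, hNE2, hgA, -, hmin⟩ :=
        exists_split A.1 (GeneralLinearGroup.det_ne_zero A) hNE.kerLine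
      have := natDegree_le_of_dvd (hmin f (minpoly.aeval F A.1)) hfm.ne_zero
      have hk : k ≠ 1 := fun e => by subst e; exact noEig_one hNE2
      have hg0 : g.natDegree ≠ 0 := fun e => by
        rw [hgm.natDegree_eq_zero.1 e, map_one] at hgA
        simpa using congrFun (congrFun hgA 0) 0
      have hg1 : g.natDegree ≠ 1 := fun e => by
        rw [hgm.eq_X_add_C e, map_add, aeval_X, aeval_C, Algebra.algebraMap_eq_smul_one] at hgA
        refine hA.not_scalar (-g.coeff 0) ?_
        rw [eq_neg_of_add_eq_zero_left hgA, neg_smul]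
      omega

theorem cyc_blk {Λ : F} {r : Fin n → F} {M : Matrix (Fin n) (Fin n) F} {w : Fin n → F} (hw : Cyc M w)
    (hΛ : M.charpoly.eval Λ ≠ 0) : ∃ v, Cyc (blk Λ r 0 M) v := by
  set q := M.charpoly with hq
  set N := blk Λ r 0 M
  have hpow : ∀ (p : F[X]) (t : F), ∃ s : F, aeval N p *ᵥ Fin.cons t w = Fin.cons (p.eval Λ * t + s) (aeval M p *ᵥ w) ∧
      ∀ t', aeval N p *ᵥ Fin.cons t' w = Fin.cons (p.eval Λ * t' + s) (aeval M p *ᵥ w) := by
    suffices h : ∀ (p : F[X]) (u : Fin n → F), ∃ s : F, ∀ t, aeval N p *ᵥ Fin.cons t u =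
        Fin.cons (p.eval Λ * t + s) (aeval M p *ᵥ u) by
      intro p t; obtain ⟨s, hs⟩ := h p w; exact ⟨s, hs t, hs⟩
    intro p
    induction p using Polynomial.induction_on with
    | C a =>
      intro u
      refine ⟨0, fun t => ?_⟩
      simp only [aeval_C, Algebra.algebraMap_eq_smul_one, smul_mulVec, one_mulVec, eval_C, add_zero]
      funext i
      induction i using Fin.cases <;> simp
    | add p p' hp hp' =>
      intro u
      obtain ⟨s, hs⟩ := hp u
      obtain ⟨s', hs'⟩ := hp' u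
      refine ⟨s + s', fun t => ?_⟩
      rw [map_add, map_add, add_mulVec, add_mulVec, hs, hs', eval_add]
      funext i
      induction i using Fin.cases <;> simp
      ring
    | monomial k a ih =>
      intro u
      obtain ⟨s, hs⟩ := ih (M *ᵥ u)
      refine ⟨(C a * Polynomial.X ^ k).eval Λ * (r ⬝ᵥ u) + s, fun t => ?_⟩
      rw [pow_succ, ← mul_assoc, map_mul, map_mul _ (_ * _) X, aeval_X, aeval_X, ← mulVec_mulVec, ← mulVec_mulVec,
        blk_mulVec, smul_zero, zero_add, hs]
      congr 1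
      simp
      ring
  obtain ⟨s, -, hs⟩ := hpow q 0
  refine ⟨Fin.cons ((1 - s) / q.eval Λ) w, cyc_of_eq_zero fun p hp h0 => ?_⟩
  obtain ⟨sp, hsp, -⟩ := hpow p ((1 - s) / q.eval Λ)
  rw [hsp] at h0
  have hbot : aeval M p *ᵥ w = 0 := funext fun i => by simpa using congrFun h0 i.succ
  have hqd : q.natDegree = n := by rw [hq, Matrix.charpoly_natDegree_eq_dim, Fintype.card_fin]
  have hmod : p %ₘ q = 0 := by
    rcases Nat.eq_zero_or_pos n with rfl | hn
    · have hq1 : q = 1 := M.charpoly_monic.natDegree_eq_zero.1 hqd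
      rw [hq1, modByMonic_one]
    refine hw.eq_zero ?_ ?_
    · rcases eq_or_ne (p %ₘ q) 0 with h | h
      · rw [h, natDegree_zero]; exact hn
      · exact lt_of_lt_of_eq (natDegree_lt_natDegree h (degree_modByMonic_lt p M.charpoly_monic)) hqd
    · have h2 : aeval M (p %ₘ q) = aeval M p := by
        conv_rhs => rw [← modByMonic_add_div p q, map_add, map_mul, hq, Matrix.aeval_self_charpoly, zero_mul, add_zero]
      rw [h2, hbot]
  obtain ⟨c, rfl⟩ := (modByMonic_eq_zero_iff_dvd M.charpoly_monic).1 hmod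
  by_cases hc : c = 0
  · rw [hc, mul_zero]
  have hc0 : c.natDegree = 0 := by
    rw [natDegree_mul M.charpoly_monic.ne_zero hc, ← hq, hqd] at hp; omega
  obtain ⟨e, rfl⟩ := natDegree_eq_zero.1 hc0
  have h1 : aeval N (q * C e) *ᵥ Fin.cons ((1 - s) / q.eval Λ) w = e • Fin.cons 1 0 := by
    rw [mul_comm, map_mul, aeval_C, Algebra.algebraMap_eq_smul_one, smul_mul_assoc, one_mul, smul_mulVec, hs]
    congr 1
    rw [mul_div_cancel₀ _ hΛ, sub_add_cancel, hq, Matrix.aeval_self_charpoly, zero_mulVec]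
  rw [← hsp, h1] at h0
  have he : e = 0 := by simpa using congrFun h0 0
  exact absurd (by rw [he, map_zero]) hc

theorem block_three [Fintype F] (h4 : 4 ≤ Fintype.card F) {A : GL (Fin 3) F} (hA : ∃ w, Cyc A.1 w) {μ : F}
    (hμ : μ ≠ 0) :
    ∃ X : GL (Fin 3) F, One ⊤ A 2 X ∧ (∃ w, Cyc X.1 w) ∧ X.1.charpoly = (Polynomial.X - C 1) *
      ((Polynomial.X - C μ) * (Polynomial.X - C ((GeneralLinearGroup.det A : F) ^ 2 / μ))) := by
  obtain ⟨w, hw⟩ := hA
  set f := A.1.charpoly with hf
  have hfd : f.natDegree = 3 := by rw [hf, Matrix.charpoly_natDegree_eq_dim, Fintype.card_fin]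
  have hcd : (comp 3 f).det = A.1.det := by
    rw [Matrix.det_eq_sign_charpoly_coeff, comp_charpoly A.1.charpoly_monic hfd,
      ← Matrix.det_eq_sign_charpoly_coeff]
  have hf0 : f.coeff 0 ≠ 0 := fun h => GeneralLinearGroup.det_ne_zero A (by
    rw [Matrix.det_eq_sign_charpoly_coeff, ← hf, h, mul_zero])
  obtain ⟨B, hB⟩ := exists_GL (S := comp 3 f) (hcd ▸ GeneralLinearGroup.det_ne_zero A)
  obtain ⟨P, hP, -⟩ := exists_similar (X := A) (Y := B) hw (w := Pi.single (0 : Fin 3) 1)
    (by rw [hB]; exact comp_cyc f (by omega)) (by rw [hB, comp_charpoly A.1.charpoly_monic hfd])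
  obtain ⟨D, hD, -, hblk⟩ := block_big (four_of_fintype h4) 0 hf0 (x0 := 1) one_ne_zero
  obtain ⟨T, X, -, hX, hz, hd0, hd1, hKX, -, -⟩ := hblk μ hμ
  set XG := T * B * T⁻¹ * B with hXG
  have hXv : XG.1 = X := by rw [hXG, hX, Units.val_mul, Units.val_mul, Units.val_mul, hB]
  obtain ⟨wX, hwX⟩ := exists_cyc_of_ker 3 X hz hKX
  have h00 : X 0 0 = 1 := hd0 0 (by simp)
  have h11 : X 1 1 = μ := hd1
  have hdet : X.det = A.1.det ^ 2 := by
    rw [hX, det_mul, det_mul, det_mul, mul_right_comm T.1.det, ← det_mul, Units.mul_inv, det_one, one_mul, hcd, sq]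
  rw [Matrix.det_of_isUpperTriangular (fun i j h => hz i j h), Fin.prod_univ_three, h00, h11, one_mul] at hdet
  have hone : One ⊤ B 2 XG := One.mul (one_one_iff.2 ⟨T, Subgroup.mem_top _, rfl⟩) (one_one_iff.2 (Fac.self _ B))
  refine ⟨P * XG * P⁻¹, hP ▸ hone.transport P, ⟨_, cyc_conj P XG (hXv ▸ hwX)⟩, ?_⟩
  rw [Units.val_mul, Units.val_mul, Matrix.charpoly_mul_comm, ← mul_assoc, Units.inv_mul, one_mul, hXv,
    charpoly_upper hz (l := fun i => X i i) fun _ => rfl, Fin.prod_univ_three, h00, h11, det_val, ← hdet,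
    mul_div_cancel_left₀ _ hμ, mul_assoc]

theorem three_irr [Fintype F] (h4 : 4 ≤ Fintype.card F) {A : GL (Fin 3) F} (hA : NonPseudo A.1) (hNE : NoEig A.1)
    {g : GL (Fin 3) F} (hg : ∀ c : F, g.1 ≠ c • 1)
    (hdet : GeneralLinearGroup.det g = GeneralLinearGroup.det A ^ 3) : NF A 3 g := by
  classical
  refine NF.of_noEig hNE (by omega) ?_
  set δ := (GeneralLinearGroup.det A : F) ^ 2 with hδ
  obtain ⟨μ, hμ0, hμ1, hμδ, -⟩ := avoid_pm h4 1 δ
  obtain ⟨B, P, r, M, hB, hH, hMt, hM10, -⟩ := three_tune (cyc_three hA) hg one_ne_zero (μ + δ / μ)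
  set h := P⁻¹ * (B⁻¹ * g) * P with hh
  obtain ⟨S, -, hS⟩ := hB
  have hdh : GeneralLinearGroup.det h = GeneralLinearGroup.det A ^ 2 := by
    rw [hh, hS, map_mul, map_mul, map_inv, mul_comm (GeneralLinearGroup.det P)⁻¹, inv_mul_cancel_right, map_mul,
      map_inv, map_mul, map_mul, map_inv, hdet, mul_comm (GeneralLinearGroup.det S), mul_inv_cancel_right,
      pow_succ', inv_mul_cancel_left]
  have hMd : M.1.det = δ := by
    have h1 := congrArg Units.val hdh
    rw [Units.val_pow_eq_pow_val, det_val, hH, det_blk_upper, one_mul] at h1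
    exact h1
  have hMp : M.1.charpoly = (Polynomial.X - C μ) * (Polynomial.X - C (δ / μ)) := by
    rw [Matrix.charpoly_fin_two, hMt, hMd, C_add]
    conv_lhs => rw [show δ = μ * (δ / μ) from (mul_div_cancel₀ δ hμ0).symm, C_mul,
      ← show δ = μ * (δ / μ) from (mul_div_cancel₀ δ hμ0).symm]
    ring
  obtain ⟨v, hv⟩ := cyc_blk (Λ := 1) (r := r) (M := M.1) (w := Pi.single 0 1) (cyc_two (by simp) fun c e => by
      have h1 := congrFun e 1
      simp [mulVec_single_one] at h1
      exact hM10 h1) (by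
    rw [hMp]
    simp
    refine ⟨sub_ne_zero.2 (Ne.symm hμ1), sub_ne_zero.2 fun e => hμδ ?_⟩
    rw [eq_div_iff hμ0, one_mul] at e
    exact e)
  rw [← hH] at hv
  obtain ⟨X, hX, hXc, hXp⟩ := block_three h4 (cyc_three hA) hμ0
  obtain ⟨wX, hwX⟩ := hXc
  have hhp : h.1.charpoly = X.1.charpoly := by
    rw [hXp, ← hδ, ← hMp, hH]
    have : blk (1 : F) r 0 M.1 = Matrix.reindex finSumFinEquiv finSumFinEquiv
        (Matrix.fromBlocks (1 : Matrix (Fin 1) (Fin 1) F) (Matrix.of fun _ j => r j) 0 M.1) := by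
      ext i j
      fin_cases i <;> fin_cases j <;> rfl
    rw [this, Matrix.charpoly_reindex, Matrix.charpoly_fromBlocks_zero₂₁, Matrix.charpoly_one, Fintype.card_fin,
      pow_one, map_one]
  obtain ⟨R, hR, -⟩ := exists_similar hv hwX hhp
  have hone : One ⊤ A 2 (B⁻¹ * g) := by
    have := ((hX.conj (S := R) (Subgroup.mem_top _)).conj (S := P) (Subgroup.mem_top _))
    rwa [← hR, show P * h * P⁻¹ = B⁻¹ * g by rw [hh]; group] at this
  have := One.mul (one_one_iff.2 (⟨S, Subgroup.mem_top _, hS⟩ : Fac ⊤ A B)) hone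
  rwa [mul_inv_cancel_left] at this

/-- A quadratic matrix of degree four in two blocks. -/
theorem quad_form {A : GL (Fin 4) F} {t d : F} (hq : A.1 * A.1 = t • A.1 - d • 1) (hA : NonPseudo A.1) :
    d ≠ 0 ∧ ∃ (P : GL (Fin 4) F) (C0 : Matrix (Fin 2) (Fin 2) F),
      A.1 * P.1 = P.1 * glue (cmp2 t d) C0 (cmp2 t d) := by
  have hd : d ≠ 0 := by
    rintro rfl
    refine hA.not_scalar t ?_
    rw [zero_smul, sub_zero] at hq
    have := congrArg ((A⁻¹).1 * ·) hq
    simpa [← mul_assoc] using this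
  refine ⟨hd, ?_⟩
  obtain ⟨u, hu0, hu⟩ := exists_not_eig hA.not_scalar
  obtain ⟨P, hP⟩ := extend_cols (show 2 ≤ 4 by omega) ![u, A.1 *ᵥ u] (pair_indep hu0 hu)
  have hP0 : P.1 *ᵥ Pi.single 0 1 = u := hP 0
  have hP1 : P.1 *ᵥ Pi.single 1 1 = A.1 *ᵥ u := hP 1
  set B := (P⁻¹ * A * P).1 with hB
  have hPB : A.1 * P.1 = P.1 * B := by rw [hB, ← Units.val_mul, ← Units.val_mul]; congr 1; group
  have hB0 : B *ᵥ Pi.single 0 1 = Pi.single 1 1 := by
    rw [hB, Units.val_mul, Units.val_mul, ← mulVec_mulVec, ← mulVec_mulVec, hP0, ← hP1, mulVec_mulVec,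
      Units.inv_mul, one_mulVec]
  have hB1 : B *ᵥ Pi.single 1 1 = t • Pi.single 1 1 - d • Pi.single 0 1 := by
    rw [hB, Units.val_mul, Units.val_mul, ← mulVec_mulVec, ← mulVec_mulVec, hP1, mulVec_mulVec u A.1 A.1, hq, sub_mulVec,
      smul_mulVec, smul_mulVec, one_mulVec, ← hP1, ← hP0, ← mulVec_smul, ← mulVec_smul, ← mulVec_sub,
      mulVec_mulVec, Units.inv_mul, one_mulVec]
  set C1 : Matrix (Fin 2) (Fin 2) F := Matrix.of fun i j => B (Fin.castAdd 2 i) (Fin.natAdd 2 j)
  set M : Matrix (Fin 2) (Fin 2) F := Matrix.of fun i j => B (Fin.natAdd 2 i) (Fin.natAdd 2 j)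
  have hBg : B = glue (cmp2 t d) C1 M := by
    ext i j
    refine Fin.addCases (m := 2) (n := 2) (fun i => ?_) (fun i => ?_) i <;>
      refine Fin.addCases (m := 2) (n := 2) (fun j => ?_) (fun j => ?_) j
    · rw [glue_castAdd]
      have e0 := congrFun hB0 (Fin.castAdd 2 i)
      have e1 := congrFun hB1 (Fin.castAdd 2 i)
      fin_cases i <;> fin_cases j <;> simp [mulVec_single_one] at e0 e1 ⊢ <;> simp [cmp2, e0, e1]
    · rw [glue_castAdd_natAdd]; rfl
    · rw [glue_natAdd_castAdd]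
      have e0 := congrFun hB0 (Fin.natAdd 2 i)
      have e1 := congrFun hB1 (Fin.natAdd 2 i)
      fin_cases i <;> fin_cases j <;> simp [mulVec_single_one] at e0 e1 ⊢ <;> simp [e0, e1]
    · rw [glue_natAdd]; rfl
  have hBq : B * B = t • B - d • 1 := by
    apply (Units.mul_right_inj P).1
    rw [← mul_assoc, ← hPB, mul_assoc, ← hPB, ← mul_assoc, hq, sub_mul, smul_mul_assoc, smul_mul_assoc, one_mul,
      hPB, mul_sub, mul_smul_comm, mul_smul_comm, mul_one]
  have hMq : M * M = t • M - d • 1 := by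
    rw [hBg, glue_mul] at hBq
    ext i j
    have := congrFun (congrFun hBq (Fin.natAdd 2 i)) (Fin.natAdd 2 j)
    rw [glue_natAdd, Matrix.sub_apply, Matrix.smul_apply, Matrix.smul_apply, glue_natAdd] at this
    rw [this, Matrix.sub_apply, Matrix.smul_apply, Matrix.smul_apply]
    simp [Matrix.one_apply, Fin.ext_iff]
  obtain ⟨w, hw0, hw⟩ : ∃ w : Fin 2 → F, w ≠ 0 ∧ ∀ c : F, M *ᵥ w ≠ c • w := by
    refine exists_not_eig fun c hc => ?_
    have h2 := not_R1.1 (hA c)
    -- the image sits inside the first plane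
    have hsub : ∀ x, ∃ a b : F, (A.1 - c • 1) *ᵥ x = a • u + b • (A.1 *ᵥ u) := by
      intro x
      obtain ⟨z1, z2, hz⟩ : ∃ z1 z2 : Fin 2 → F, (P⁻¹).1 *ᵥ x = Fin.append z1 z2 :=
        ⟨fun i => ((P⁻¹).1 *ᵥ x) (Fin.castAdd 2 i), fun i => ((P⁻¹).1 *ᵥ x) (Fin.natAdd 2 i),
          (Fin.append_castAdd_natAdd (f := (P⁻¹).1 *ᵥ x) (m := 2) (n := 2)).symm⟩
      set y := (cmp2 t d - c • 1) *ᵥ z1 + C1 *ᵥ z2 with hy
      refine ⟨y 0, y 1, ?_⟩
      have hx : x = P.1 *ᵥ Fin.append z1 z2 := by rw [← hz, mulVec_mulVec, Units.mul_inv, one_mulVec]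
      rw [hx, ← hP1, ← hP0, ← mulVec_smul, ← mulVec_smul, ← mulVec_add, mulVec_mulVec, sub_mul, smul_mul_assoc,
        one_mul, hPB, ← mul_one (c • P.1), smul_mul_assoc, ← mul_smul_comm, ← mul_sub, ← mulVec_mulVec]
      congr 1
      rw [sub_mulVec, smul_mulVec, one_mulVec, hBg, glue_mulVec, hc, smul_mulVec, one_mulVec]
      funext i
      refine Fin.addCases (m := 2) (n := 2) (fun i => ?_) (fun i => ?_) i
      · rw [Pi.sub_apply, Pi.smul_apply, Fin.append_left, Fin.append_left]
        fin_cases i <;> simp [hy, sub_mulVec, smul_mulVec, Matrix.vecHead, Matrix.vecTail] <;> ring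
      · rw [Pi.sub_apply, Pi.smul_apply, Fin.append_right, Fin.append_right]
        fin_cases i <;> simp
    have hle : LinearMap.range (A.1 - c • 1).mulVecLin ≤ Submodule.span F (Set.range ![u, A.1 *ᵥ u]) := by
      rintro _ ⟨x, rfl⟩
      obtain ⟨a, b, hab⟩ := hsub x
      rw [Matrix.mulVecLin_apply, hab]
      exact Submodule.add_mem _ (Submodule.smul_mem _ _ (Submodule.subset_span ⟨0, rfl⟩))
        (Submodule.smul_mem _ _ (Submodule.subset_span ⟨1, rfl⟩))
    have heq : LinearMap.range (A.1 - c • 1).mulVecLin = Submodule.span F (Set.range ![u, A.1 *ᵥ u]) := by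
      refine Submodule.eq_of_le_of_finrank_le hle ?_
      rw [finrank_span_eq_card (pair_indep hu0 hu), Fintype.card_fin]
      exact h2
    obtain ⟨x, hx⟩ : u ∈ LinearMap.range (A.1 - c • 1).mulVecLin := by
      rw [heq]; exact Submodule.subset_span ⟨0, rfl⟩
    rw [Matrix.mulVecLin_apply] at hx
    have hcd : c * c - t * c + d = 0 := by
      have h0 := congrFun (congrFun hMq 0) 0
      rw [hc] at h0
      simp [Matrix.mul_apply, Fin.sum_univ_two] at h0
      linear_combination h0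
    have h1 := congrArg ((A.1 - (t - c) • 1) *ᵥ ·) hx
    rw [show t - c = t - c from rfl] at h1
    simp only [mulVec_mulVec] at h1
    rw [show (A.1 - (t - c) • 1) * (A.1 - c • 1) = 0 by
      have := quad_roots hq (a := t - c) (by linear_combination hcd)
      rwa [sub_sub_cancel] at this, zero_mulVec, sub_mulVec, smul_mulVec, one_mulVec, eq_comm, sub_eq_zero] at h1
    exact hu (t - c) h1
  obtain ⟨K, hK⟩ := exists_GL (S := kry M w) (cyc_two hw0 hw)
  have hMK : M * K.1 = K.1 * cmp2 t d := by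
    rw [hK]
    refine Matrix.ext_of_mulVec_single fun j => ?_
    rw [← mulVec_mulVec, ← mulVec_mulVec, kry_single]
    fin_cases j
    · simp only [Fin.zero_eta, Fin.val_zero, pow_zero, one_mulVec]
      rw [show cmp2 t d *ᵥ Pi.single (0 : Fin 2) 1 = Pi.single 1 1 by
        funext i; fin_cases i <;> simp [cmp2, mulVec_single_one], kry_single]
      simp
    · simp only [Fin.mk_one, Fin.val_one, pow_one]
      rw [mulVec_mulVec, hMq, show cmp2 t d *ᵥ Pi.single (1 : Fin 2) 1 =
        t • Pi.single 1 1 - d • Pi.single 0 1 by funext i; fin_cases i <;> simp [cmp2, mulVec_single_one],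
        mulVec_sub, mulVec_smul, mulVec_smul, kry_single, kry_single, sub_mulVec, smul_mulVec, smul_mulVec,
        one_mulVec]
      simp
  refine ⟨P * diagGL 1 K, C1 * K.1, ?_⟩
  rw [Units.val_mul, ← mul_assoc, hPB, mul_assoc, mul_assoc, hBg]
  congr 1
  show glue (cmp2 t d) C1 M * glue 1 0 K.1 = glue 1 0 K.1 * glue (cmp2 t d) (C1 * K.1) (cmp2 t d)
  rw [glue_mul, glue_mul, hMK]
  simp only [Matrix.one_mul, Matrix.mul_one, Matrix.mul_zero, Matrix.zero_mul, zero_add, add_zero]

theorem rightSafe_of_root {C X : Matrix (Fin n) (Fin n) F} {μ : F} (h : X.charpoly.eval μ ≠ 0) :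
    RightSafe C X μ := by
  intro w c hw hXw
  refine absurd ?_ h
  rw [Matrix.eval_charpoly]
  refine Matrix.exists_mulVec_eq_zero_iff.1 ⟨w, hw, ?_⟩
  rw [sub_mulVec, hXw, sub_eq_zero]
  funext i
  simp [Matrix.scalar_apply, Matrix.mulVec_diagonal]

/-- Degree four with a quadratic minimal polynomial. -/
theorem four_quad [Fintype F] (h4 : 4 ≤ Fintype.card F) {A : GL (Fin 4) F} {t d : F}
    (hq : A.1 * A.1 = t • A.1 - d • 1) (hA : NonPseudo A.1) {g : GL (Fin 4) F}
    (hdet : GeneralLinearGroup.det g = GeneralLinearGroup.det A ^ 4)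
    (hg : (∀ c : F, g.1 ≠ c • 1) ∨ g.1 = (GeneralLinearGroup.det A : F) • 1) :
    One ⊤ A 4 g ∧ NF A 4 g := by
  classical
  have h4F := four_of_fintype h4
  obtain ⟨hd, P, C0, hAP⟩ := quad_form hq hA
  have hD : (GeneralLinearGroup.det A : F) = d * d := by
    have h1 := congrArg Matrix.det hAP
    rw [det_mul, det_mul, mul_comm, glue_det, cmp2, det_fin_two_of] at h1
    rw [det_val, mul_left_cancel₀ (GeneralLinearGroup.det_ne_zero P) h1]
    ring
  have hroot : ∀ (a : F) (w : Fin 4 → F), A.1 *ᵥ w = a • w → w ≠ 0 → a * a - t * a + d = 0 := by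
    intro a w hw hw0
    have h1 : (A.1 * A.1) *ᵥ w = (a * a) • w := by rw [← mulVec_mulVec, hw, mulVec_smul, hw, smul_smul]
    rw [hq, sub_mulVec, smul_mulVec, smul_mulVec, one_mulVec, hw, smul_smul, ← sub_eq_zero, ← sub_smul,
      ← sub_smul, smul_eq_zero] at h1
    linear_combination -(h1.resolve_right hw0)
  have hok : ∀ x0 : F, x0 ≠ 0 → x0 * x0 ≠ d * d → OK2 t d x0 := fun x0 h1 h2 => ⟨h1, Or.inl h2⟩
  have hok' : ∀ x0 : F, x0 ≠ 0 → x0 * x0 ≠ d * d → OK2 t d (d * d / x0) := fun x0 h1 h2 =>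
    hok _ (div_ne_zero (mul_ne_zero hd hd) h1) fun e => h2 (by
      field_simp at e
      linear_combination -e)
  have run : ∀ x0 : F, x0 ≠ 0 → x0 * x0 ≠ d * d →
      (∀ (a : F), a * a - t * a + d = 0 →
        (a * a = x0 ∨ a * a = d * d / x0) ∨
          ((a * a - x0) * (a * a - d * d / x0) ≠ 0 ∧ ∀ b : F, b * b - t * b + d = 0 → b * b = a * a)) →
      One ⊤ A 4 g ∧ NF A 4 g := by
    intro x0 h1 h2 hcase
    obtain ⟨T, B, X, hAB, hX, hXc, hXp, hR⟩ := four_twos h4F A hd hAP (hok x0 h1 h2)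
    obtain ⟨T', B', X', hAB', hX', hXc', hXp', hR'⟩ := four_twos h4F A hd hAP (hok' x0 h1 h2)
    have hl0 : ∀ i, ![x0, x0, d * d / x0, d * d / x0] i ≠ 0 := fun i => by
      fin_cases i <;> simp [h1, hd]
    have hXp'' : X'.1.charpoly = ∏ i, (Polynomial.X - C ((GeneralLinearGroup.det A : F) *
        (![x0, x0, d * d / x0, d * d / x0] i)⁻¹)) := by
      rw [hXp', hD]
      refine Finset.prod_congr rfl fun i _ => ?_
      refine congrArg (fun e => Polynomial.X - C e) ?_
      fin_cases i <;> simp <;> field_simp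
    by_cases hbig : ∃ a, a * a - t * a + d = 0 ∧ (a * a - x0) * (a * a - d * d / x0) ≠ 0
    · obtain ⟨a, ha, hne⟩ := hbig
      have hone : ∀ b, b * b - t * b + d = 0 → b * b = a * a := by
        rcases hcase a ha with (h | h) | ⟨-, h⟩
        · exact absurd (by rw [h, sub_self, zero_mul]) hne
        · exact absurd (by rw [h, sub_self, mul_zero]) hne
        · exact h
      have hRa : RightSafe B.1 X.1 (a * a) := rightSafe_of_root (by
        rw [hXp, Fin.prod_univ_four]
        obtain ⟨e1, e2⟩ := mul_ne_zero_iff.1 hne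
        simp [e1, e2])
      obtain ⟨h, hnf⟩ := four_join h4 hdet hg (contig_pairs x0 (d * d / x0)) hl0 hAB hX hXc hXp hRa hAB' hX'
        hXc' hXp'' hR'
      exact ⟨h, hnf fun b w hw hw0 => Or.inl (hone b (hroot b w hw hw0))⟩
    · push Not at hbig
      obtain ⟨h, hnf⟩ := four_join h4 hdet hg (contig_pairs x0 (d * d / x0)) hl0 hAB hX hXc hXp hR hAB' hX'
        hXc' hXp'' hR'
      refine ⟨h, hnf fun b w hw hw0 => ?_⟩
      rcases mul_eq_zero.1 (hbig b (hroot b w hw hw0)) with e | e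
      · exact Or.inl (sub_eq_zero.1 e)
      · exact Or.inr (sub_eq_zero.1 e)
  by_cases hc : ∃ a : F, a * a - t * a + d = 0 ∧ a * a * (a * a) ≠ d * d
  · obtain ⟨a, ha, hne⟩ := hc
    have ha0 : a ≠ 0 := fun e => hd (by rw [e] at ha; linear_combination ha)
    refine run (a * a) (mul_ne_zero ha0 ha0) hne fun b hb => Or.inl ?_
    have h1 : (b - a) * (b + a - t) = 0 := by linear_combination hb - ha
    rcases mul_eq_zero.1 h1 with e | e
    · left; rw [sub_eq_zero.1 e]
    · right
      rw [eq_div_iff (mul_ne_zero ha0 ha0), show b = t - a by linear_combination e]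
      linear_combination -(a * (t - a) + d) * ha
  · push Not at hc
    obtain ⟨x0, h1, h2, h3⟩ := h4F 0 d (-d)
    have hsq : x0 * x0 ≠ d * d := fun e => by
      rcases mul_self_eq_mul_self_iff.1 e with h | h
      exacts [h2 h, h3 h]
    refine run x0 h1 hsq fun a ha => Or.inr ⟨?_, fun b hb => ?_⟩
    · intro e
      rcases mul_eq_zero.1 e with e | e
      · exact hsq (by rw [← sub_eq_zero.1 e]; exact hc a ha)
      · have e' := sub_eq_zero.1 e
        rw [eq_div_iff h1] at e'
        refine hsq ?_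
        have : (a * a * x0) * (a * a * x0) = d * d * (d * d) := by rw [e']
        apply mul_left_cancel₀ (mul_ne_zero hd hd)
        linear_combination this - x0 * x0 * hc a ha
    · have h1' : (b - a) * (b + a - t) = 0 := by linear_combination hb - ha
      rcases mul_eq_zero.1 h1' with e | e
      · rw [sub_eq_zero.1 e]
      · have hab : a * b = d := by
          rw [show b = t - a by linear_combination e]; linear_combination -ha
        apply mul_left_cancel₀ (a := a * a) (mul_ne_zero (fun h => hd (by rw [← hab, h, zero_mul]))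
          (fun h => hd (by rw [← hab, h, zero_mul])))
        linear_combination (a * b + d) * hab - hc a ha

theorem NoEig.nonPseudo {A : Matrix (Fin n) (Fin n) F} (hA : NoEig A) (hn : 2 ≤ n) : NonPseudo A := by
  intro c h
  have h1 : Module.finrank F (LinearMap.range (A - c • 1).mulVecLin) < 2 := by
    by_contra hlt
    exact not_R1.2 (not_lt.1 hlt) h
  have h2 := LinearMap.finrank_range_add_finrank_ker (A - c • 1).mulVecLin
  rw [Module.finrank_fin_fun] at h2
  have h3 : LinearMap.ker (A - c • 1).mulVecLin ≠ ⊥ := fun e => by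
    rw [e, finrank_bot] at h2
    omega
  obtain ⟨u, hu, hu0⟩ := (Submodule.ne_bot_iff _).1 h3
  refine hu0 (hA c u ?_)
  rwa [LinearMap.mem_ker, Matrix.mulVecLin_apply, sub_mulVec, smul_mulVec, one_mulVec, sub_eq_zero] at hu

theorem weak_four [Fintype F] (h4 : 4 ≤ Fintype.card F) {A : GL (Fin 4) F} (hNE : NoEig A.1) {g : GL (Fin 4) F}
    (hdet : GeneralLinearGroup.det g = GeneralLinearGroup.det A ^ 4)
    (hg : (∀ c : F, g.1 ≠ c • 1) ∨ g.1 = (GeneralLinearGroup.det A : F) • 1) : One ⊤ A 4 g := by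
  by_cases hc : ∃ w, Cyc A.1 w
  · have h4F := four_of_fintype h4
    set D := (GeneralLinearGroup.det A : F) with hD
    have hD0 : D ≠ 0 := Units.ne_zero _
    obtain ⟨P, T, B, X, hA, -, hX, hXc, -, hXp, hR⟩ := four_block h4F A hc (x0 := 1) (x := 1) one_ne_zero one_ne_zero
    obtain ⟨P', T', B', X', hA', -, hX', hXc', -, hXp', hR'⟩ := four_block h4F A hc (x0 := D) (x := D) hD0 hD0
    refine (four_join h4 hdet hg (contig_three 1 (D ^ 2)) (fun i => by fin_cases i <;> simp [hD0]) hA hX hXc ?_ hR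
      hA' hX' hXc' ?_ hR').1
    · rw [hXp]
      refine Finset.prod_congr rfl fun i _ => congrArg (fun e => Polynomial.X - C e) ?_
      fin_cases i <;> simp [← hD]
    · rw [hXp']
      refine Finset.prod_congr rfl fun i _ => congrArg (fun e => Polynomial.X - C e) ?_
      fin_cases i <;> simp [← hD] <;> field_simp
  · obtain ⟨m, k, h, f, C0, A2, P, hfm, hfd, -, hP, hAP, -, hNE2, hfA, -, hmin⟩ :=
      exists_split A.1 (GeneralLinearGroup.det_ne_zero A) hNE.kerLine
    have hm1 : m ≠ 1 := by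
      rintro rfl
      rw [hfm.eq_X_add_C hfd, map_add, aeval_X, aeval_C, Algebra.algebraMap_eq_smul_one] at hfA
      exact (hNE.nonPseudo (by norm_num)).not_scalar (-f.coeff 0)
        (by rw [eq_neg_of_add_eq_zero_left hfA, neg_smul])
    have hm0 : m ≠ 0 := fun e => by
      rw [hfm.natDegree_eq_zero.1 (hfd.trans e), map_one] at hfA
      simpa using congrFun (congrFun hfA 0) 0
    have hk : k ≠ 1 := fun e => by subst e; exact noEig_one hNE2
    obtain rfl : m = 2 := by
      rcases (show m = 2 ∨ m = 4 by omega) with e | e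
      · exact e
      · obtain ⟨v, hv⟩ := exists_max A.1
        refine absurd ⟨v, cyc_of_eq_zero fun q hq h0 => by_contra fun hq0 => ?_⟩ hc
        have := natDegree_le_of_dvd (hmin q (hv q h0)) hq0
        omega
    have hq : A.1 * A.1 = (-f.coeff 1) • A.1 - f.coeff 0 • 1 := by
      rw [aeval_quad A.1 hfd hfm] at hfA
      rw [← sub_eq_zero, ← hfA, neg_smul]; abel
    exact (four_quad h4 hq (hNE.nonPseudo (by norm_num)) hdet hg).1

theorem quot_range {m : ℕ} {A Q : GL (Fin (m + 1)) F} {a : F} {x : Fin m → F} {A' : Matrix (Fin m) (Fin m) F}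
    (hA : A.1 * Q.1 = Q.1 * blk a x 0 A') {c : F} {r : Fin m → F} (hr : ∀ u, ∃ e : F, (A' - c • 1) *ᵥ u = e • r) :
    LinearMap.range (A.1 - c • 1).mulVecLin ≤
      Submodule.span F (Set.range ![Q.1 *ᵥ Pi.single 0 1, Q.1 *ᵥ Fin.cons 0 r]) := by
  rintro _ ⟨y, rfl⟩
  obtain ⟨z, hz⟩ : ∃ z, z = (Q⁻¹).1 *ᵥ y := ⟨_, rfl⟩
  have hy : y = Q.1 *ᵥ z := by rw [hz, mulVec_mulVec, Units.mul_inv, one_mulVec]
  obtain ⟨e, he⟩ := hr fun i => z i.succ
  rw [sub_mulVec, smul_mulVec, one_mulVec] at he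
  have h1 : (A.1 - c • 1) *ᵥ y =
      ((a - c) * z 0 + x ⬝ᵥ fun i => z i.succ) • (Q.1 *ᵥ Pi.single 0 1) + e • (Q.1 *ᵥ Fin.cons 0 r) := by
    rw [sub_mulVec, smul_mulVec, one_mulVec, hy, mulVec_mulVec, hA, ← mulVec_mulVec, ← mulVec_smul, ← mulVec_sub,
      ← mulVec_smul, ← mulVec_smul, ← mulVec_add]
    congr 1
    conv_lhs => rw [← cons_tail_eq z, blk_mulVec]
    funext i
    induction i using Fin.cases with
    | zero => simp; ring
    | succ i =>
      have := congrFun he i
      simpa [Fin.succ_ne_zero] using this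
  rw [Matrix.mulVecLin_apply, h1]
  exact Submodule.add_mem _ (Submodule.smul_mem _ _ (Submodule.subset_span ⟨0, rfl⟩))
    (Submodule.smul_mem _ _ (Submodule.subset_span ⟨1, rfl⟩))

theorem quot_not_scalar {m : ℕ} {A Q : GL (Fin (m + 1)) F} {a : F} {x : Fin m → F} {A' : Matrix (Fin m) (Fin m) F}
    (hA : A.1 * Q.1 = Q.1 * blk a x 0 A') (hN : NonPseudo A.1) : ∀ c : F, A' ≠ c • 1 := by
  intro c e
  have h1 := quot_range hA (c := c) (r := 0) fun u => ⟨0, by rw [e]; simp⟩
  have h2 : Submodule.span F (Set.range ![Q.1 *ᵥ Pi.single 0 1, Q.1 *ᵥ Fin.cons (0 : F) (0 : Fin m → F)]) ≤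
      Submodule.span F {Q.1 *ᵥ Pi.single 0 1} := by
    rw [Submodule.span_le]
    rintro _ ⟨i, rfl⟩
    fin_cases i
    · exact Submodule.subset_span rfl
    · have : (Fin.cons (0 : F) (0 : Fin m → F) : Fin (m + 1) → F) = 0 := by
        funext i; induction i using Fin.cases <;> simp
      simp [this]
  have h3 := Submodule.finrank_mono (h1.trans h2)
  have h4 := not_R1.1 (hN c)
  have h5 : Module.finrank F (Submodule.span F ({Q.1 *ᵥ Pi.single 0 1} : Set (Fin (m + 1) → F))) ≤ 1 :=
    Cfsg.Agent.Lib.Sourour.finrank_span_singleton_le _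
  omega

theorem exists_good_quot {m : ℕ} {A : GL (Fin (m + 1)) F} (hm : 4 ≤ m + 1) (hA : NonPseudo A.1)
    (he : ∃ (a : F) (v : Fin (m + 1) → F), v ≠ 0 ∧ A.1 *ᵥ v = a • v)
    (hq : m + 1 = 4 → ∀ t d : F, A.1 * A.1 ≠ t • A.1 - d • 1) :
    ∃ (a : F) (Q : GL (Fin (m + 1)) F) (x : Fin m → F) (A' : GL (Fin m) F),
      A.1 * Q.1 = Q.1 * blk a x 0 A'.1 ∧ NonPseudo A'.1 := by
  classical
  obtain ⟨a, v, hv0, hv, hgood⟩ : ∃ (a : F) (v : Fin (m + 1) → F), v ≠ 0 ∧ A.1 *ᵥ v = a • v ∧
      ∀ c : F, Module.finrank F (LinearMap.range (A.1 - c • 1).mulVecLin) ≤ 2 → v ∉ LinearMap.range (A.1 - c • 1).mulVecLin := by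
    by_cases hc : ∃ c : F, Module.finrank F (LinearMap.range (A.1 - c • 1).mulVecLin) ≤ 2
    · obtain ⟨c, hc⟩ := hc
      have hker : ∀ c : F, Module.finrank F (LinearMap.range (A.1 - c • 1).mulVecLin) ≤ 2 →
          m + 1 ≤ Module.finrank F (LinearMap.ker (A.1 - c • 1).mulVecLin) + 2 := by
        intro c hc
        have := LinearMap.finrank_range_add_finrank_ker (A.1 - c • 1).mulVecLin
        rw [Module.finrank_fin_fun] at this
        omega
      have hmem : ∀ (c : F) w, w ∈ LinearMap.ker (A.1 - c • 1).mulVecLin ↔ A.1 *ᵥ w = c • w := fun c w => by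
        rw [LinearMap.mem_ker, Matrix.mulVecLin_apply, sub_mulVec, smul_mulVec, one_mulVec, sub_eq_zero]
      have huniq : ∀ c' : F, Module.finrank F (LinearMap.range (A.1 - c' • 1).mulVecLin) ≤ 2 → c' = c := by
        intro c' hc'
        by_contra hne
        set K := LinearMap.ker (A.1 - c • 1).mulVecLin
        set K' := LinearMap.ker (A.1 - c' • 1).mulVecLin
        have hdis : K ⊓ K' = ⊥ := by
          rw [Submodule.eq_bot_iff]
          intro w hw
          obtain ⟨h1, h2⟩ := Submodule.mem_inf.1 hw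
          rw [hmem] at h1 h2
          have h3 : (c - c') • w = 0 := by rw [sub_smul, ← h1, ← h2, sub_self]
          exact (smul_eq_zero.1 h3).resolve_left (sub_ne_zero.2 (Ne.symm hne))
        have h1 := Submodule.finrank_sup_add_finrank_inf_eq K K'
        rw [hdis, finrank_bot, add_zero] at h1
        have h2 := Submodule.finrank_le (K ⊔ K')
        rw [Module.finrank_fin_fun] at h2
        have h3 : m + 1 ≤ Module.finrank F K + 2 := hker c hc
        have h4 : m + 1 ≤ Module.finrank F K' + 2 := hker c' hc'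
        have h5 : m + 1 = 4 := by omega
        have htop : K ⊔ K' = ⊤ := Submodule.eq_top_of_finrank_eq (by rw [Module.finrank_fin_fun]; omega)
        refine hq h5 (c + c') (c * c') (Cfsg.Agent.Lib.Sourour.ext_mulVec' fun u => ?_)
        obtain ⟨p, hp, p', hp', rfl⟩ := Submodule.mem_sup.1 (htop.ge (Submodule.mem_top (x := u)))
        rw [hmem] at hp hp'
        simp only [mulVec_add, ← mulVec_mulVec, sub_mulVec, smul_mulVec, one_mulVec, hp, hp', mulVec_smul,
          smul_smul]
        module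
      have hnot : ¬LinearMap.ker (A.1 - c • 1).mulVecLin ≤ LinearMap.range (A.1 - c • 1).mulVecLin := by
        intro hle
        have h1 := Submodule.finrank_mono hle
        have h3 := hker c hc
        have h5 : m + 1 = 4 := by omega
        have heq := Submodule.eq_of_le_of_finrank_le hle (by omega)
        refine hq h5 (c + c) (c * c) (Cfsg.Agent.Lib.Sourour.ext_mulVec' fun u => ?_)
        have h6 : (A.1 - c • 1) *ᵥ u ∈ LinearMap.ker (A.1 - c • 1).mulVecLin := by rw [heq]; exact ⟨u, rfl⟩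
        rw [hmem, sub_mulVec, smul_mulVec, one_mulVec, mulVec_sub, mulVec_smul, smul_sub, smul_smul, sub_eq_iff_eq_add]
          at h6
        rw [← mulVec_mulVec, h6, sub_mulVec, smul_mulVec, smul_mulVec, one_mulVec]
        module
      obtain ⟨w, hw, hwR⟩ := SetLike.not_le_iff_exists.1 hnot
      refine ⟨c, w, fun e => hwR (by rw [e]; exact Submodule.zero_mem _), (hmem c w).1 hw, fun c' hc' => ?_⟩
      rw [huniq c' hc']
      exact hwR
    · obtain ⟨a, v, hv0, hv⟩ := he
      exact ⟨a, v, hv0, hv, fun c h => absurd ⟨c, h⟩ hc⟩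
  obtain ⟨Q, x, A', hQ, hAQ⟩ := exists_quot hv0 hv
  refine ⟨a, Q, x, A', hAQ, fun c ⟨r, hr⟩ => ?_⟩
  have h1 := quot_range hAQ hr
  rw [hQ] at h1
  have h2 : Module.finrank F (Submodule.span F (Set.range ![v, Q.1 *ᵥ Fin.cons 0 r])) ≤ 2 :=
    (finrank_range_le_card ![v, Q.1 *ᵥ Fin.cons 0 r]).trans (by simp)
  have h3 := Submodule.finrank_mono h1
  have h4 := not_R1.1 (hA c)
  refine hgood c (by omega) ?_
  show v ∈ LinearMap.range (A.1 - c • 1).mulVecLin
  rw [Submodule.eq_of_le_of_finrank_le h1 (by omega)]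
  exact Submodule.subset_span ⟨0, rfl⟩

theorem exists_rootless [Fintype F] {δ : F} (hδ : δ ≠ 0) : ∃ σ : F, ∀ x : F, x * x - σ * x + δ ≠ 0 := by
  classical
  have hns : ¬Function.Surjective fun x : Fˣ => (x : F) + δ / (x : F) := fun h => by
    have h1 := Fintype.card_le_of_surjective _ h
    rw [Fintype.card_units] at h1
    have := Fintype.card_pos (α := F)
    omega
  obtain ⟨σ, hσ⟩ : ∃ σ : F, ∀ x : Fˣ, (x : F) + δ / (x : F) ≠ σ := by
    by_contra h
    push Not at h
    exact hns h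
  refine ⟨σ, fun x hx => ?_⟩
  rcases eq_or_ne x 0 with rfl | hx0
  · exact hδ (by linear_combination hx)
  · refine hσ (Units.mk0 x hx0) ?_
    rw [Units.val_mk0]
    field_simp
    linear_combination hx

/-- Every nonscalar element of the right determinant. -/
theorem nf_any [Fintype F] (h4 : 4 ≤ Fintype.card F) : ∀ (n : ℕ), 3 ≤ n → ∀ (A : GL (Fin n) F), NonPseudo A.1 →
    ∀ g : GL (Fin n) F, (∀ c : F, g.1 ≠ c • 1) → GeneralLinearGroup.det g = GeneralLinearGroup.det A ^ n →
      NF A n g := by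
  intro n
  induction n using Nat.strong_induction_on with
  | _ n ih =>
    intro hn A hA g hg hdet
    obtain ⟨m, rfl⟩ : ∃ m, n = m + 1 := ⟨n - 1, by omega⟩
    by_cases hNE : NoEig A.1
    · rcases (show m = 2 ∨ m = 3 ∨ 4 ≤ m by omega) with rfl | rfl | hm
      · exact three_irr h4 hA hNE hg hdet
      · exact NF.of_noEig hNE (by omega) (weak_four h4 hNE hdet (Or.inl hg))
      · exact NF.of_noEig hNE (by omega) (weak_five h4 (by omega) A hNE g hdet (Or.inl hg))
    have he : ∃ (a : F) (v : Fin (m + 1) → F), v ≠ 0 ∧ A.1 *ᵥ v = a • v := by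
      by_contra h
      push Not at h
      exact hNE fun a v hv => by_contra fun h0 => h a v h0 hv
    have hdM : ∀ (a : F) (Q : GL (Fin (m + 1)) F) (x : Fin m → F) (A' : GL (Fin m) F) (B P : GL (Fin (m + 1)) F)
        (r : Fin m → F) (M : GL (Fin m) F), A.1 * Q.1 = Q.1 * blk a x 0 A'.1 → Fac ⊥ A B →
        (P⁻¹ * (B⁻¹ * g) * P).1 = blk (a ^ m) r 0 M.1 →
        GeneralLinearGroup.det M = GeneralLinearGroup.det A' ^ m := by
      intro a Q x A' B P r M hAQ hB hH
      obtain ⟨S, -, rfl⟩ := hB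
      have hD : A.1.det = a * A'.1.det := by
        have h1 := congrArg Matrix.det hAQ
        rw [det_mul, det_mul, det_blk_upper, mul_comm] at h1
        exact mul_left_cancel₀ (GeneralLinearGroup.det_ne_zero Q) h1
      have hh : GeneralLinearGroup.det (P⁻¹ * ((S * A * S⁻¹)⁻¹ * g) * P) = GeneralLinearGroup.det A ^ m := by
        simp only [map_mul, map_inv]
        rw [hdet, pow_succ]
        rw [mul_comm _ (GeneralLinearGroup.det P), mul_inv_cancel_left, mul_comm (GeneralLinearGroup.det S),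
          mul_inv_cancel_right, mul_comm (GeneralLinearGroup.det A ^ m), inv_mul_cancel_left]
      have h1 := congrArg Units.val hh
      rw [det_val, hH, det_blk_upper, Units.val_pow_eq_pow_val, det_val, hD, mul_pow] at h1
      refine Units.ext ?_
      rw [det_val, Units.val_pow_eq_pow_val, det_val]
      refine mul_left_cancel₀ (pow_ne_zero _ fun e => GeneralLinearGroup.det_ne_zero A ?_) h1
      rw [hD, e, zero_mul]
    rcases (show m = 2 ∨ 3 ≤ m by omega) with rfl | hm
    · obtain ⟨a, v, hv0, hv⟩ := he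
      obtain ⟨Q, x, A', -, hAQ⟩ := exists_quot hv0 hv
      have hA' := quot_not_scalar hAQ hA
      have ha : a ≠ 0 := fun e => hv0 (by
        have h1 := congrArg ((A⁻¹).1 *ᵥ ·) hv
        simpa [e, mulVec_mulVec] using h1)
      set δ := (GeneralLinearGroup.det A' : F) ^ 2 with hδ
      obtain ⟨σ, hσ⟩ := exists_rootless (δ := δ) (pow_ne_zero _ (Units.ne_zero _))
      obtain ⟨B, P, r, M, hB, hH, hMt, -, hv'⟩ := three_tune (cyc_three hA) hg (pow_ne_zero 2 ha) σ
      have hMd := hdM a Q x A' B P r M hAQ hB hH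
      have hMNE : NoEig M.1 := by
        intro b u hu
        by_contra hu0
        have h0 : (M.1 - b • 1).det = 0 := Matrix.exists_mulVec_eq_zero_iff.1
          ⟨u, hu0, by rw [sub_mulVec, smul_mulVec, one_mulVec, hu, sub_self]⟩
        refine hσ b ?_
        rw [hδ, ← Units.val_pow_eq_pow_val, ← hMd, det_val, ← hMt, trace_fin_two, det_fin_two]
        rw [det_fin_two] at h0
        simp at h0
        linear_combination h0
      exact (peel hAQ (by norm_num) hB hH hv' (pair_two hA' hMNE hMd)).1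
    by_cases hq : m + 1 = 4 ∧ ∃ t d : F, A.1 * A.1 = t • A.1 - d • 1
    · obtain ⟨hm4, t, d, hq⟩ := hq
      obtain rfl : m = 3 := by omega
      exact (four_quad h4 hq hA hdet (Or.inl hg)).2
    push Not at hq
    obtain ⟨a, Q, x, A', hAQ, hA'⟩ := exists_good_quot (by omega) hA he hq
    have ha : a ≠ 0 := fun e => by
      have h1 := congrArg Matrix.det hAQ
      rw [det_mul, det_mul, det_blk_upper, e, zero_mul, mul_zero, mul_eq_zero] at h1
      exact h1.elim (GeneralLinearGroup.det_ne_zero A) (GeneralLinearGroup.det_ne_zero Q)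
    obtain ⟨B, P, r, M, hB, hH, hMs, hv'⟩ := first_factor (by omega) hA.not_scalar hg ha
    exact (peel hAQ (by omega) hB hH hv'
      (ih m (by omega) hm A' hA' M hMs (hdM a Q x A' B P r M hAQ hB hH))).1

end Cfsg.Agent.Lib.LevCover
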